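import Mathlib
import Cfsg.Prelude.Def_OddOrderLocal
import Cfsg.Agent.Lib.Helper01.CyclicAux
import Cfsg.Agent.Lib.Helper13.BG12A

/-!
# K-S1353-K (keystone 135308, architect helper58): two easy facts about `κ(M)`
-/

set_option autoImplicit false

namespace Cfsg.Agent.Lib.Helper64.BG14

open Cfsg

variable {G : Type*} [Group G] [Finite G]

/-- in a finite cyclic `p`-group, an element killed by `p` is a power of any non-identity element -/
theorem mem_zpowers_of_isCyclic_pGroup {C : Type*} [Group C] [Finite C] [IsCyclic C] {p : ℕ}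
    [hp : Fact p.Prime] (hC : IsPGroup p C) (x z : C) (hx : x ≠ 1) (hz : z ^ p = 1) :
    z ∈ Subgroup.zpowers x := by
  obtain ⟨k, hk⟩ := IsPGroup.iff_orderOf.mp hC x
  have hk0 : k ≠ 0 := by
    rintro rfl
    rw [pow_zero, orderOf_eq_one_iff] at hk
    exact hx hk
  obtain ⟨j, rfl⟩ := Nat.exists_eq_succ_of_ne_zero hk0
  have hw : orderOf (x ^ p ^ j) = p := by
    rw [orderOf_pow_of_dvd (pow_ne_zero _ hp.out.ne_zero) (by rw [hk]; exact pow_dvd_pow p (Nat.le_succ j)),
      hk, pow_succ, Nat.mul_div_cancel_left _ (pow_pos hp.out.pos j)]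
  have h1 := Cfsg.Agent.Lib.Helper01.mem_zpowers_of_isCyclic hp.out.pos (x ^ p ^ j) z hw hz
  exact (Subgroup.zpowers_le.mpr (Subgroup.pow_mem _ (Subgroup.mem_zpowers x) _)) h1

theorem cent_ne_bot_of_mem_kappa (hG : IsMinSimpleOddOrder G) {M P : Subgroup G} (hM : IsCoatom M)
    {p : ℕ} (hp : p ∈ kappa M) (hPM : P ≤ M) (hPc : Nat.card P = p) :
    sigmaCore M ⊓ Subgroup.centralizer (P : Set G) ≠ ⊥ := by
  obtain ⟨hpp, hpM, hpσ, hall⟩ := hp
  have : Fact p.Prime := ⟨hpp⟩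
  have hPp : IsPGroup p P := IsPGroup.of_card (n := 1) (by rw [hPc, pow_one])
  have hP' : IsPGroup p (P.subgroupOf M) := hPp.comap_of_injective M.subtype M.subtype_injective
  obtain ⟨Q, hQ⟩ := hP'.exists_le_sylow
  obtain ⟨hcyc, x, hxQ, hx1, y, hyσ, hy1, hxy⟩ := hall Q
  intro hbot
  apply hy1
  have hy : y ∈ sigmaCore M ⊓ Subgroup.centralizer (P : Set G) := by
    refine Subgroup.mem_inf.mpr ⟨hyσ, ?_⟩
    rw [Subgroup.mem_centralizer_iff]
    intro z hz
    have hzM : z ∈ M := hPM hz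
    have hzQ : (⟨z, hzM⟩ : M) ∈ (Q : Subgroup M) := hQ (by
      rw [Subgroup.mem_subgroupOf]; exact hz)
    have hzp : z ^ p = 1 := by
      have h0 : (⟨z, hz⟩ : P) ^ Nat.card P = 1 := pow_card_eq_one'
      have h1 := congrArg Subtype.val h0
      rw [Subgroup.coe_pow, Subgroup.coe_one, hPc] at h1
      exact h1
    have hmem := mem_zpowers_of_isCyclic_pGroup (C := ↥(Q : Subgroup M)) (p := p) Q.isPGroup'
      ⟨x, hxQ⟩ ⟨⟨z, hzM⟩, hzQ⟩ (by
        intro h
        apply hx1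
        exact congrArg Subtype.val h) (by
        apply Subtype.ext
        apply Subtype.ext
        simp only [Subgroup.coe_pow, Subgroup.coe_one]
        exact hzp)
    obtain ⟨n, hn⟩ := Subgroup.mem_zpowers_iff.mp hmem
    have hzx : z = (x : G) ^ n := by
      have h1 := congrArg (fun t : ↥(Q : Subgroup M) => ((t : M) : G)) hn
      simp only [Subgroup.coe_zpow] at h1
      exact h1.symm
    rw [hzx]
    have hc : Commute ((x : G)) y := hxy
    exact (hc.zpow_left n).eq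
  rw [hbot, Subgroup.mem_bot] at hy
  exact hy

theorem mem_kappa_of_cent_ne_bot (hG : IsMinSimpleOddOrder G) {M R : Subgroup G} (hM : IsCoatom M)
    {r : ℕ} (hr : r.Prime) (hrM : r ∣ Nat.card M) (hrσ : r ∉ sigma M) (hr1 : PRankLE r 1 M)
    (hRM : R ≤ M) (hRc : Nat.card R = r)
    (hC : sigmaCore M ⊓ Subgroup.centralizer (R : Set G) ≠ ⊥) : r ∈ kappa M := by
  have : Fact r.Prime := ⟨hr⟩
  have hr2 : r ≠ 2 := by
    rintro rfl
    have hodd : Odd (Nat.card M) := Odd.of_dvd_nat hG.1 (Subgroup.card_subgroup_dvd_card M)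
    exact (Nat.not_even_iff_odd.mpr hodd) (even_iff_two_dvd.mpr hrM)
  refine ⟨hr, hrM, hrσ, fun P => ?_⟩
  have hcyc : IsCyclic ↥(P : Subgroup M) := by
    have h1 : IsCyclic ↥((P : Subgroup M).map M.subtype) :=
      Cfsg.Agent.Lib.Helper13.BG12.isCyclic_of_pRankLE_one hr2 hr1 (Subgroup.map_subtype_le _)
        (P.isPGroup'.map _)
    exact isCyclic_of_injective
      ((P : Subgroup M).equivMapOfInjective M.subtype M.subtype_injective).toMonoidHom
      (MulEquiv.injective _)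
  refine ⟨hcyc, ?_⟩
  -- a non-identity element of `R` and a non-identity fixed point
  obtain ⟨⟨y, hy⟩, hy1⟩ := (Subgroup.ne_bot_iff_exists_ne_one).mp hC
  have hy1' : y ≠ 1 := fun h => hy1 (Subtype.ext h)
  obtain ⟨hyσ, hyc⟩ := Subgroup.mem_inf.mp hy
  have hRne : R ≠ ⊥ := by
    intro h
    have : Nat.card R = 1 := by rw [h]; exact Subgroup.card_bot
    rw [hRc] at this
    exact hr.one_lt.ne' this
  obtain ⟨⟨z, hz⟩, hz1⟩ := (Subgroup.ne_bot_iff_exists_ne_one).mp hRne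
  have hz1' : z ≠ 1 := fun h => hz1 (Subtype.ext h)
  have hzM : z ∈ M := hRM hz
  -- a Sylow subgroup containing `R`, and its conjugate `P`
  have hRp : IsPGroup r R := IsPGroup.of_card (n := 1) (by rw [hRc, pow_one])
  have hR' : IsPGroup r (R.subgroupOf M) := hRp.comap_of_injective M.subtype M.subtype_injective
  obtain ⟨P₀, hP₀⟩ := hR'.exists_le_sylow
  obtain ⟨g, hg⟩ := MulAction.exists_smul_eq M P₀ P
  have hzP₀ : (⟨z, hzM⟩ : M) ∈ (P₀ : Subgroup M) := hP₀ (by
    rw [Subgroup.mem_subgroupOf]; exact hz)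
  have hxP : g * ⟨z, hzM⟩ * g⁻¹ ∈ (P : Subgroup M) := by
    rw [← hg, Sylow.coe_subgroup_smul]
    have := Subgroup.smul_mem_pointwise_smul _ (MulAut.conj g) _ hzP₀
    rwa [MulAut.smul_def, MulAut.conj_apply] at this
  -- `y` conjugated
  have hyσ' : (g : G) * y * (g : G)⁻¹ ∈ sigmaCore M := by
    obtain ⟨y₀, hy₀, rfl⟩ := hyσ
    have hn : (piCore (sigma M) ↥M).Normal := piCore_normal _ _
    exact ⟨g * y₀ * g⁻¹, hn.conj_mem y₀ hy₀ g, by simp⟩
  refine ⟨g * ⟨z, hzM⟩ * g⁻¹, hxP, ?_, (g : G) * y * (g : G)⁻¹, hyσ', ?_, ?_⟩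
  · intro h
    apply hz1'
    have h2 : (⟨z, hzM⟩ : M) = 1 := by
      have := congrArg (fun t => g⁻¹ * t * g) h
      simpa [mul_assoc] using this
    exact congrArg Subtype.val h2
  · intro h
    apply hy1'
    have := congrArg (fun t => (g : G)⁻¹ * t * (g : G)) h
    simpa [mul_assoc] using this
  · have hzy : z * y = y * z := (Subgroup.mem_centralizer_iff.mp hyc) z hz
    simp only [Subgroup.coe_mul, Subgroup.coe_inv]
    calc (g : G) * z * (g : G)⁻¹ * ((g : G) * y * (g : G)⁻¹)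
        = (g : G) * (z * y) * (g : G)⁻¹ := by group
      _ = (g : G) * (y * z) * (g : G)⁻¹ := by rw [hzy]
      _ = (g : G) * y * (g : G)⁻¹ * ((g : G) * z * (g : G)⁻¹) := by group

end Cfsg.Agent.Lib.Helper64.BG14
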