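import Mathlib
import Cfsg.Agent.Lib.Helper16.BG1363Defs
import Cfsg.Agent.Lib.Helper71.BG11a
import Cfsg.Agent.S1350

/-!
# K-1363-H (keystone 136308, architect helper16): `N_G(U) ≤ M ⟹ H_σ ≤ U`
-/

set_option autoImplicit false

namespace Cfsg.Agent.Lib.Helper64.BG1363

open Cfsg Subgroup Cfsg.Agent.Lib.Helper11.BG14D Cfsg.Agent.Lib.Helper16.BG1363

variable {G : Type*} [Group G] [Finite G]

/-- splitting a positive number into its `n`-part and its part prime to `n` -/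
theorem exists_split (n : ℕ) : ∀ d : ℕ, d ≠ 0 →
    ∃ m₁ m₂ : ℕ, d = m₁ * m₂ ∧ (∀ p : ℕ, p.Prime → p ∣ m₁ → p ∣ n) ∧ m₂.Coprime n := by
  intro d
  induction d using Nat.recOnMul with
  | zero => intro h; exact absurd rfl h
  | one =>
    intro _
    exact ⟨1, 1, rfl, fun p hp h => absurd (Nat.dvd_one.mp h) hp.ne_one, Nat.coprime_one_left n⟩
  | prime p hp =>
    intro _
    by_cases hpn : p ∣ n
    · refine ⟨p, 1, (mul_one _).symm, ?_, Nat.coprime_one_left n⟩
      intro q hq hqd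
      rw [(Nat.prime_dvd_prime_iff_eq hq hp).mp hqd]; exact hpn
    · exact ⟨1, p, (one_mul _).symm, fun q hq h => absurd (Nat.dvd_one.mp h) hq.ne_one,
        (Nat.Prime.coprime_iff_not_dvd hp).2 hpn⟩
  | mul a b iha ihb =>
    intro hab
    obtain ⟨a₁, a₂, ha, ha1, ha2⟩ := iha (left_ne_zero_of_mul hab)
    obtain ⟨b₁, b₂, hb, hb1, hb2⟩ := ihb (right_ne_zero_of_mul hab)
    refine ⟨a₁ * b₁, a₂ * b₂, by rw [ha, hb]; ring, ?_, Nat.Coprime.mul_left ha2 hb2⟩
    intro p hp hpd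
    rcases (Nat.Prime.dvd_mul hp).mp hpd with h | h
    · exact ha1 p hp h
    · exact hb1 p hp h

/-- every element is the product of two of its powers, one whose order involves only the primes of `n`,
one of order prime to `n` -/
theorem exists_decomp (x : G) (n : ℕ) :
    ∃ x₁ x₂ : G, x = x₁ * x₂ ∧ x₁ ∈ zpowers x ∧ x₂ ∈ zpowers x ∧
      (∀ p : ℕ, p.Prime → p ∣ orderOf x₁ → p ∣ n) ∧ (orderOf x₂).Coprime n := by
  have hd : orderOf x ≠ 0 := (orderOf_pos x).ne'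
  obtain ⟨m₁, m₂, hdm, h1, h2⟩ := exists_split n (orderOf x) hd
  have hcop : m₁.Coprime m₂ := Nat.coprime_of_dvd fun k hk hk1 hk2 => by
    have h3 : k ∣ Nat.gcd m₂ n := Nat.dvd_gcd hk2 (h1 k hk hk1)
    rw [Nat.Coprime] at h2
    rw [h2] at h3
    exact hk.ne_one (Nat.dvd_one.mp h3)
  have hb : (m₁ : ℤ) * Nat.gcdA m₁ m₂ + (m₂ : ℤ) * Nat.gcdB m₁ m₂ = 1 := by
    have := Nat.gcd_eq_gcd_ab m₁ m₂
    rw [Nat.Coprime] at hcop
    rw [hcop] at this
    rw [← this]; norm_num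
  have hord : ((orderOf x : ℕ) : ℤ) = (m₁ : ℤ) * (m₂ : ℤ) := by rw [hdm]; push_cast; ring
  refine ⟨x ^ ((m₂ : ℤ) * Nat.gcdB m₁ m₂), x ^ ((m₁ : ℤ) * Nat.gcdA m₁ m₂), ?_,
    zpow_mem_zpowers x _, zpow_mem_zpowers x _, ?_, ?_⟩
  · rw [← zpow_add, add_comm, hb, zpow_one]
  · have hx1 : (x ^ ((m₂ : ℤ) * Nat.gcdB m₁ m₂)) ^ m₁ = 1 := by
      rw [← zpow_natCast, ← zpow_mul, ← orderOf_dvd_iff_zpow_eq_one, hord]
      exact ⟨Nat.gcdB m₁ m₂, by ring⟩
    intro p hp hpd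
    exact h1 p hp (hpd.trans (orderOf_dvd_of_pow_eq_one hx1))
  · have hx2 : (x ^ ((m₁ : ℤ) * Nat.gcdA m₁ m₂)) ^ m₂ = 1 := by
      rw [← zpow_natCast, ← zpow_mul, ← orderOf_dvd_iff_zpow_eq_one, hord]
      exact ⟨Nat.gcdA m₁ m₂, by ring⟩
    exact Nat.Coprime.coprime_dvd_left (orderOf_dvd_of_pow_eq_one hx2) h2

/-- an element of `H` whose order involves only primes dividing `|H_σ|` lies in `H_σ`
(`H_σ` is a normal Hall subgroup of `H`) -/
theorem mem_sigmaCore_of_orderOf (hG : IsMinSimpleOddOrder G) {H : Subgroup G} (hH : IsCoatom H)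
    {x : G} (hx : x ∈ H)
    (hord : ∀ p : ℕ, p.Prime → p ∣ orderOf x → p ∣ Nat.card (sigmaCore H)) :
    x ∈ sigmaCore H := by
  obtain ⟨hle, hpi, hidx⟩ := (Cfsg.Agent.S1350.result hG H hH).1
  have hnorm : ((sigmaCore H).subgroupOf H).Normal :=
    (Subgroup.normal_subgroupOf_iff_le_normalizer hle).mpr
      (Cfsg.Agent.Lib.Helper71.BG11.le_normalizer_sigmaCore H)
  have h1 : (⟨x, hx⟩ : H) ^ ((sigmaCore H).subgroupOf H).index ∈ (sigmaCore H).subgroupOf H :=
    Subgroup.pow_index_mem _ _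
  have hoo : orderOf (⟨x, hx⟩ : H) = orderOf x := by
    rw [← Subgroup.orderOf_coe]
  have hcop : (((sigmaCore H).subgroupOf H).index).Coprime (orderOf (⟨x, hx⟩ : H)) := by
    rw [hoo]
    refine (Nat.coprime_of_dvd fun k hk hk1 hk2 => ?_).symm
    exact hidx k hk (hpi k hk (hord k hk hk1)) hk2
  obtain ⟨m, hm⟩ := exists_pow_eq_self_of_coprime hcop
  have h2 : (⟨x, hx⟩ : H) ∈ (sigmaCore H).subgroupOf H := by
    rw [← hm]; exact pow_mem h1 m
  exact Subgroup.mem_subgroupOf.mp h2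

theorem NU.sigma_le_U (hG : IsMinSimpleOddOrder G) {M K U R H : Subgroup G} {r : ℕ} (c : NU M K U R H r)
    (hUKH : U ⊔ K ≤ H) (hnil : Group.IsNilpotent (sigmaCore H))
    (hcent : ∀ u ∈ U, (orderOf u).Coprime (Nat.card (sigmaCore H)) → u ∈ centralizer (sigmaCore H : Set G))
    (hVU : sigmaCore H ⊓ M ≤ U) (hN : normalizer (U : Set G) ≤ M) :
    sigmaCore H ≤ U := by
  have hUH : U ≤ H := le_sup_left.trans hUKH
  have key : ∀ t : sigmaCore H, t ∈ normalizer ((U.subgroupOf (sigmaCore H) : Subgroup (sigmaCore H)) : Set (sigmaCore H)) →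
      ∀ u ∈ U, (t : G) * u * (t : G)⁻¹ ∈ U := by
    intro t ht u hu
    obtain ⟨u₁, u₂, huu, hu1z, hu2z, hu1, hu2⟩ := exists_decomp u (Nat.card (sigmaCore H))
    have hzU : zpowers u ≤ U := (Subgroup.zpowers_le).mpr hu
    have hu1U : u₁ ∈ U := hzU hu1z
    have hu2U : u₂ ∈ U := hzU hu2z
    have hu1N : u₁ ∈ sigmaCore H := mem_sigmaCore_of_orderOf hG c.hH (hUH hu1U) hu1
    have hu2c := hcent u₂ hu2U hu2
    have h2 : (t : G) * u₂ * (t : G)⁻¹ = u₂ := by
      have := (Subgroup.mem_centralizer_iff.mp hu2c) (t : G) t.2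
      rw [this, mul_inv_cancel_right]
    have h1 : (t : G) * u₁ * (t : G)⁻¹ ∈ U := by
      have hmem : (⟨u₁, hu1N⟩ : sigmaCore H) ∈ U.subgroupOf (sigmaCore H) :=
        Subgroup.mem_subgroupOf.mpr hu1U
      have := (Subgroup.mem_normalizer_iff.mp ht ⟨u₁, hu1N⟩).mp hmem
      exact Subgroup.mem_subgroupOf.mp this
    have : (t : G) * u * (t : G)⁻¹ = ((t : G) * u₁ * (t : G)⁻¹) * ((t : G) * u₂ * (t : G)⁻¹) := by
      rw [huu]; group
    rw [this, h2]
    exact U.mul_mem h1 hu2U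
  have hself : normalizer ((U.subgroupOf (sigmaCore H) : Subgroup (sigmaCore H)) : Set (sigmaCore H))
      = U.subgroupOf (sigmaCore H) := by
    apply le_antisymm _ Subgroup.le_normalizer
    intro t ht
    have htinv : t⁻¹ ∈ normalizer ((U.subgroupOf (sigmaCore H) : Subgroup (sigmaCore H)) : Set (sigmaCore H)) :=
      inv_mem ht
    have htN : (t : G) ∈ normalizer (U : Set G) := by
      rw [Subgroup.mem_normalizer_iff]
      intro u
      constructor
      · exact key t ht u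
      · intro h
        have h3 := key t⁻¹ htinv _ h
        have h4 : ((t⁻¹ : sigmaCore H) : G) * ((t : G) * u * (t : G)⁻¹) * ((t⁻¹ : sigmaCore H) : G)⁻¹ = u := by
          rw [Subgroup.coe_inv]; group
        rwa [h4] at h3
    have htM : (t : G) ∈ M := hN htN
    have : (t : G) ∈ U := hVU ⟨t.2, htM⟩
    exact Subgroup.mem_subgroupOf.mpr this
  have : Group.IsNilpotent (sigmaCore H) := hnil
  have hnc : NormalizerCondition (sigmaCore H) := Group.normalizerCondition_of_isNilpotent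
  have htop : U.subgroupOf (sigmaCore H) = ⊤ :=
    (normalizerCondition_iff_only_full_group_self_normalizing.mp hnc) _ hself
  intro x hx
  have : (⟨x, hx⟩ : sigmaCore H) ∈ U.subgroupOf (sigmaCore H) := by rw [htop]; exact Subgroup.mem_top _
  exact Subgroup.mem_subgroupOf.mp this

end Cfsg.Agent.Lib.Helper64.BG1363
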