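import Mathlib

/-!
# K-153-F (keystone 143806, architect helper32): a Hall subgroup of a nilpotent subgroup is the unique
subgroup of its order
-/

set_option autoImplicit false

namespace Cfsg.Agent.Lib.Helper64.BG153

/-- a normal Hall subgroup `A` of `L` contains every subgroup of `L` whose order divides `|A|` -/
theorem le_of_normal_hall {X : Type*} [Group X] [Finite X] {L A B : Subgroup X} (hAL : A ≤ L)
    (hBL : B ≤ L) (hLn : L ≤ Subgroup.normalizer (A : Set X))
    (hcop : (Nat.card A).Coprime (A.relIndex L)) (hcard : Nat.card B ∣ Nat.card A) : B ≤ A := by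
  intro b hb
  have hnorm : (A.subgroupOf L).Normal :=
    (Subgroup.normal_subgroupOf_iff_le_normalizer hAL).mpr hLn
  have h1 : (⟨b, hBL hb⟩ : L) ^ (A.subgroupOf L).index ∈ A.subgroupOf L :=
    Subgroup.pow_index_mem _ _
  have hoo : orderOf (⟨b, hBL hb⟩ : L) = orderOf b := by
    rw [← Subgroup.orderOf_coe]
  have hob : orderOf b ∣ Nat.card A := by
    have h3 : orderOf (⟨b, hb⟩ : B) ∣ Nat.card B := orderOf_dvd_natCard _
    have h4 : orderOf (⟨b, hb⟩ : B) = orderOf b := by rw [← Subgroup.orderOf_coe]
    rw [h4] at h3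
    exact h3.trans hcard
  have hcop' : ((A.subgroupOf L).index).Coprime (orderOf (⟨b, hBL hb⟩ : L)) := by
    rw [hoo]
    exact (Nat.Coprime.coprime_dvd_left hob hcop).symm
  obtain ⟨m, hm⟩ := exists_pow_eq_self_of_coprime hcop'
  have h2 : (⟨b, hBL hb⟩ : L) ∈ A.subgroupOf L := by
    rw [← hm]; exact pow_mem h1 m
  exact Subgroup.mem_subgroupOf.mp h2

/-- in a finite nilpotent group a Hall subgroup is the only subgroup of its order -/
theorem eq_of_hall_nilpotent_type {X : Type*} [Group X] [Finite X] [Group.IsNilpotent X]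
    {A B : Subgroup X} (hcop : (Nat.card A).Coprime A.index) (hcard : Nat.card B = Nat.card A) :
    B = A := by
  have hnc : NormalizerCondition X := Group.normalizerCondition_of_isNilpotent
  have hAL : A ≤ Subgroup.normalizer (A : Set X) := Subgroup.le_normalizer
  have hcopL : (Nat.card A).Coprime (A.relIndex (Subgroup.normalizer (A : Set X))) :=
    Nat.Coprime.coprime_dvd_right (Subgroup.relIndex_dvd_index_of_le hAL) hcop
  have hself : Subgroup.normalizer ((Subgroup.normalizer (A : Set X) : Subgroup X) : Set X)
      = Subgroup.normalizer (A : Set X) := by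
    apply le_antisymm _ Subgroup.le_normalizer
    intro z hz
    have hB'L : A.map (MulAut.conj z).toMonoidHom ≤ Subgroup.normalizer (A : Set X) := by
      rintro _ ⟨a, ha, rfl⟩
      exact (Subgroup.mem_normalizer_iff.mp hz a).mp (hAL ha)
    have hcardB' : Nat.card (A.map (MulAut.conj z).toMonoidHom) = Nat.card A :=
      Subgroup.card_map_of_injective (MulAut.conj z).injective
    have hle : A.map (MulAut.conj z).toMonoidHom ≤ A :=
      le_of_normal_hall hAL hB'L le_rfl hcopL (by rw [hcardB'])
    have heq : A.map (MulAut.conj z).toMonoidHom = A :=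
      Subgroup.eq_of_le_of_card_ge hle (by rw [hcardB'])
    rw [Subgroup.mem_normalizer_iff]
    intro h
    constructor
    · intro hh
      exact heq.le ⟨h, hh, rfl⟩
    · intro hh
      obtain ⟨a, ha, hae⟩ := heq.ge hh
      have hae' : z * a * z⁻¹ = z * h * z⁻¹ := hae
      have : a = h := by
        have := congrArg (fun x => z⁻¹ * x * z) hae'
        simpa [mul_assoc] using this
      rwa [← this]
  have htop : Subgroup.normalizer (A : Set X) = ⊤ :=
    (normalizerCondition_iff_only_full_group_self_normalizing.mp hnc) _ hself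
  have hle : B ≤ A :=
    le_of_normal_hall (L := ⊤) le_top le_top (by rw [htop])
      (by rwa [Subgroup.relIndex_top_right]) (by rw [hcard])
  exact Subgroup.eq_of_le_of_card_ge hle (by rw [hcard])

variable {G : Type*} [Group G] [Finite G]

theorem eq_of_hall_of_nilpotent {N H H' : Subgroup G} (hHN : H ≤ N) (hH'N : H' ≤ N)
    (hnil : Group.IsNilpotent N) (hHall : (Nat.card H).Coprime (H.relIndex N))
    (hcard : Nat.card H' = Nat.card H) : H' = H := by
  have : Group.IsNilpotent N := hnil
  have hc1 : Nat.card (H.subgroupOf N) = Nat.card H :=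
    Nat.card_congr (Subgroup.subgroupOfEquivOfLe hHN).toEquiv
  have hc2 : Nat.card (H'.subgroupOf N) = Nat.card H' :=
    Nat.card_congr (Subgroup.subgroupOfEquivOfLe hH'N).toEquiv
  have hcop : (Nat.card (H.subgroupOf N)).Coprime (H.subgroupOf N).index := by
    rw [hc1]; exact hHall
  have heq : H'.subgroupOf N = H.subgroupOf N :=
    eq_of_hall_nilpotent_type hcop (by rw [hc1, hc2, hcard])
  have h1 := Subgroup.subgroupOf_inj.mp heq
  rwa [inf_of_le_left hH'N, inf_of_le_left hHN] at h1

end Cfsg.Agent.Lib.Helper64.BG153
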