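import Mathlib
import Cfsg.Agent.S1350
import Cfsg.Agent.Lib.Helper71.BG10Hall
import Cfsg.Agent.Lib.Helper71.BG11a
import Cfsg.Agent.Lib.Helper64.BG153F

/-!
# K-1382-C (keystone 138203, architect helper2): a nontrivial nilpotent Hall subgroup `U'` of `M_σ`
has `N_G(U') ≤ M`
-/

set_option autoImplicit false

namespace Cfsg.Agent.Lib.Helper64.BG1382

open Cfsg Cfsg.Agent.Lib.Helper55

/-- a `q`-subgroup of `L` of index prime to `q` is a Sylow `q`-subgroup of `L` -/
theorem isSylowIn_of_not_dvd_relIndex {G : Type*} [Group G] [Finite G] {q : ℕ} [Fact q.Prime]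
    {T L : Subgroup G} (hT : IsPGroup q T) (hTL : T ≤ L) (h : ¬ q ∣ T.relIndex L) :
    IsSylowIn q L T := by
  have hT' : IsPGroup q (T.subgroupOf L) := hT.comap_subtype
  have h1 := isSylowIn_of_sylow (hT'.toSylow h)
  have hcoe : ((hT'.toSylow h : Sylow q L) : Subgroup L) = T.subgroupOf L := rfl
  rw [hcoe, Subgroup.map_subgroupOf_eq_of_le hTL] at h1
  exact h1

theorem normalizer_le_of_nilpotent_hall {G : Type*} [Group G] [Finite G]
    (hG : IsMinSimpleOddOrder G) {M : Subgroup G} (hM : IsCoatom M) {U' : Subgroup G}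
    (hU'σ : U' ≤ sigmaCore M) (hU'1 : U' ≠ ⊥) (hnil : Group.IsNilpotent U')
    (hhall : (Nat.card U').Coprime (U'.relIndex (sigmaCore M))) :
    Subgroup.normalizer (U' : Set G) ≤ M := by
  have hcard : Nat.card U' ≠ 1 := fun h => hU'1 ((Subgroup.eq_bot_iff_card U').mpr h)
  obtain ⟨r, hr, hrU⟩ := Nat.exists_prime_and_dvd hcard
  have : Fact r.Prime := ⟨hr⟩
  have P : Sylow r U' := default
  have hRU : (P : Subgroup U').map U'.subtype ≤ U' := Subgroup.map_subtype_le _
  have hRp : IsPGroup r ((P : Subgroup U').map U'.subtype) := P.isPGroup'.map _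
  have hRrel : ((P : Subgroup U').map U'.subtype).relIndex U' = (P : Subgroup U').index := by
    unfold Subgroup.relIndex Subgroup.subgroupOf
    rw [Subgroup.comap_map_eq_self_of_injective (Subgroup.subtype_injective _)]
  have hndP : ¬ r ∣ (P : Subgroup U').index := P.not_dvd_index
  have hcopR : (Nat.card ((P : Subgroup U').map U'.subtype)).Coprime
      (((P : Subgroup U').map U'.subtype).relIndex U') := by
    rw [hRrel]
    obtain ⟨k, hk⟩ := IsPGroup.iff_card.mp hRp
    rw [hk]
    exact Nat.Coprime.pow_left k ((Nat.Prime.coprime_iff_not_dvd hr).2 hndP)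
  -- `N_G(U') ≤ N_G(R)`
  have hNN : Subgroup.normalizer (U' : Set G) ≤
      Subgroup.normalizer ((((P : Subgroup U').map U'.subtype : Subgroup G)) : Set G) := by
    intro g hg
    have hR'U : ((P : Subgroup U').map U'.subtype).map (MulAut.conj g).toMonoidHom ≤ U' := by
      rintro _ ⟨x, hx, rfl⟩
      exact (Subgroup.mem_normalizer_iff.mp hg x).mp (hRU hx)
    have hcard' : Nat.card (((P : Subgroup U').map U'.subtype).map (MulAut.conj g).toMonoidHom)
        = Nat.card ((P : Subgroup U').map U'.subtype) :=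
      Subgroup.card_map_of_injective (MulAut.conj g).injective
    have heq := Cfsg.Agent.Lib.Helper64.BG153.eq_of_hall_of_nilpotent hRU hR'U hnil hcopR hcard'
    rw [Subgroup.mem_normalizer_iff]
    intro h
    constructor
    · intro hh
      exact heq.le ⟨h, hh, rfl⟩
    · intro hh
      obtain ⟨a, ha, hae⟩ := heq.ge hh
      have hae' : g * a * g⁻¹ = g * h * g⁻¹ := hae
      have : a = h := by
        have := congrArg (fun x => g⁻¹ * x * g) hae'
        simpa [mul_assoc] using this
      rwa [← this]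
  -- `R` is a Sylow `r`-subgroup of `M`
  have hσM : sigmaCore M ≤ M := Cfsg.Agent.Lib.Helper71.BG11.sigmaCore_le M
  have hRM : (P : Subgroup U').map U'.subtype ≤ M := hRU.trans (hU'σ.trans hσM)
  have hhallσ := (Cfsg.Agent.S1350.result hG M hM).1
  have hrσ : r ∈ sigma M :=
    hhallσ.2.1 r hr (dvd_trans hrU (Subgroup.card_dvd_of_le hU'σ))
  have hnd : ¬ r ∣ ((P : Subgroup U').map U'.subtype).relIndex M := by
    rw [← Subgroup.relIndex_mul_relIndex _ _ _ (hRU.trans hU'σ) hσM,
      ← Subgroup.relIndex_mul_relIndex _ _ _ hRU hU'σ]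
    intro h
    rcases (Nat.Prime.dvd_mul hr).mp h with h | h
    · rcases (Nat.Prime.dvd_mul hr).mp h with h | h
      · rw [hRrel] at h
        exact hndP h
      · have h1 : r ∣ Nat.gcd (Nat.card U') (U'.relIndex (sigmaCore M)) := Nat.dvd_gcd hrU h
        rw [Nat.Coprime] at hhall
        rw [hhall] at h1
        exact hr.ne_one (Nat.dvd_one.mp h1)
    · exact hhallσ.2.2 r hr hrσ h
  have hsyl : IsSylowIn r M ((P : Subgroup U').map U'.subtype) :=
    isSylowIn_of_not_dvd_relIndex hRp hRM hnd
  exact hNN.trans (Cfsg.Agent.Lib.Helper71.BG10.sigma_normalizer_le hrσ hsyl)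

end Cfsg.Agent.Lib.Helper64.BG1382
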