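import Mathlib
import Cfsg.Agent.Lib.Helper06.SylAlt.Defs

/-!
# K-SylAlt-P5a (keystone 292906), architect helper6: `altOn Δ ≅ Alt(|Δ|)`
-/

set_option autoImplicit false

namespace Cfsg.Agent.Lib.Helper64.SylAlt

open Equiv Equiv.Perm
open Cfsg.Agent.Lib.Helper06.SylAlt

variable {α : Type*} [Fintype α] [DecidableEq α]

/-- `altOn Δ` is the image of the alternating group of `↥Δ` under extension by the identity. -/
theorem altOn_eq_map (Δ : Finset α) :
    altOn (Δ : Set α) =
      (alternatingGroup {x // x ∈ Δ}).map (Perm.ofSubtype (p := fun x => x ∈ Δ)) := by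
  ext σ
  rw [mem_altOn, Subgroup.mem_map]
  constructor
  · rintro ⟨hσ, hfix⟩
    have hfix' : ∀ x, σ x ≠ x → x ∈ Δ := by
      intro x hx
      by_contra h
      exact hx (hfix x (by simpa using h))
    have h₁ : ∀ x, σ x ∈ Δ ↔ x ∈ Δ := by
      intro x
      constructor
      · intro h
        by_contra hx
        have := hfix x (by simpa using hx)
        rw [this] at h
        exact hx h
      · intro h
        by_contra hx
        have h2 := hfix (σ x) (by simpa using hx)
        have h3 : σ x = x := σ.injective h2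
        rw [h3] at hx
        exact hx h
    refine ⟨σ.subtypePerm h₁, ?_, Perm.ofSubtype_subtypePerm h₁ hfix'⟩
    rw [Perm.mem_alternatingGroup] at hσ ⊢
    rw [← Perm.sign_ofSubtype, Perm.ofSubtype_subtypePerm h₁ hfix']
    exact hσ
  · rintro ⟨f, hf, rfl⟩
    refine ⟨?_, ?_⟩
    · rw [Perm.mem_alternatingGroup] at hf ⊢
      rw [Perm.sign_ofSubtype]
      exact hf
    · intro x hx
      exact Perm.ofSubtype_apply_of_not_mem f (by simpa using hx)

/-- **K-SylAlt-P5a.** -/
theorem altOn_mulEquiv (Δ : Finset α) :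
    Nonempty (↥(altOn (Δ : Set α)) ≃* ↥(alternatingGroup (Fin Δ.card))) := by
  have e1 : ↥(alternatingGroup {x // x ∈ Δ}) ≃*
      ↥((alternatingGroup {x // x ∈ Δ}).map (Perm.ofSubtype (p := fun x => x ∈ Δ))) :=
    Subgroup.equivMapOfInjective _ _ Perm.ofSubtype_injective
  have e2 : ↥(altOn (Δ : Set α)) ≃*
      ↥((alternatingGroup {x // x ∈ Δ}).map (Perm.ofSubtype (p := fun x => x ∈ Δ))) :=
    MulEquiv.subgroupCongr (altOn_eq_map Δ)
  have e3 : ↥(alternatingGroup {x // x ∈ Δ}) ≃* ↥(alternatingGroup (Fin Δ.card)) :=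
    Equiv.altCongrHom Δ.equivFin
  exact ⟨(e2.trans e1.symm).trans e3⟩

end Cfsg.Agent.Lib.Helper64.SylAlt
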