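import Mathlib

set_option autoImplicit false

namespace Cfsg.Agent.Lib.Helper64

open MulAction Equiv Equiv.Perm Subgroup

variable {α : Type*} [Fintype α] [DecidableEq α]

theorem perm_apply_inv (f : Perm α) (x : α) : f (f⁻¹ x) = x := by simp

theorem perm_inv_apply (f : Perm α) (x : α) : f⁻¹ (f x) = x := by simp

/-- the conjugation trick: from an element `z` and an element `h` moving exactly one point of the
support of `z` outside this support, one gets a swap or a three cycle -/
theorem alt_le_of_conj_trick (G : Subgroup (Perm α)) (hprim : IsPreprimitive G α)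
    (z h : Perm α) (hz : z ∈ G) (hh : h ∈ G) (a : α) (hza : z a ≠ a)
    (hha : z (h a) = h a) (hfix : ∀ x, z x ≠ x → x ≠ a → h x = x) :
    alternatingGroup α ≤ G := by
  classical
  set c : Perm α := z⁻¹ * (h * z * h⁻¹) with hc
  have hcG : c ∈ G := G.mul_mem (G.inv_mem hz) (G.mul_mem (G.mul_mem hh hz) (G.inv_mem hh))
  -- `h a` is different from the points of the support
  have hne : h a ≠ a := by
    intro h1
    rw [h1] at hha
    exact hza hha
  have hinv : ∀ x, z x ≠ x → x ≠ a → h⁻¹ x = x := by
    intro x hx hxa
    rw [Perm.inv_eq_iff_eq]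
    exact (hfix x hx hxa).symm
  -- `c a = z⁻¹ a`
  have hca : c a = z⁻¹ a := by
    have h1 : z (h⁻¹ a) = h⁻¹ a := by
      by_contra h2
      by_cases h3 : h⁻¹ a = a
      · rw [Perm.inv_eq_iff_eq] at h3
        exact hne h3.symm
      · have := hfix _ h2 h3
        rw [perm_apply_inv] at this
        exact h3 this.symm
    simp only [hc, Perm.mul_apply, h1, perm_apply_inv]
  have hca' : c a ≠ a := by
    rw [hca]
    intro h1
    rw [Perm.inv_eq_iff_eq] at h1
    exact hza h1.symm
  -- the support of `c`
  have hsupp : c.support ⊆ {z⁻¹ a, h a, a} := by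
    intro x hx
    rw [Perm.mem_support] at hx
    simp only [Finset.mem_insert, Finset.mem_singleton]
    by_contra hcon
    push Not at hcon
    obtain ⟨h1, h2, h3⟩ := hcon
    apply hx
    by_cases hzx : z x = x
    · -- `x` not in the support of `z`
      have h4 : z (h⁻¹ x) = h⁻¹ x := by
        by_contra h5
        by_cases h6 : h⁻¹ x = a
        · apply h2
          rw [← h6, perm_apply_inv]
        · have := hfix _ h5 h6
          rw [perm_apply_inv] at this
          rw [← this] at h5
          exact h5 hzx
      simp only [hc, Perm.mul_apply, h4, perm_apply_inv]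
      rw [Perm.inv_eq_iff_eq]
      exact hzx.symm
    · have h4 : h⁻¹ x = x := hinv x hzx h3
      have h5 : z (z x) ≠ z x := fun h => hzx (z.injective h)
      have h6 : z x ≠ a := by
        intro h
        apply h1
        rw [← h, perm_inv_apply]
      have h7 : h (z x) = z x := hfix _ h5 h6
      simp only [hc, Perm.mul_apply, h4, h7, perm_inv_apply]
  have hc1 : c ≠ 1 := by
    intro h
    rw [h] at hca'
    exact hca' rfl
  have hcard2 : 2 ≤ c.support.card := Perm.two_le_card_support_of_ne_one hc1
  have hcard3 : c.support.card ≤ 3 := (Finset.card_le_card hsupp).trans Finset.card_le_three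
  have hcases : c.support.card = 2 ∨ c.support.card = 3 := by omega
  rcases hcases with h2 | h3
  · have hsw : c.IsSwap := Perm.card_support_eq_two.mp h2
    have := subgroup_eq_top_of_isPreprimitive_of_isSwap_mem hprim c hsw hcG
    rw [this]
    exact le_top
  · have h3c : c.IsThreeCycle := _root_.card_support_eq_three_iff.mp h3
    exact alternatingGroup_le_of_isPreprimitive_of_isThreeCycle_mem hprim h3c hcG

end Cfsg.Agent.Lib.Helper64

namespace Cfsg.Agent.Lib.Helper64

open MulAction Equiv Equiv.Perm Subgroup

variable {α : Type*} [Fintype α] [DecidableEq α]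

/-- in a `t`-transitive group, a point outside a set with less than `t` elements can be moved to
any other such point by an element fixing the set pointwise -/
theorem exists_fix_move (G : Subgroup (Perm α)) {t : ℕ} (hG : IsMultiplyPretransitive G α t)
    (htn : t ≤ Fintype.card α) (S : Finset α) (hS : S.card + 1 ≤ t) (a b : α) (ha : a ∉ S)
    (hb : b ∉ S) : ∃ h ∈ G, (∀ x ∈ S, h x = x) ∧ h a = b := by
  classical
  have h1 : IsMultiplyPretransitive (fixingSubgroup G (S : Set α))
      (SubMulAction.ofFixingSubgroup G (S : Set α)) 1 := by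
    apply SubMulAction.ofFixingSubgroup.isMultiplyPretransitive' (n := t)
    · rw [Set.ncard_coe_finset]; exact hS
    · rw [ENat.card_eq_coe_fintype_card]; exact_mod_cast htn
  rw [is_one_pretransitive_iff] at h1
  obtain ⟨⟨⟨h, hhG⟩, hh⟩, hab⟩ := h1.exists_smul_eq
    (⟨a, (SubMulAction.mem_ofFixingSubgroup_iff G).mpr (by simpa using ha)⟩ :
      SubMulAction.ofFixingSubgroup G (S : Set α))
    ⟨b, (SubMulAction.mem_ofFixingSubgroup_iff G).mpr (by simpa using hb)⟩
  refine ⟨h, hhG, ?_, ?_⟩
  · intro x hx
    have := (mem_fixingSubgroup_iff G).mp hh x (by simpa using hx)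
    exact this
  · exact congrArg Subtype.val hab

/-- a multiply transitive group containing a non-identity element of small support contains the
alternating group -/
theorem alt_le_of_small_support (G : Subgroup (Perm α)) {t : ℕ}
    (hG : IsMultiplyPretransitive G α t) (ht2 : 2 ≤ t) (htn : t ≤ Fintype.card α)
    (z : Perm α) (hz : z ∈ G) (hz1 : z ≠ 1) (T : Finset α) (hT : ∀ x, z x ≠ x → x ∈ T)
    (hTt : T.card ≤ t) (hTn : T.card < Fintype.card α) : alternatingGroup α ≤ G := by
  classical
  have h2 : IsMultiplyPretransitive G α 2 :=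
    isMultiplyPretransitive_of_le (n := t) ht2 (by
      rw [Nat.card_eq_fintype_card]; exact htn)
  have hprim : IsPreprimitive G α := isPreprimitive_of_is_two_pretransitive h2
  obtain ⟨a, ha⟩ : ∃ a, z a ≠ a := by
    by_contra hcon
    push Not at hcon
    exact hz1 (Perm.ext hcon)
  have haT : a ∈ T := hT a ha
  obtain ⟨ω, hω⟩ : ∃ ω, ω ∉ T := by
    by_contra hcon
    push Not at hcon
    have : T = Finset.univ := Finset.eq_univ_iff_forall.mpr hcon
    rw [this, Finset.card_univ] at hTn
    exact lt_irrefl _ hTn
  obtain ⟨h, hhG, hfix, hmove⟩ := exists_fix_move G hG htn (T.erase a)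
    (by rw [Finset.card_erase_of_mem haT]; have := Finset.card_pos.mpr ⟨a, haT⟩; omega) a ω
    (by simp) (by simp [hω])
  apply alt_le_of_conj_trick G hprim z h hz hhG a ha
  · rw [hmove]
    by_contra hcon
    exact hω (hT ω hcon)
  · intro x hx hxa
    exact hfix x (by simp [hxa, hT x hx])

end Cfsg.Agent.Lib.Helper64
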