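import Mathlib
import Cfsg.Agent.S3707
import Cfsg.Agent.Lib.Helper17.MultTrans
import Cfsg.Agent.Lib.Helper64.Miller1
import Cfsg.Agent.Lib.Helper04.MarggrafA

set_option autoImplicit false

/-! Marggraf's theorem, primitive case: a primitive group with a Jordan set of size `m`,
`1 < m < n / 2`, contains the alternating group. -/

namespace Cfsg.Agent.Lib.Helper64.Marggraf

section Part1


open MulAction SubMulAction
open scoped Pointwise

variable {G Ω : Type*} [Group G] [MulAction G Ω]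

/-- elementwise form of a Jordan set -/
def IsJ (G : Type*) {Ω : Type*} [Group G] [MulAction G Ω] (Γ : Set Ω) : Prop :=
  ∀ x ∈ Γ, ∀ y ∈ Γ, ∃ g : G, (∀ z ∉ Γ, g • z = z) ∧ g • x = y

theorem isJ_of_isPretransitive (Γ : Set Ω)
    (hJ : IsPretransitive ↥(fixingSubgroup G Γᶜ) ↥(ofFixingSubgroup G Γᶜ)) : IsJ G Γ := by
  intro x hx y hy
  have hxm : x ∈ ofFixingSubgroup G Γᶜ := by
    rw [mem_ofFixingSubgroup_iff]; simpa using hx
  have hym : y ∈ ofFixingSubgroup G Γᶜ := by
    rw [mem_ofFixingSubgroup_iff]; simpa using hy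
  obtain ⟨g, hg⟩ := hJ.exists_smul_eq ⟨x, hxm⟩ ⟨y, hym⟩
  refine ⟨(g : G), ?_, congrArg Subtype.val hg⟩
  intro z hz
  exact (mem_fixingSubgroup_iff G).mp g.2 z hz

/-- the fixing subgroup of a set acts faithfully on the complement -/
theorem faithful_ofFixingSubgroup [FaithfulSMul G Ω] (s : Set Ω) :
    FaithfulSMul ↥(fixingSubgroup G s) ↥(ofFixingSubgroup G s) := by
  constructor
  intro g₁ g₂ h
  apply Subtype.ext
  apply FaithfulSMul.eq_of_smul_eq_smul (α := Ω)
  intro a
  by_cases ha : a ∈ s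
  · rw [(mem_fixingSubgroup_iff G).mp g₁.2 a ha, (mem_fixingSubgroup_iff G).mp g₂.2 a ha]
  · have := h ⟨a, (mem_ofFixingSubgroup_iff G).mpr ha⟩
    exact congrArg Subtype.val this

/-- in a `t`-transitive action, a point outside a set with less than `t` elements can be moved to
any other such point by an element fixing the set pointwise -/
theorem exists_fix_move_act [Fintype Ω] {t : ℕ} (hG : IsMultiplyPretransitive G Ω t)
    (htn : t ≤ Fintype.card Ω) (S : Set Ω) (hS : S.ncard + 1 ≤ t) (a b : Ω) (ha : a ∉ S)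
    (hb : b ∉ S) : ∃ h : G, (∀ x ∈ S, h • x = x) ∧ h • a = b := by
  classical
  have : Finite S := Set.toFinite S
  have h1 : IsMultiplyPretransitive (fixingSubgroup G S) (ofFixingSubgroup G S) 1 := by
    apply ofFixingSubgroup.isMultiplyPretransitive' (n := t) S hS
    rw [ENat.card_eq_coe_fintype_card]; exact_mod_cast htn
  rw [is_one_pretransitive_iff] at h1
  obtain ⟨h, hab⟩ := h1.exists_smul_eq
    (⟨a, (mem_ofFixingSubgroup_iff G).mpr ha⟩ : ofFixingSubgroup G S)
    ⟨b, (mem_ofFixingSubgroup_iff G).mpr hb⟩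
  refine ⟨(h : G), ?_, congrArg Subtype.val hab⟩
  intro x hx
  exact (mem_fixingSubgroup_iff G).mp h.2 x hx


end Part1

section Part2


open MulAction SubMulAction
open scoped Pointwise

variable {G Ω : Type*} [Group G] [MulAction G Ω] [Fintype Ω]

open Classical in
/-- the translates of `Γ`, as finsets -/
noncomputable def Dfam (Γ : Set Ω) (g : G) : Finset Ω :=
  Finset.univ.filter (fun x => g⁻¹ • x ∈ Γ)

theorem mem_Dfam {Γ : Set Ω} {g : G} {x : Ω} : x ∈ Dfam Γ g ↔ g⁻¹ • x ∈ Γ := by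
  classical
  simp [Dfam]

theorem smul_mem_Dfam {Γ : Set Ω} {g : G} {x : Ω} : g • x ∈ Dfam Γ g ↔ x ∈ Γ := by
  rw [mem_Dfam, inv_smul_smul]

theorem smul_mem_Dfam_mul {Γ : Set Ω} (h g : G) (x : Ω) :
    h • x ∈ Dfam Γ (h * g) ↔ x ∈ Dfam Γ g := by
  rw [mem_Dfam, mem_Dfam, mul_inv_rev, mul_smul, inv_smul_smul]

theorem card_Dfam (Γ : Set Ω) (g : G) : (Dfam Γ g).card = Γ.ncard := by
  classical
  rw [Set.ncard_eq_toFinset_card' Γ]
  apply Finset.card_equiv (MulAction.toPerm g⁻¹)
  intro x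
  rw [mem_Dfam]
  simp

/-- regularity of the family of translates under a `t`-transitive group -/
theorem Dfam_regular [DecidableEq Ω] [Fintype G] {t : ℕ} (hG : IsMultiplyPretransitive G Ω t)
    (htn : t ≤ Fintype.card Ω) (Γ : Set Ω) (I E : Finset Ω) (hIE : Disjoint I E)
    (hcard : I.card + E.card + 1 ≤ t) (x y : Ω) (hxI : x ∉ I) (hxE : x ∉ E) (hyI : y ∉ I)
    (hyE : y ∉ E) :
    (Finset.univ.filter fun j : G => insert x I ⊆ Dfam Γ j ∧ Disjoint E (Dfam Γ j)).card =
    (Finset.univ.filter fun j : G => insert y I ⊆ Dfam Γ j ∧ Disjoint E (Dfam Γ j)).card := by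
  classical
  obtain ⟨h, hfix, hxy⟩ := exists_fix_move_act hG htn (↑(I ∪ E) : Set Ω)
    (by rw [Set.ncard_coe_finset, Finset.card_union_of_disjoint hIE]; exact hcard) x y
    (by simp [hxI, hxE]) (by simp [hyI, hyE])
  have hfixI : ∀ z ∈ I, h • z = z := fun z hz => hfix z (by simp [hz])
  have hfixE : ∀ z ∈ E, h • z = z := fun z hz => hfix z (by simp [hz])
  have hfixI' : ∀ z ∈ I, h⁻¹ • z = z := fun z hz => by
    rw [inv_smul_eq_iff, hfixI z hz]
  have hfixE' : ∀ z ∈ E, h⁻¹ • z = z := fun z hz => by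
    rw [inv_smul_eq_iff, hfixE z hz]
  apply Finset.card_equiv (Equiv.mulLeft h)
  intro j
  simp only [Finset.mem_filter, Finset.mem_univ, true_and, Equiv.coe_mulLeft]
  constructor
  · rintro ⟨h1, h2⟩
    refine ⟨?_, ?_⟩
    · intro z hz
      rw [Finset.mem_insert] at hz
      rcases hz with rfl | hz
      · rw [← hxy, smul_mem_Dfam_mul]
        exact h1 (Finset.mem_insert_self _ _)
      · rw [← hfixI z hz, smul_mem_Dfam_mul]
        exact h1 (Finset.mem_insert_of_mem hz)
    · rw [Finset.disjoint_left]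
      intro z hzE hzD
      rw [← hfixE z hzE, smul_mem_Dfam_mul] at hzD
      exact Finset.disjoint_left.mp h2 hzE hzD
  · rintro ⟨h1, h2⟩
    refine ⟨?_, ?_⟩
    · intro z hz
      rw [Finset.mem_insert] at hz
      rcases hz with rfl | hz
      · rw [← smul_mem_Dfam_mul h, hxy]
        exact h1 (Finset.mem_insert_self _ _)
      · rw [← smul_mem_Dfam_mul h, hfixI z hz]
        exact h1 (Finset.mem_insert_of_mem hz)
    · rw [Finset.disjoint_left]
      intro z hzE hzD
      rw [← smul_mem_Dfam_mul h, hfixE z hzE] at hzD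
      exact Finset.disjoint_left.mp h2 hzE hzD


end Part2

section Part3


open MulAction SubMulAction
open scoped Pointwise

variable {G Ω : Type*} [Group G] [MulAction G Ω] [Fintype Ω] [DecidableEq Ω]

theorem card_ofFixingSubgroup (S : Set Ω) :
    Nat.card ↥(ofFixingSubgroup G S) + S.ncard = Fintype.card Ω := by
  have h1 : Nat.card ↥(ofFixingSubgroup G S) = Sᶜ.ncard := Nat.card_coe_set_eq _
  rw [h1, add_comm, Set.ncard_add_ncard_compl, Nat.card_eq_fintype_card]

/-- in the large range of `t`, the pointwise stabilizer of `t - 1` points outside the Jordan set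
is primitive on the remaining points -/
theorem isPreprimitive_fixing [Finite G] {t m : ℕ} (hG : IsMultiplyPretransitive G Ω t)
    (ht2 : 2 ≤ t) (Γ : Set Ω) (hΓ : IsJ G Γ) (hm : Γ.ncard = m) (htm : t ≤ m)
    (htn : t + m ≤ Fintype.card Ω) (hn : 2 * m < Fintype.card Ω)
    (hlarge : Fintype.card Ω + 1 < 2 * m + t)
    (S : Set Ω) (hS : S.ncard + 1 = t) :
    IsPreprimitive ↥(fixingSubgroup G S) ↥(ofFixingSubgroup G S) := by
  classical
  have : Fintype G := Fintype.ofFinite G
  have : Finite S := Set.toFinite S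
  have hX1 : IsPretransitive ↥(fixingSubgroup G S) ↥(ofFixingSubgroup G S) := by
    rw [← is_one_pretransitive_iff]
    exact ofFixingSubgroup.isMultiplyPretransitive G S hS
  apply IsPreprimitive.mk
  intro B hB
  by_contra hBt
  have hBns : ¬ B.Subsingleton := fun h => hBt (Or.inl h)
  have hBnu : B ≠ Set.univ := fun h => hBt (Or.inr h)
  rw [Set.not_subsingleton_iff] at hBns
  obtain ⟨γ, hγB, γ', hγ'B, hne⟩ := hBns
  have hcardY : Nat.card ↥(ofFixingSubgroup G S) + S.ncard = Fintype.card Ω :=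
    card_ofFixingSubgroup S
  -- the twin property
  have htwin : ∀ j : G, (γ : Ω) ∈ Dfam Γ j → Disjoint S.toFinset (Dfam Γ j) →
      (γ' : Ω) ∈ Dfam Γ j := by
    intro j hγj hSj
    by_contra hγ'j
    -- every point of the translate lies in the block
    have hsub : ∀ δ ∈ Dfam Γ j, ∃ hδ : δ ∈ ofFixingSubgroup G S,
        (⟨δ, hδ⟩ : ↥(ofFixingSubgroup G S)) ∈ B := by
      intro δ hδ
      obtain ⟨k, hk1, hk2⟩ := hΓ _ (mem_Dfam.mp hγj) _ (mem_Dfam.mp hδ)
      have hfix : ∀ z, z ∉ Dfam Γ j → (j * k * j⁻¹) • z = z := by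
        intro z hz
        rw [mem_Dfam] at hz
        rw [mul_smul, mul_smul, hk1 _ hz, smul_inv_smul]
      have hmem : j * k * j⁻¹ ∈ fixingSubgroup G S := by
        rw [mem_fixingSubgroup_iff]
        intro s hs
        apply hfix
        intro hsD
        exact Finset.disjoint_left.mp hSj (Set.mem_toFinset.mpr hs) hsD
      have hmove : (j * k * j⁻¹) • (γ : Ω) = δ := by
        rw [mul_smul, mul_smul, hk2, smul_inv_smul]
      have hκγ' : (⟨j * k * j⁻¹, hmem⟩ : fixingSubgroup G S) • γ' = γ' := by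
        apply Subtype.ext
        exact hfix _ hγ'j
      have hκB : (⟨j * k * j⁻¹, hmem⟩ : fixingSubgroup G S) • B = B :=
        hB.smul_eq_of_mem hγ'B (by rw [hκγ']; exact hγ'B)
      have h1 : (⟨j * k * j⁻¹, hmem⟩ : fixingSubgroup G S) • γ ∈ B := by
        rw [← hκB]
        exact Set.smul_mem_smul_set hγB
      have h2 : (((⟨j * k * j⁻¹, hmem⟩ : fixingSubgroup G S) • γ : ofFixingSubgroup G S) : Ω)
          = δ := hmove
      refine ⟨h2 ▸ ((⟨j * k * j⁻¹, hmem⟩ : fixingSubgroup G S) • γ).2, ?_⟩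
      convert h1 using 1
      exact Subtype.ext h2.symm
    -- hence the block is too large
    have hle : m ≤ B.ncard := by
      rw [← hm, ← card_Dfam Γ j, ← Set.ncard_coe_finset,
        ← Set.ncard_image_of_injective B Subtype.val_injective]
      apply Set.ncard_le_ncard _ (Set.toFinite _)
      intro δ hδ
      obtain ⟨hδ', hδB⟩ := hsub δ hδ
      exact ⟨⟨δ, hδ'⟩, hδB, rfl⟩
    apply hBnu
    apply hB.eq_univ_of_card_lt
    omega
  -- apply the combinatorial lemma
  have hγS : (γ : Ω) ∉ S.toFinset := by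
    rw [Set.mem_toFinset]; exact γ.2
  have hγ'S : (γ' : Ω) ∉ S.toFinset := by
    rw [Set.mem_toFinset]; exact γ'.2
  have hne' : (γ : Ω) ≠ γ' := fun h => hne (Subtype.ext h)
  have htcard : t ≤ Fintype.card Ω := by omega
  exact Cfsg.Agent.Lib.Helper04.Marggraf.no_twins (J := G) (Dfam Γ) m t (fun j => by rw [card_Dfam, hm]) ht2 htm htn hn
    (fun I E hIE hc x y hxI hxE hyI hyE =>
      Dfam_regular hG htcard Γ I E hIE hc x y hxI hxE hyI hyE)
    S.toFinset (by rw [← Set.ncard_eq_toFinset_card']; exact hS) γ γ' hγS hγ'S hne' htwin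


end Part3

section Part4


open MulAction SubMulAction
open scoped Pointwise

variable {G Ω : Type*} [Group G] [MulAction G Ω]

/-- Jordan's criterion (Mathlib) restated with elementwise Jordan sets. -/
theorem jordan_two' (hK : IsPreprimitive G Ω)
    (Δ : Set Ω) (hJ : IsJ G Δ) {n : ℕ} (hsn : Δᶜ.ncard = n + 1)
    (hsn' : n + 2 < Nat.card Ω) : IsMultiplyPretransitive G Ω 2 := by
  apply hK.is_two_pretransitive hsn hsn'
  rw [isPretransitive_iff]
  rintro ⟨x, hx⟩ ⟨y, hy⟩
  rw [mem_ofFixingSubgroup_iff, Set.notMem_compl_iff] at hx hy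
  obtain ⟨g, hg1, hg2⟩ := hJ x hx y hy
  refine ⟨⟨g, ?_⟩, ?_⟩
  · rw [mem_fixingSubgroup_iff]
    intro z hz
    exact hg1 z hz
  · exact Subtype.ext hg2

/-- a Jordan set stays a Jordan set for the pointwise stabilizer of points outside it -/
theorem isJ_fixing (Γ : Set Ω) (hΓ : IsJ G Γ) (S : Set Ω) (hSΓ : ∀ s ∈ S, s ∉ Γ) :
    IsJ ↥(fixingSubgroup G S) {y : ↥(ofFixingSubgroup G S) | (y : Ω) ∈ Γ} := by
  intro x hx y hy
  obtain ⟨g, hg1, hg2⟩ := hΓ x hx y hy
  have hg : g ∈ fixingSubgroup G S := by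
    rw [mem_fixingSubgroup_iff]
    intro s hs
    exact hg1 s (hSΓ s hs)
  refine ⟨⟨g, hg⟩, ?_, Subtype.ext hg2⟩
  intro z hz
  exact Subtype.ext (hg1 z hz)

theorem ncard_sub (Γ : Set Ω) (S : Set Ω) (hSΓ : ∀ s ∈ S, s ∉ Γ) :
    {y : ↥(ofFixingSubgroup G S) | (y : Ω) ∈ Γ}.ncard = Γ.ncard := by
  rw [← Set.ncard_image_of_injective _ Subtype.val_injective]
  congr 1
  ext z
  constructor
  · rintro ⟨y, hy, rfl⟩
    exact hy
  · intro hz
    refine ⟨⟨z, ?_⟩, hz, rfl⟩
    rw [mem_ofFixingSubgroup_iff]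
    intro hzS
    exact hSΓ z hzS hz


end Part4

section Part5


open MulAction SubMulAction
open scoped Pointwise

variable {G Ω : Type*} [Group G] [MulAction G Ω] [Fintype Ω] [DecidableEq Ω]

/-- a primitive group with a Jordan set of size `m < n/2` is `m`-transitive -/
theorem multiply_transitive [Finite G] [FaithfulSMul G Ω] (hprim : IsPreprimitive G Ω)
    (Γ : Set Ω) (m : ℕ) (hm : Γ.ncard = m) (h1 : 1 < m) (h2 : 2 * m < Fintype.card Ω)
    (hΓ : IsJ G Γ) : ∀ t, 2 ≤ t → t ≤ m → IsMultiplyPretransitive G Ω t := by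
  classical
  have hcompl : Γᶜ.ncard = Fintype.card Ω - m := by
    rw [Set.ncard_compl, hm, Nat.card_eq_fintype_card]
  intro t ht
  induction t, ht using Nat.le_induction with
  | base =>
    intro _
    apply jordan_two' hprim Γ hΓ (n := Fintype.card Ω - m - 1)
    · rw [hcompl]; omega
    · rw [Nat.card_eq_fintype_card]; omega
  | succ t ht2 ih =>
    intro htm
    have hG : IsMultiplyPretransitive G Ω t := ih (by omega)
    have htn : t ≤ Nat.card Ω := by rw [Nat.card_eq_fintype_card]; omega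
    by_cases hsmall : t + 2 * m ≤ Fintype.card Ω + 2
    · -- the range covered by S3707
      obtain ⟨S₀, hS₀sub, hS₀card⟩ := Set.exists_subset_card_eq (s := Γᶜ) (n := t - 2)
        (by rw [hcompl]; omega)
      have hSΓ : ∀ s ∈ S₀, s ∉ Γ := fun s hs => hS₀sub hs
      have : Finite S₀ := Set.toFinite S₀
      have h2t : IsMultiplyPretransitive ↥(fixingSubgroup G S₀) ↥(ofFixingSubgroup G S₀) 2 :=
        ofFixingSubgroup.isMultiplyPretransitive (n := t) G S₀ (by omega)
      have hprim₀ : IsPreprimitive ↥(fixingSubgroup G S₀) ↥(ofFixingSubgroup G S₀) :=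
        isPreprimitive_of_is_two_pretransitive h2t
      have hfaith := faithful_ofFixingSubgroup (G := G) S₀
      have hcardY := card_ofFixingSubgroup (G := G) S₀
      have h3 : IsMultiplyPretransitive ↥(fixingSubgroup G S₀) ↥(ofFixingSubgroup G S₀) 3 := by
        apply Cfsg.Agent.S3707.result hprim₀ {y : ↥(ofFixingSubgroup G S₀) | (y : Ω) ∈ Γ}
        · rw [ncard_sub Γ S₀ hSΓ, hm]; exact h1
        · rw [ncard_sub Γ S₀ hSΓ, hm]; omega
        · exact isJ_fixing Γ hΓ S₀ hSΓ
      have hGm : IsMultiplyPretransitive G Ω (t - 2) :=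
        isMultiplyPretransitive_of_le (n := t) (by omega) htn
      have := Cfsg.Agent.Lib.Helper17.isMultiplyPretransitive_add_of_fixingSubgroup
        (t - 2) 3 S₀ hS₀card hGm h3
      rw [show t - 2 + 3 = t + 1 by omega] at this
      exact this
    · -- the range covered by the counting argument
      push Not at hsmall
      obtain ⟨S, hSsub, hScard⟩ := Set.exists_subset_card_eq (s := Γᶜ) (n := t - 1)
        (by rw [hcompl]; omega)
      have hSΓ : ∀ s ∈ S, s ∉ Γ := fun s hs => hSsub hs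
      have : Finite S := Set.toFinite S
      have hprimS : IsPreprimitive ↥(fixingSubgroup G S) ↥(ofFixingSubgroup G S) :=
        isPreprimitive_fixing hG ht2 Γ hΓ hm (by omega) (by omega) h2 (by omega) S (by omega)
      have hcardY := card_ofFixingSubgroup (G := G) S
      have hsubc := ncard_sub (G := G) Γ S hSΓ
      have hcc : ({y : ↥(ofFixingSubgroup G S) | (y : Ω) ∈ Γ}ᶜ).ncard =
          Nat.card ↥(ofFixingSubgroup G S) - m := by
        rw [Set.ncard_compl, hsubc, hm]
      have h2S : IsMultiplyPretransitive ↥(fixingSubgroup G S) ↥(ofFixingSubgroup G S) 2 := by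
        apply jordan_two' hprimS {y : ↥(ofFixingSubgroup G S) | (y : Ω) ∈ Γ}
          (isJ_fixing Γ hΓ S hSΓ) (n := Nat.card ↥(ofFixingSubgroup G S) - m - 1)
        · rw [hcc]; omega
        · omega
      have hGm : IsMultiplyPretransitive G Ω (t - 1) :=
        isMultiplyPretransitive_of_le (n := t) (by omega) htn
      have := Cfsg.Agent.Lib.Helper17.isMultiplyPretransitive_add_of_fixingSubgroup
        (t - 1) 2 S hScard hGm h2S
      rw [show t - 1 + 2 = t + 1 by omega] at this
      exact this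


end Part5

section Part6


open MulAction SubMulAction
open scoped Pointwise

/-- Marggraf's theorem, primitive case -/
theorem primitive_case.{u, v} (G : Type u) (Ω : Type v) [Group G] [Finite G] [MulAction G Ω]
    [FaithfulSMul G Ω] [Fintype Ω] [DecidableEq Ω] (hprim : MulAction.IsPreprimitive G Ω)
    (Γ : Set Ω) (h1 : 1 < Γ.ncard) (h2 : 2 * Γ.ncard < Fintype.card Ω)
    (hJ : MulAction.IsPretransitive ↥(fixingSubgroup G Γᶜ) ↥(SubMulAction.ofFixingSubgroup G Γᶜ)) :
    ∀ σ : Equiv.Perm Ω, Equiv.Perm.sign σ = 1 →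
      ∃ x : G, (MulAction.toPerm x : Equiv.Perm Ω) = σ := by
  classical
  have hΓ : IsJ G Γ := isJ_of_isPretransitive Γ hJ
  have hmt : IsMultiplyPretransitive G Ω Γ.ncard :=
    multiply_transitive hprim Γ Γ.ncard rfl h1 h2 hΓ Γ.ncard (by omega) le_rfl
  set Ĝ : Subgroup (Equiv.Perm Ω) := (MulAction.toPermHom G Ω).range with hĜ
  have hmt' : IsMultiplyPretransitive Ĝ Ω Γ.ncard := by
    constructor
    intro x y
    obtain ⟨g, hg⟩ := hmt.exists_smul_eq x y
    refine ⟨⟨MulAction.toPermHom G Ω g, ⟨g, rfl⟩⟩, ?_⟩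
    ext i
    have := congrArg (fun e : Fin Γ.ncard ↪ Ω => e i) hg
    simpa using this
  obtain ⟨a, ha, b, hb, hab⟩ := (Set.one_lt_ncard (Set.toFinite Γ)).mp h1
  obtain ⟨g, hg1, hg2⟩ := hΓ a ha b hb
  have hz : MulAction.toPermHom G Ω g ∈ Ĝ := ⟨g, rfl⟩
  have hz1 : MulAction.toPermHom G Ω g ≠ 1 := by
    intro h
    have : (MulAction.toPermHom G Ω g) a = a := by rw [h]; rfl
    apply hab
    rw [← hg2]
    exact this.symm
  have hle : alternatingGroup Ω ≤ Ĝ := by
    apply Cfsg.Agent.Lib.Helper64.alt_le_of_small_support Ĝ hmt' (by omega) (by omega)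
      (MulAction.toPermHom G Ω g) hz hz1 Γ.toFinset
    · intro x hx
      rw [Set.mem_toFinset]
      by_contra hxΓ
      exact hx (hg1 x hxΓ)
    · rw [← Set.ncard_eq_toFinset_card']
    · rw [← Set.ncard_eq_toFinset_card']; omega
  intro σ hσ
  have : σ ∈ Ĝ := hle (Equiv.Perm.mem_alternatingGroup.mpr hσ)
  obtain ⟨x, hx⟩ := this
  exact ⟨x, hx⟩


end Part6

end Cfsg.Agent.Lib.Helper64.Marggraf
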