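import Cfsg.Agent.Lib.Helper65.UNdBA1

/-!
# K-UNd-BA2 (keystone 595402, architect helper73): non-isotropic vectors, nondegenerate subspaces of every
dimension, restriction of a hermitian form to a nondegenerate subspace
-/

set_option autoImplicit false

namespace Cfsg.Agent.Lib.Helper64.UNd

open Module Cfsg.Agent.Lib.Helper99.HermONB Cfsg.Agent.Lib.Helper98.Elus Cfsg.Agent.Lib.Helper73.UNd

universe u
variable {F : Type u} [Field F] {V : Type u} [AddCommGroup V] [Module F V]
variable {q : ℕ} {h : V → V → F}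

/-- if `h v v = 0` on `W` then `h u w + h w u = 0`; replace `u` by `a • u` with `a ^ q ≠ a` to get `h u w = 0`. -/
theorem exists_nonisotropic [Fintype F] (hF : Fintype.card F = q ^ 2) (hh : HForm q h)
    (W : Submodule F V) (hW : ND h W) (hne : W ≠ ⊥) : ∃ v ∈ W, h v v ≠ 0 := by
  by_contra hall
  push Not at hall
  obtain ⟨x, hxW, hx⟩ := (Submodule.ne_bot_iff W).mp hne
  have hy' : ∃ y ∈ W, h x y ≠ 0 := by
    by_contra hno
    push Not at hno
    exact hx (hW x hxW hno)
  obtain ⟨y, hyW, hy⟩ := hy'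
  obtain ⟨r, hr⟩ : ∃ r, r = h x y := ⟨_, rfl⟩
  rw [← hr] at hy
  obtain ⟨c, hc⟩ : ∃ c : F, c ^ q = r⁻¹ := ⟨(r⁻¹) ^ q, Cfsg.Agent.Lib.Helper19.pow_q_pow_q hF _⟩
  have h1 : h x (c • y) = 1 := by rw [hh.smul_right, hc, ← hr, inv_mul_cancel₀ hy]
  have h1' : h (c • y) x = 1 := by rw [hh.conj x (c • y), h1, one_pow]
  obtain ⟨z, hz⟩ := Cfsg.Agent.Lib.Helper46.exists_trace_ne_zero hF
  rw [Cfsg.Agent.Lib.Helper46.frobRing_apply] at hz
  obtain ⟨y', hy'⟩ : ∃ y' : V, y' = c • y := ⟨_, rfl⟩
  have hy'W : y' ∈ W := by rw [hy']; exact W.smul_mem c hyW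
  rw [← hy'] at h1 h1'
  have h3 := hall (x + z • y') (W.add_mem hxW (W.smul_mem z hy'W))
  rw [hh.add_left, hh.add_right hF, hh.add_right hF, hall x hxW, hall (z • y') (W.smul_mem z hy'W),
    hh.smul_right z x y', h1, hh.smul_left z y' x, h1'] at h3
  apply hz
  rw [← h3]
  ring

theorem nd_span_singleton [Fintype F] (hF : Fintype.card F = q ^ 2) (hh : HForm q h) (v : V)
    (hv : h v v ≠ 0) : ND h (Submodule.span F {v}) ∧ finrank F ↥(Submodule.span F {v}) = 1 := by
  have hv0 : v ≠ 0 := by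
    rintro rfl
    exact hv (hh.zero_left 0)
  refine ⟨?_, finrank_span_singleton hv0⟩
  intro u hu hu'
  obtain ⟨a, rfl⟩ := Submodule.mem_span_singleton.mp hu
  have h1 := hu' v (Submodule.mem_span_singleton_self v)
  rw [hh.smul_left] at h1
  rcases mul_eq_zero.mp h1 with h2 | h2
  · rw [h2, zero_smul]
  · exact absurd h2 hv

/-- induction on `s` with `exists_nonisotropic`, `nd_span_singleton`, `compl_props`, `nd_sup`. -/
theorem exists_nd_sub [Fintype F] [FiniteDimensional F V] (hF : Fintype.card F = q ^ 2)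
    (hh : HForm q h) (W : Submodule F V) (hW : ND h W) :
    ∀ s : ℕ, s ≤ finrank F W → ∃ W' : Submodule F V, W' ≤ W ∧ ND h W' ∧ finrank F W' = s := by
  intro s
  induction s with
  | zero =>
    intro _
    exact ⟨⊥, bot_le, Cfsg.Agent.Lib.Helper65.UNd.nd_bot hh, finrank_bot F V⟩
  | succ s ih =>
    intro hs
    obtain ⟨W', hle, hW', hfr⟩ := ih (by omega)
    obtain ⟨hsup, hinf, hC, hfrC⟩ := Cfsg.Agent.Lib.Helper65.UNd.compl_props hF hh W' W hW' hle hW
    have hCne : perp hh W' ⊓ W ≠ ⊥ := by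
      intro hbot
      rw [hbot, finrank_bot] at hfrC
      omega
    obtain ⟨v, hvC, hv⟩ := exists_nonisotropic hF hh _ hC hCne
    obtain ⟨hL, hLfr⟩ := nd_span_singleton hF hh v hv
    have hvperp : v ∈ perp hh W' := (Submodule.mem_inf.mp hvC).1
    have hvW : v ∈ W := (Submodule.mem_inf.mp hvC).2
    have hort : Ort h W' (Submodule.span F {v}) := by
      intro u hu w hw
      obtain ⟨a, rfl⟩ := Submodule.mem_span_singleton.mp hw
      rw [hh.smul_right]
      have h0 : h v u = 0 := (mem_perp hh W' v).mp hvperp u hu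
      rw [Cfsg.Agent.Lib.Helper65.UNd.eq_zero_symm hF hh h0, mul_zero]
    refine ⟨W' ⊔ Submodule.span F {v}, ?_, ?_, ?_⟩
    · refine sup_le hle ?_
      rw [Submodule.span_singleton_le_iff_mem]
      exact hvW
    · exact (Cfsg.Agent.Lib.Helper65.UNd.nd_sup hF hh _ _ hW' hL hort).1
    · rw [Cfsg.Agent.Lib.Helper65.UNd.finrank_sup_of_ort hF hh _ _ hW' hL hort, hfr, hLfr]

theorem hform_restrict (hh : HForm q h) (W : Submodule F V) (hW : ND h W) :
    HForm q (fun a b : W => h (a : V) (b : V)) := by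
  refine ⟨?_, ?_, ?_, ?_⟩
  · intro x x' y
    exact hh.add_left _ _ _
  · intro c x y
    exact hh.smul_left _ _ _
  · intro x y
    exact hh.conj _ _
  · intro x hx
    apply Subtype.ext
    exact hW x x.2 (fun v hv => hx ⟨v, hv⟩)

/-- orthonormal basis of a nondegenerate subspace (`exists_orthonormal'` for `hform_restrict`). -/
theorem exists_onb_sub [Fintype F] [FiniteDimensional F V] (hF : Fintype.card F = q ^ 2)
    (hh : HForm q h) (W : Submodule F V) (hW : ND h W) (k : ℕ) (hk : finrank F W = k) :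
    ∃ e : Fin k → V, (∀ i, e i ∈ W) ∧ (∀ i j, h (e i) (e j) = if i = j then 1 else 0) ∧
      LinearIndependent F e ∧ Submodule.span F (Set.range e) = W := by
  classical
  obtain ⟨e', he'⟩ := Cfsg.Agent.Lib.Helper80.AschU.exists_orthonormal' hF k ↥W
    (fun a b : W => h (a : V) (b : V)) (hform_restrict hh W hW) hk
  have hli : LinearIndependent F (fun i => ((e' i : W) : V)) := by
    rw [Fintype.linearIndependent_iff]
    intro c hc j
    have h1 : h (∑ i, c i • ((e' i : W) : V)) ((e' j : W) : V) = 0 := by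
      rw [hc]; exact hh.zero_left _
    rw [hh.sum_left] at h1
    rw [Finset.sum_eq_single j] at h1
    · rw [he' j j, if_pos rfl, mul_one] at h1
      exact h1
    · intro i _ hij
      rw [he' i j, if_neg hij, mul_zero]
    · intro hj
      exact absurd (Finset.mem_univ j) hj
  refine ⟨fun i => ((e' i : W) : V), fun i => (e' i).2, fun i j => he' i j, hli, ?_⟩
  have hle : Submodule.span F (Set.range fun i => ((e' i : W) : V)) ≤ W := by
    rw [Submodule.span_le]
    rintro _ ⟨i, rfl⟩
    exact (e' i).2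
  apply Submodule.eq_of_le_of_finrank_eq hle
  rw [finrank_span_eq_card hli, Fintype.card_fin, hk]

end Cfsg.Agent.Lib.Helper64.UNd
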