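import Mathlib
import Cfsg.Prelude.Def_GeometricClasses

/-!
# K-O12-X22 (keystone 587102), architect helper9

`|F| = 2`: `t` pairwise orthogonal isometric plus-type planes; the sum `v` of the unique non-singular
vectors of the planes has `Q v = t` and is fixed by the stabiliser of the decomposition in the isometry
group.
-/

set_option autoImplicit false

namespace Cfsg.Agent.Lib.Helper64.O12

open Cfsg Cfsg.Geo
open scoped Matrix

set_option linter.unusedSectionVars false

variable {F : Type*} [Field F] [Fintype F] {n : ℕ}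

theorem eq_zero_or_one_of_card_two (hq : Fintype.card F = 2) (a : F) : a = 0 ∨ a = 1 := by
  by_contra h
  push Not at h
  have h3 : 2 < Fintype.card F :=
    Fintype.two_lt_card_iff.2 ⟨0, 1, a, zero_ne_one, h.1.symm, h.2.symm⟩
  omega

theorem one_add_one_of_card_two (hq : Fintype.card F = 2) : (1 : F) + 1 = 0 := by
  rcases eq_zero_or_one_of_card_two hq ((1 : F) + 1) with h | h
  · exact h
  · exfalso
    have h1 : (1 : F) = 0 := by linear_combination h
    exact one_ne_zero h1

theorem bilin_zero_left {f : (Fin n → F) → (Fin n → F) → F} (hf : IsBilinearForm f)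
    (y : Fin n → F) : f 0 y = 0 := by
  have h := hf.smul_left 0 0 y
  rwa [zero_smul, zero_mul] at h

theorem bilin_zero_right {f : (Fin n → F) → (Fin n → F) → F} (hf : IsBilinearForm f)
    (y : Fin n → F) : f y 0 = 0 := by
  have h := hf.smul_right 0 y 0
  rwa [zero_smul, zero_mul] at h

theorem bilin_sum_left {f : (Fin n → F) → (Fin n → F) → F} (hf : IsBilinearForm f)
    {α : Type*} (s : Finset α) (u : α → Fin n → F) (y : Fin n → F) :
    f (∑ i ∈ s, u i) y = ∑ i ∈ s, f (u i) y := by
  classical
  induction s using Finset.induction_on with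
  | empty => simp [bilin_zero_left hf]
  | insert a s ha ih => rw [Finset.sum_insert ha, Finset.sum_insert ha, hf.add_left, ih]

theorem bilin_sum_right {f : (Fin n → F) → (Fin n → F) → F} (hf : IsBilinearForm f)
    {α : Type*} (s : Finset α) (u : α → Fin n → F) (y : Fin n → F) :
    f y (∑ i ∈ s, u i) = ∑ i ∈ s, f y (u i) := by
  classical
  induction s using Finset.induction_on with
  | empty => simp [bilin_zero_right hf]
  | insert a s ha ih => rw [Finset.sum_insert ha, Finset.sum_insert ha, hf.add_right, ih]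

theorem quad_zero {Q : (Fin n → F) → F} (hQ : IsNondegenerateQuadraticForm Q) : Q 0 = 0 := by
  have h := hQ.smul 0 0
  rw [zero_smul] at h
  rw [h]; ring

theorem quad_add (Q : (Fin n → F) → F) (x y : Fin n → F) :
    Q (x + y) = QuadraticMap.polar Q x y + Q x + Q y := by
  unfold QuadraticMap.polar
  ring

/-- `Q` is additive on pairwise orthogonal families. -/
theorem quad_sum_of_orthogonal {Q : (Fin n → F) → F} (hQ : IsNondegenerateQuadraticForm Q)
    {α : Type*} (s : Finset α) (u : α → Fin n → F)
    (horth : ∀ i ∈ s, ∀ j ∈ s, i ≠ j → QuadraticMap.polar Q (u i) (u j) = 0) :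
    Q (∑ i ∈ s, u i) = ∑ i ∈ s, Q (u i) := by
  classical
  induction s using Finset.induction_on with
  | empty => simp [quad_zero hQ]
  | insert a s ha ih =>
    rw [Finset.sum_insert ha, Finset.sum_insert ha, quad_add Q, bilin_sum_right hQ.polar_bilinear,
      ih (fun i hi j hj hij => horth i (Finset.mem_insert_of_mem hi) j
        (Finset.mem_insert_of_mem hj) hij)]
    rw [Finset.sum_eq_zero, zero_add]
    intro i hi
    exact horth a (Finset.mem_insert_self a s) i (Finset.mem_insert_of_mem hi)
      (fun h => ha (h ▸ hi))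

/-- a plus-type plane over the field with two elements has exactly one non-singular vector -/
theorem plane_unique_nonsingular (hq : Fintype.card F = 2) (Q : (Fin n → F) → F)
    (hQ : IsNondegenerateQuadraticForm Q) (W : Submodule F (Fin n → F))
    (hdim : Module.finrank F W = 2) (hnd : IsNondegenerateOn (QuadraticMap.polar Q) W)
    (hp : IsPlusTypeOn Q W) :
    ∃ w ∈ W, Q w = 1 ∧ ∀ w' ∈ W, Q w' = 1 → w' = w := by
  obtain ⟨U, hUW, hUs, hUd⟩ := hp
  have hB := hQ.polar_bilinear
  have hU1 : Module.finrank F U = 1 := by omega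
  have hUne : U ≠ ⊥ := by
    intro h
    rw [h, finrank_bot] at hU1
    exact zero_ne_one hU1
  obtain ⟨e, heU, he0⟩ := Submodule.exists_mem_ne_zero_of_ne_bot hUne
  have heW : e ∈ W := hUW heU
  have hQe : Q e = 0 := hUs e heU
  obtain ⟨⟨x, hxW, hxe⟩, -⟩ := hnd e heW he0
  have hxe1 : QuadraticMap.polar Q x e = 1 :=
    (eq_zero_or_one_of_card_two hq _).resolve_left hxe
  have hex1 : QuadraticMap.polar Q e x = 1 := by rw [QuadraticMap.polar_comm]; exact hxe1
  have hee : QuadraticMap.polar Q e e = 0 := by
    unfold QuadraticMap.polar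
    have h2 : e + e = 0 := by
      have : e + e = ((1 : F) + 1) • e := by rw [add_smul, one_smul]
      rw [this, one_add_one_of_card_two hq, zero_smul]
    rw [h2, quad_zero hQ, hQe]; ring
  -- `e, x` span `W`
  have hli : LinearIndependent F ![e, x] := by
    rw [LinearIndependent.pair_iff]
    intro a b hab
    have h1 : QuadraticMap.polar Q (a • e + b • x) e = 0 := by
      rw [hab]; exact bilin_zero_left hB e
    rw [hB.add_left, hB.smul_left, hB.smul_left, hee, hxe1] at h1
    have hb : b = 0 := by linear_combination h1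
    rw [hb, zero_smul, add_zero] at hab
    exact ⟨(smul_eq_zero.1 hab).resolve_right he0, hb⟩
  have hspan : Submodule.span F {e, x} = W := by
    apply Submodule.eq_of_le_of_finrank_eq
    · rw [Submodule.span_le]
      rintro z (rfl | rfl)
      · exact heW
      · exact hxW
    · have h := finrank_span_eq_card hli
      rw [Matrix.range_cons_cons_empty] at h
      rw [h, hdim]; rfl
  have hmem : ∀ z ∈ W, z = 0 ∨ z = e ∨ z = x ∨ z = e + x := by
    intro z hz
    rw [← hspan, Submodule.mem_span_pair] at hz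
    obtain ⟨a, b, rfl⟩ := hz
    rcases eq_zero_or_one_of_card_two hq a with rfl | rfl <;>
      rcases eq_zero_or_one_of_card_two hq b with rfl | rfl <;> simp
  have hQex : Q (e + x) = 1 + Q x := by rw [quad_add Q, hex1, hQe]; ring
  rcases eq_zero_or_one_of_card_two hq (Q x) with hQx | hQx
  · refine ⟨e + x, W.add_mem heW hxW, by rw [hQex, hQx, add_zero], ?_⟩
    intro w' hw' hQw'
    rcases hmem w' hw' with rfl | rfl | rfl | rfl
    · rw [quad_zero hQ] at hQw'; exact absurd hQw' zero_ne_one
    · rw [hQe] at hQw'; exact absurd hQw' zero_ne_one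
    · rw [hQx] at hQw'; exact absurd hQw' zero_ne_one
    · rfl
  · refine ⟨x, hxW, hQx, ?_⟩
    intro w' hw' hQw'
    rcases hmem w' hw' with rfl | rfl | rfl | rfl
    · rw [quad_zero hQ] at hQw'; exact absurd hQw' zero_ne_one
    · rw [hQe] at hQw'; exact absurd hQw' zero_ne_one
    · rfl
    · rw [hQex, hQx, one_add_one_of_card_two hq] at hQw'; exact absurd hQw' zero_ne_one

/-- K-O12-X22 (587102). -/
theorem planes_plus_card_two (Q : (Fin n → F) → F) (hQ : IsNondegenerateQuadraticForm Q)
    (hq : Fintype.card F = 2) {t : ℕ} (D : Fin t → Submodule F (Fin n → F))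
    (hD : IsOrthogonalMDecomposition Q 2 D) (hp : ∀ i, IsPlusTypeOn Q (D i)) :
    ∃ v : Fin n → F, v ≠ 0 ∧ Q v = (t : F) ∧
      decompositionStabilizer D ⊓ isometryGroup F Q ≤ subspaceStabilizer (Submodule.span F {v}) := by
  classical
  have hB := hQ.polar_bilinear
  choose w hwD hwQ hwU using fun i => plane_unique_nonsingular hq Q hQ (D i)
    (hD.decomp.decomp.finrank_eq i) (hD.decomp.nondegenerate i) (hp i)
  have horth : ∀ i j, i ≠ j → QuadraticMap.polar Q (w i) (w j) = 0 := fun i j hij =>
    hD.decomp.orthogonal i j hij (w i) (hwD i) (w j) (hwD j)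
  refine ⟨∑ i, w i, ?_, ?_, ?_⟩
  · -- non-zero
    have ht := hD.decomp.decomp.two_le
    let i0 : Fin t := ⟨0, by omega⟩
    have hw0 : w i0 ≠ 0 := by
      intro h
      have h1 := hwQ i0
      rw [h, quad_zero hQ] at h1
      exact zero_ne_one h1
    obtain ⟨-, ⟨y, hyD, hy⟩⟩ := hD.decomp.nondegenerate i0 (w i0) (hwD i0) hw0
    intro hv
    have h1 : QuadraticMap.polar Q (∑ i, w i) y = QuadraticMap.polar Q (w i0) y := by
      rw [bilin_sum_left hB]
      apply Finset.sum_eq_single i0
      · intro i _ hi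
        exact hD.decomp.orthogonal i i0 hi (w i) (hwD i) y hyD
      · intro h; exact absurd (Finset.mem_univ _) h
    rw [hv, bilin_zero_left hB] at h1
    exact hy h1.symm
  · rw [quad_sum_of_orthogonal hQ _ _ (fun i _ j _ hij => horth i j hij)]
    simp [hwQ]
  · rintro g ⟨⟨σ, hσ⟩, hI⟩
    have hI' : ∀ u : Fin n → F, Q ((g : Matrix (Fin n) (Fin n) F) *ᵥ u) = Q u := fun u => hI u u
    have hgw : ∀ i, (g : Matrix (Fin n) (Fin n) F) *ᵥ w i = w (σ i) := by
      intro i
      apply hwU (σ i)
      · rw [← hσ i]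
        exact ⟨w i, hwD i, by rw [Matrix.toLin'_apply]⟩
      · rw [hI', hwQ]
    have hgv : (g : Matrix (Fin n) (Fin n) F) *ᵥ (∑ i, w i) = ∑ i, w i := by
      rw [Matrix.mulVec_sum]
      simp_rw [hgw]
      exact Equiv.sum_comp σ w
    intro u
    change u ∈ Submodule.span F {∑ i, w i} ↔
      (g : Matrix (Fin n) (Fin n) F) *ᵥ u ∈ Submodule.span F {∑ i, w i}
    simp only [Submodule.mem_span_singleton]
    constructor
    · rintro ⟨c, rfl⟩
      exact ⟨c, by rw [Matrix.mulVec_smul, hgv]⟩
    · rintro ⟨c, hc⟩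
      refine ⟨c, ?_⟩
      have h2 : (g : Matrix (Fin n) (Fin n) F) *ᵥ (c • ∑ i, w i) =
          (g : Matrix (Fin n) (Fin n) F) *ᵥ u := by
        rw [Matrix.mulVec_smul, hgv, hc]
      have h3 := congrArg (fun z => ((g⁻¹ : GL (Fin n) F) : Matrix (Fin n) (Fin n) F) *ᵥ z) h2
      simpa [Matrix.mulVec_mulVec] using h3

end Cfsg.Agent.Lib.Helper64.O12
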