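import Mathlib
import Cfsg.Prelude.Def_OddOrderLocal
import Cfsg.Agent.S1375

/-!
KEYSTONE 143602  K-1436-P  `exists_prime_order` (pack K-1436 = S1436 = BG Lemma 15.9; architect helper71).
WLOG the element `x ∈ M_σ#` with `C_G(x) ≰ M`, `C_G(x) ≤ N` has prime order.
-/

set_option autoImplicit false

namespace Cfsg.Agent.Lib.Helper64.BG1436

open Cfsg Subgroup

variable {G : Type*} [Group G] [Finite G]

omit [Finite G] in
/-- centralizers grow along powers -/
theorem centralizer_singleton_le_pow (x : G) (j : ℕ) :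
    centralizer ({x} : Set G) ≤ centralizer ({x ^ j} : Set G) := by
  intro c hc
  rw [mem_centralizer_iff] at hc ⊢
  intro y hy
  rw [Set.mem_singleton_iff] at hy
  subst hy
  have h1 : x * c = c * x := hc x (Set.mem_singleton x)
  have h2 : Commute x c := h1
  exact (h2.pow_left j).eq

/-- KEYSTONE 143602  K-1436-P  `exists_prime_order`.  WLOG `x` has prime order. -/
theorem exists_prime_order (hG : IsMinSimpleOddOrder G) {M N : Subgroup G} (hM : IsCoatom M) (hN : IsCoatom N) {x : G}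
    (hx : x ∈ sigmaCore M) (hx1 : x ≠ 1) (hxM : ¬ centralizer ({x} : Set G) ≤ M) (hxN : centralizer ({x} : Set G) ≤ N) :
    ∃ x' ∈ sigmaCore M, (orderOf x').Prime ∧ ¬ centralizer ({x'} : Set G) ≤ M ∧ centralizer ({x'} : Set G) ≤ N := by
  have ho : orderOf x ≠ 1 := fun h => hx1 (orderOf_eq_one_iff.mp h)
  obtain ⟨q, hq, hqd⟩ := Nat.exists_prime_and_dvd ho
  have hord : orderOf (x ^ (orderOf x / q)) = q :=
    orderOf_pow_orderOf_div (orderOf_pos x).ne' hqd
  set x' : G := x ^ (orderOf x / q) with hx'def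
  have hx' : x' ∈ sigmaCore M := (sigmaCore M).pow_mem hx _
  have hx'1 : x' ≠ 1 := by
    intro h
    rw [h, orderOf_one] at hord
    exact hq.one_lt.ne hord
  have hle : centralizer ({x} : Set G) ≤ centralizer ({x'} : Set G) :=
    centralizer_singleton_le_pow x _
  have hx'M : ¬ centralizer ({x'} : Set G) ≤ M := fun h => hxM (hle.trans h)
  refine ⟨x', hx', by rw [hord]; exact hq, hx'M, ?_⟩
  -- the unique coatom over `C(x)` is `N`
  obtain ⟨N₀, _, huniq, _⟩ := Cfsg.Agent.S1375.result hG M hM x hx hx1 hxM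
  obtain ⟨N', ⟨hN'c, hN'le⟩, _⟩ := Cfsg.Agent.S1375.result hG M hM x' hx' hx'1 hx'M
  have h1 : N = N₀ := huniq N hN hxN
  have h2 : N' = N₀ := huniq N' hN'c (hle.trans hN'le)
  have h3 : N' = N := h2.trans h1.symm
  rw [← h3]
  exact hN'le

end Cfsg.Agent.Lib.Helper64.BG1436
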