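import Mathlib
import Cfsg.Prelude.Def_OddOrderLocal

/-!
KEYSTONE 153704  K-1537-B3  `conj_mem_typeA` (pack K-1537 = S1537, Peterfalvi (8.4); architect helper2).
`A(M)` is `M`-invariant (no hypothesis on `G`).
-/

set_option autoImplicit false

namespace Cfsg.Agent.Lib.Helper64.BG1537

open Cfsg Subgroup

variable {G : Type*} [Group G] [Finite G]

omit [Finite G] in
/-- the image in `G` of a normal subgroup of `↥M` is normalized by `M` -/
theorem conj_mem_map_subtype {M : Subgroup G} (N : Subgroup ↥M) [hN : N.Normal] {m x : G} (hm : m ∈ M)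
    (hx : x ∈ N.map M.subtype) : m * x * m⁻¹ ∈ N.map M.subtype := by
  obtain ⟨y, hy, rfl⟩ := hx
  refine ⟨⟨m, hm⟩ * y * ⟨m, hm⟩⁻¹, hN.conj_mem y hy ⟨m, hm⟩, ?_⟩
  simp

omit [Finite G] in
theorem conj_mem_fittingHallOf {M : Subgroup G} {m x : G} (hm : m ∈ M) (hx : x ∈ fittingHallOf M) :
    m * x * m⁻¹ ∈ fittingHallOf M :=
  conj_mem_map_subtype (fittingHall ↥M) hm hx

omit [Finite G] in
theorem conj_mem_commutator_self {M : Subgroup G} {m x : G} (hm : m ∈ M) (hx : x ∈ ⁅M, M⁆) :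
    m * x * m⁻¹ ∈ ⁅M, M⁆ := by
  rw [← Subgroup.map_subtype_commutator] at hx ⊢
  exact conj_mem_map_subtype (_root_.commutator ↥M) hm hx

omit [Finite G] in
theorem conj_mem_typeCore {M : Subgroup G} {m x : G} (hm : m ∈ M) (hx : x ∈ typeCore M) :
    m * x * m⁻¹ ∈ typeCore M := by
  unfold typeCore at hx ⊢
  split_ifs at hx ⊢
  · exact conj_mem_commutator_self hm hx
  · exact conj_mem_fittingHallOf hm hx

omit [Finite G] in
theorem conj_ne_one {m a : G} (ha : a ≠ 1) : m * a * m⁻¹ ≠ 1 := by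
  intro h
  apply ha
  have : a = m⁻¹ * (m * a * m⁻¹) * m := by group
  rw [this, h]; group

omit [Finite G] in
theorem conj_comm {m a x : G} (h : a * x = x * a) :
    m * a * m⁻¹ * (m * x * m⁻¹) = m * x * m⁻¹ * (m * a * m⁻¹) := by
  calc m * a * m⁻¹ * (m * x * m⁻¹) = m * (a * x) * m⁻¹ := by group
    _ = m * (x * a) * m⁻¹ := by rw [h]
    _ = m * x * m⁻¹ * (m * a * m⁻¹) := by group

/-- **L-B3** `A(M)` is `M`-invariant. -/
theorem conj_mem_typeA {M : Subgroup G} {m a : G} (hm : m ∈ M) (ha : a ∈ typeA M) :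
    m * a * m⁻¹ ∈ typeA M := by
  unfold typeA at ha ⊢
  split_ifs at ha ⊢ with hI
  · obtain ⟨haM, ha1, x, hx, hx1, hax⟩ := ha
    exact ⟨M.mul_mem (M.mul_mem hm haM) (M.inv_mem hm), conj_ne_one ha1, m * x * m⁻¹,
      conj_mem_fittingHallOf hm hx, conj_ne_one hx1, conj_comm hax⟩
  · obtain ⟨haM, ha1, x, hx, hx1, hax⟩ := ha
    exact ⟨conj_mem_commutator_self hm haM, conj_ne_one ha1, m * x * m⁻¹,
      conj_mem_typeCore hm hx, conj_ne_one hx1, conj_comm hax⟩

end Cfsg.Agent.Lib.Helper64.BG1537
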