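import Cfsg.Agent.Lib.Helper49.OElDefs
import Cfsg.Agent.Lib.Helper50.GeoBridge
import Cfsg.Agent.Lib.Helper50.MinusLang
import Cfsg.Agent.Lib.Helper50.TypeCriteria

/-!
# K-OEl-BRM (keystone 598810, architect helper49): bridges for the minus form
-/

set_option autoImplicit false
set_option linter.unusedSectionVars false
set_option linter.unusedVariables false

namespace Cfsg.Agent.Lib.Helper64.OEl

open Module Cfsg.Agent.Lib.Helper98.Elus Cfsg.Agent.Lib.Helper98.Sy Cfsg.Agent.Lib.Helper38.OhP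
  Cfsg.Agent.Lib.Helper49.OEl

universe u
variable {F : Type u} [Field F] {V : Type u} [AddCommGroup V] [Module F V]

theorem qiso_of_mem_omegaGL_minus (d : ℕ) (a b : F) (x : GL ((Fin (d - 1) ⊕ Fin (d - 1)) ⊕ Fin 2) F)
    (hx : x ∈ Cfsg.Geo.omegaGL (Cfsg.quadFormMinus (d - 1) F a b)) :
    QIso (QM d F a b) (Matrix.toLin' (x : Matrix ((Fin (d - 1) ⊕ Fin (d - 1)) ⊕ Fin 2) ((Fin (d - 1) ⊕ Fin (d - 1)) ⊕ Fin 2) F)) := by
  obtain ⟨h, -⟩ := (Cfsg.Agent.Lib.Helper50.mem_omegaGL_iff _ x).mp hx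
  intro v
  have hQ : Cfsg.quadFormMinus (d - 1) F a b
      ((x : Matrix ((Fin (d - 1) ⊕ Fin (d - 1)) ⊕ Fin 2) ((Fin (d - 1) ⊕ Fin (d - 1)) ⊕ Fin 2) F).mulVec v) =
        Cfsg.quadFormMinus (d - 1) F a b v := h v v
  rw [Matrix.toLin'_apply]
  exact hQ

theorem pB_QM_apply (d : ℕ) (a b : F) (u v : (Fin (d - 1) ⊕ Fin (d - 1)) ⊕ Fin 2 → F) :
    pB (QM d F a b) u v = QuadraticMap.polar (Cfsg.quadFormMinus (d - 1) F a b) u v := by
  rw [QuadraticMap.polarBilin_apply_apply]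
  rfl

theorem isEllM_iff (d : ℕ) (a b : F) (m : ℕ) (W : Submodule F ((Fin (d - 1) ⊕ Fin (d - 1)) ⊕ Fin 2 → F)) :
    IsEllM d a b m W ↔ (finrank F W = m ∧ NonDeg (pB (QM d F a b)) W ∧ ¬ PlusQ (QM d F a b) W) := by
  have hplus : Cfsg.Geo.IsPlusTypeOn (Cfsg.quadFormMinus (d - 1) F a b) W ↔ PlusQ (QM d F a b) W := by
    constructor
    · rintro ⟨U, hUW, hU, hUd⟩
      exact ⟨U, hUW, fun u hu => hU u hu, hUd⟩
    · rintro ⟨U, hUW, hU, hUd⟩
      exact ⟨U, hUW, fun u hu => hU u hu, hUd⟩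
  constructor
  · rintro ⟨hm, hnd, hnp⟩
    refine ⟨hm, ?_, fun h => hnp (hplus.mpr h)⟩
    intro u hu hall
    by_contra hu0
    obtain ⟨-, v, hv, hne⟩ := hnd u hu hu0
    rw [← pB_QM_apply] at hne
    exact hne (hall v hv)
  · rintro ⟨hm, hnd, hnp⟩
    refine ⟨hm, ?_, fun h => hnp (hplus.mp h)⟩
    intro u hu hu0
    have hex : ∃ v ∈ W, QuadraticMap.polar (Cfsg.quadFormMinus (d - 1) F a b) u v ≠ 0 := by
      by_contra hcon
      push Not at hcon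
      apply hu0
      apply hnd u hu
      intro v hv
      rw [pB_QM_apply]
      exact hcon v hv
    obtain ⟨v, hv, hne⟩ := hex
    refine ⟨⟨v, hv, ?_⟩, ⟨v, hv, hne⟩⟩
    rw [QuadraticMap.polar_comm]
    exact hne

theorem nonDeg_QM [Fintype F] (d : ℕ) (a b : F)
    (hab : ∀ x y : F, x ^ 2 + a * x * y + b * y ^ 2 = 0 → x = 0 ∧ y = 0) : NonDeg (pB (QM d F a b)) ⊤ := by
  have h := Cfsg.Agent.Lib.Helper50.QMinus_nondeg_of_anis (d - 1) a b hab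
  intro u _ hu
  exact h.1 u (fun v => hu v Submodule.mem_top)

theorem finrank_QM (d : ℕ) (hd : 1 ≤ d) : finrank F ((Fin (d - 1) ⊕ Fin (d - 1)) ⊕ Fin 2 → F) = 2 * d := by
  rw [Module.finrank_pi, Fintype.card_sum, Fintype.card_sum, Fintype.card_fin, Fintype.card_fin]
  omega

theorem not_plusQ_QM [Fintype F] (d : ℕ) (hd : 1 ≤ d) (a b : F)
    (hab : ∀ x y : F, x ^ 2 + a * x * y + b * y ^ 2 = 0 → x = 0 ∧ y = 0) : ¬ PlusQ (QM d F a b) ⊤ := by
  rintro ⟨U, -, hU, hdim⟩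
  have hnd := Cfsg.Agent.Lib.Helper50.QMinus_nondeg_of_anis (d - 1) a b hab
  have hQND := Cfsg.Agent.Lib.Helper50.QND_of_nondegenerate _ hnd
  have hfr : finrank F ((Fin (d - 1) ⊕ Fin (d - 1)) ⊕ Fin 2 → F) = 2 * (d - 1 + 1) := by
    rw [finrank_QM d hd]
    omega
  have hUd : d - 1 + 1 ≤ finrank F U := by
    rw [finrank_top, hfr] at hdim
    omega
  have hplus := Cfsg.Agent.Lib.Helper50.plusType_of_totally_singular (d - 1 + 1)
    (Cfsg.Agent.Lib.Helper50.QMinus (d - 1) F a b) hQND hfr U hUd hU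
  exact Cfsg.Agent.Lib.Helper50.not_plus_of_anis a b (Cfsg.Agent.Lib.Helper50.QMinus (d - 1) F a b)
    (d - 1) (LinearEquiv.refl F _) (fun v => rfl) hab hplus

theorem exists_QM_ne_zero (d : ℕ) (a b : F) : ∃ v, QM d F a b v ≠ 0 := by
  classical
  refine ⟨Pi.single (Sum.inr 0) 1, ?_⟩
  have h : QM d F a b (Pi.single (Sum.inr 0) 1) =
      Cfsg.quadFormMinus (d - 1) F a b (Pi.single (Sum.inr 0) 1) := rfl
  rw [h]
  unfold Cfsg.quadFormMinus
  simp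

theorem map_le_iff_inv_gen {ι : Type} [Fintype ι] [DecidableEq ι] (g : (ι → F) →ₗ[F] (ι → F))
    (W : Submodule F (ι → F)) : W.map g ≤ W ↔ Inv g W :=
  ⟨fun h v hv => h ⟨v, hv, rfl⟩, fun h => by
    rintro _ ⟨v, hv, rfl⟩
    exact h v hv⟩

end Cfsg.Agent.Lib.Helper64.OEl
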