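import Mathlib

/-!
Minimal `N`-invariant subgroups of a minimal normal subgroup `N` (elementary structure theory,
enough to replace the O'Nan–Scott case analysis in some arguments).
-/

namespace Cfsg.Agent.Lib.Helper64

variable {G : Type*} [Group G]

/-- the conjugate subgroup `g H g⁻¹` -/
def cj (g : G) (H : Subgroup G) : Subgroup G := H.map (MulAut.conj g).toMonoidHom

theorem mem_cj {g x : G} {H : Subgroup G} : x ∈ cj g H ↔ g⁻¹ * x * g ∈ H := by
  unfold cj
  rw [Subgroup.mem_map_equiv]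
  simp [MulAut.conj_symm_apply]

theorem conj_mem_cj {g x : G} {H : Subgroup G} (hx : x ∈ H) : g * x * g⁻¹ ∈ cj g H := by
  rw [mem_cj]
  have : g⁻¹ * (g * x * g⁻¹) * g = x := by group
  rwa [this]

theorem cj_one (H : Subgroup G) : cj 1 H = H := by
  ext x; simp [mem_cj]

theorem cj_mul (g h : G) (H : Subgroup G) : cj (g * h) H = cj g (cj h H) := by
  ext x
  simp only [mem_cj]
  have : (g * h)⁻¹ * x * (g * h) = h⁻¹ * (g⁻¹ * x * g) * h := by group
  rw [this]

theorem cj_inv_cj (g : G) (H : Subgroup G) : cj g⁻¹ (cj g H) = H := by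
  rw [← cj_mul, inv_mul_cancel, cj_one]

theorem cj_cj_inv (g : G) (H : Subgroup G) : cj g (cj g⁻¹ H) = H := by
  rw [← cj_mul, mul_inv_cancel, cj_one]

theorem cj_le_cj {g : G} {H K : Subgroup G} (h : H ≤ K) : cj g H ≤ cj g K :=
  Subgroup.map_mono h

theorem cj_eq_of_normal {N : Subgroup G} (hN : N.Normal) (g : G) : cj g N = N := by
  ext x
  rw [mem_cj]
  constructor
  · intro h
    have := hN.conj_mem _ h g
    have e : g * (g⁻¹ * x * g) * g⁻¹ = x := by group
    rwa [e] at this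
  · intro h
    have := hN.conj_mem _ h g⁻¹
    simpa using this

theorem cj_le_of_normal {N H : Subgroup G} (hN : N.Normal) (h : H ≤ N) (g : G) : cj g H ≤ N := by
  have := cj_le_cj (g := g) h
  rwa [cj_eq_of_normal hN] at this

theorem cj_eq_self_of_forall {H : Subgroup G} {g : G}
    (h1 : ∀ x ∈ H, g * x * g⁻¹ ∈ H) (h2 : ∀ x ∈ H, g⁻¹ * x * g ∈ H) : cj g H = H := by
  ext x
  rw [mem_cj]
  constructor
  · intro h
    have := h1 _ h
    have e : g * (g⁻¹ * x * g) * g⁻¹ = x := by group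
    rwa [e] at this
  · intro h; exact h2 _ h

theorem card_cj (g : G) (H : Subgroup G) : Nat.card (cj g H) = Nat.card H := by
  unfold cj
  exact (Nat.card_congr (H.equivMapOfInjective _ (MulAut.conj g).injective).toEquiv).symm

theorem cj_bot (g : G) : cj g (⊥ : Subgroup G) = ⊥ := by
  unfold cj; simp

theorem cj_eq_bot_iff {g : G} {H : Subgroup G} : cj g H = ⊥ ↔ H = ⊥ := by
  constructor
  · intro h
    have := congrArg (cj g⁻¹) h
    rwa [cj_inv_cj, cj_bot] at this
  · rintro rfl; exact cj_bot g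

theorem cj_centralizer (g : G) (H : Subgroup G) :
    cj g (Subgroup.centralizer (H : Set G)) = Subgroup.centralizer (cj g H : Set G) := by
  ext x
  rw [mem_cj, Subgroup.mem_centralizer_iff, Subgroup.mem_centralizer_iff]
  constructor
  · intro h y hy
    have hy' : g⁻¹ * y * g ∈ H := mem_cj.mp hy
    have := h _ hy'
    have e1 : y * x = g * ((g⁻¹ * y * g) * (g⁻¹ * x * g)) * g⁻¹ := by group
    have e2 : x * y = g * ((g⁻¹ * x * g) * (g⁻¹ * y * g)) * g⁻¹ := by group
    rw [e1, e2, this]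
  · intro h y hy
    have hy' : g * y * g⁻¹ ∈ cj g H := conj_mem_cj hy
    have := h _ hy'
    have e1 : y * (g⁻¹ * x * g) = g⁻¹ * ((g * y * g⁻¹) * x) * g := by group
    have e2 : (g⁻¹ * x * g) * y = g⁻¹ * (x * (g * y * g⁻¹)) * g := by group
    rw [e1, e2, this]

/-- `T` is a minimal non-trivial subgroup of `N` normalised by `N`. -/
structure IsMinInv (N T : Subgroup G) : Prop where
  ne_bot : T ≠ ⊥
  le : T ≤ N
  norm : ∀ n ∈ N, ∀ x ∈ T, n * x * n⁻¹ ∈ T
  min : ∀ M : Subgroup G, M ≤ T → (∀ n ∈ N, ∀ x ∈ M, n * x * n⁻¹ ∈ M) → M = ⊥ ∨ M = T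

theorem exists_isMinInv [Finite G] (N : Subgroup G) (hN : N ≠ ⊥) : ∃ T, IsMinInv N T := by
  classical
  let S : Set (Subgroup G) := {M | M ≠ ⊥ ∧ M ≤ N ∧ ∀ n ∈ N, ∀ x ∈ M, n * x * n⁻¹ ∈ M}
  have hS : S.Nonempty := ⟨N, hN, le_rfl, fun n hn x hx => N.mul_mem (N.mul_mem hn hx) (N.inv_mem hn)⟩
  obtain ⟨T, hT, hmin⟩ := (wellFounded_lt (α := Subgroup G)).has_min S hS
  refine ⟨T, hT.1, hT.2.1, hT.2.2, ?_⟩
  intro M hM hinv
  by_cases hM0 : M = ⊥
  · exact Or.inl hM0
  · right
    have : M ∈ S := ⟨hM0, hM.trans hT.2.1, hinv⟩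
    have := hmin M this
    exact (lt_or_eq_of_le hM).resolve_left this

theorem IsMinInv.cj {N T : Subgroup G} (hN : N.Normal) (h : IsMinInv N T) (g : G) :
    IsMinInv N (cj g T) := by
  refine ⟨?_, cj_le_of_normal hN h.le g, ?_, ?_⟩
  · intro h0; exact h.ne_bot (cj_eq_bot_iff.mp h0)
  · intro n hn x hx
    rw [mem_cj] at hx ⊢
    have hn' : g⁻¹ * n * g ∈ N := by simpa using hN.conj_mem _ hn g⁻¹
    have := h.norm _ hn' _ hx
    have e : g⁻¹ * (n * x * n⁻¹) * g = (g⁻¹ * n * g) * (g⁻¹ * x * g) * (g⁻¹ * n * g)⁻¹ := by group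
    rwa [e]
  · intro M hM hinv
    have h1 : Helper64.cj g⁻¹ M ≤ T := by
      have := cj_le_cj (g := g⁻¹) hM
      rwa [cj_inv_cj] at this
    have h2 : ∀ n ∈ N, ∀ x ∈ Helper64.cj g⁻¹ M, n * x * n⁻¹ ∈ Helper64.cj g⁻¹ M := by
      intro n hn x hx
      rw [mem_cj] at hx ⊢
      simp only [inv_inv] at hx ⊢
      have hn' : g * n * g⁻¹ ∈ N := hN.conj_mem _ hn g
      have := hinv _ hn' _ hx
      have e : g * (n * x * n⁻¹) * g⁻¹ = (g * n * g⁻¹) * (g * x * g⁻¹) * (g * n * g⁻¹)⁻¹ := by group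
      rwa [e]
    rcases h.min _ h1 h2 with h3 | h3
    · left; exact cj_eq_bot_iff.mp h3
    · right
      have := congrArg (Helper64.cj g) h3
      rwa [cj_cj_inv] at this

theorem IsMinInv.eq_or_disjoint {N T T' : Subgroup G} (h : IsMinInv N T) (h' : IsMinInv N T') :
    T = T' ∨ T ⊓ T' = ⊥ := by
  have hinv : ∀ n ∈ N, ∀ x ∈ T ⊓ T', n * x * n⁻¹ ∈ T ⊓ T' := by
    intro n hn x hx
    exact ⟨h.norm n hn x hx.1, h'.norm n hn x hx.2⟩
  rcases h.min _ inf_le_left hinv with h1 | h1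
  · exact Or.inr h1
  · rcases h'.min _ inf_le_right hinv with h2 | h2
    · exact Or.inr h2
    · left; rw [← h1, h2]

theorem IsMinInv.commute_of_ne {N T T' : Subgroup G} (h : IsMinInv N T) (h' : IsMinInv N T')
    (hne : T ≠ T') {x y : G} (hx : x ∈ T) (hy : y ∈ T') : x * y = y * x := by
  have hd := (h.eq_or_disjoint h').resolve_left hne
  have h1 : x * y * x⁻¹ * y⁻¹ ∈ T := by
    have : y * x⁻¹ * y⁻¹ ∈ T := h.norm y (h'.le hy) _ (T.inv_mem hx)
    have := T.mul_mem hx this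
    simpa [mul_assoc] using this
  have h2 : x * y * x⁻¹ * y⁻¹ ∈ T' := by
    have : x * y * x⁻¹ ∈ T' := h'.norm x (h.le hx) _ hy
    exact T'.mul_mem this (T'.inv_mem hy)
  have : x * y * x⁻¹ * y⁻¹ ∈ T ⊓ T' := ⟨h1, h2⟩
  rw [hd, Subgroup.mem_bot] at this
  have e : x * y = (x * y * x⁻¹ * y⁻¹) * (y * x) := by group
  rw [e, this, one_mul]

theorem IsMinInv.le_centralizer_of_ne {N T T' : Subgroup G} (h : IsMinInv N T) (h' : IsMinInv N T')
    (hne : T ≠ T') : T' ≤ Subgroup.centralizer (T : Set G) := by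
  intro y hy
  rw [Subgroup.mem_centralizer_iff]
  intro x hx
  exact h.commute_of_ne h' hne hx hy

/-- `T ∩ C(T)` is trivial or `T` is abelian. -/
theorem IsMinInv.center_cases {N T : Subgroup G} (h : IsMinInv N T) :
    T ⊓ Subgroup.centralizer (T : Set G) = ⊥ ∨ T ≤ Subgroup.centralizer (T : Set G) := by
  have hinv : ∀ n ∈ N, ∀ x ∈ T ⊓ Subgroup.centralizer (T : Set G),
      n * x * n⁻¹ ∈ T ⊓ Subgroup.centralizer (T : Set G) := by
    intro n hn x hx
    refine Subgroup.mem_inf.mpr ⟨h.norm n hn x hx.1, ?_⟩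
    rw [Subgroup.mem_centralizer_iff]
    intro y hy
    have hy' : n⁻¹ * y * n ∈ T := by
      have := h.norm n⁻¹ (N.inv_mem hn) y hy
      simpa using this
    have := (Subgroup.mem_centralizer_iff.mp hx.2) _ hy'
    have e1 : y * (n * x * n⁻¹) = n * ((n⁻¹ * y * n) * x) * n⁻¹ := by group
    have e2 : n * x * n⁻¹ * y = n * (x * (n⁻¹ * y * n)) * n⁻¹ := by group
    rw [e1, e2, this]
  rcases h.min _ inf_le_left hinv with h1 | h1
  · exact Or.inl h1
  · right
    intro x hx
    have : x ∈ T ⊓ Subgroup.centralizer (T : Set G) := by rw [h1]; exact hx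
    exact this.2

theorem exists_minimal_normal [Finite G] [Nontrivial G] :
    ∃ N : Subgroup G, N.Normal ∧ N ≠ ⊥ ∧ ∀ M : Subgroup G, M.Normal → M ≤ N → M = ⊥ ∨ M = N := by
  classical
  let S : Set (Subgroup G) := {M | M.Normal ∧ M ≠ ⊥}
  have hS : S.Nonempty := ⟨⊤, inferInstance, top_ne_bot⟩
  obtain ⟨N, hN, hmin⟩ := (wellFounded_lt (α := Subgroup G)).has_min S hS
  refine ⟨N, hN.1, hN.2, ?_⟩
  intro M hM hMN
  by_cases hM0 : M = ⊥
  · exact Or.inl hM0
  · right
    have := hmin M ⟨hM, hM0⟩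
    exact (lt_or_eq_of_le hMN).resolve_left this

/-- an abelian minimal normal subgroup has prime exponent -/
theorem exists_prime_exponent_of_comm [Finite G] {N : Subgroup G} (hN : N.Normal) (hN1 : N ≠ ⊥)
    (hmin : ∀ M : Subgroup G, M.Normal → M ≤ N → M = ⊥ ∨ M = N)
    (hcomm : ∀ x ∈ N, ∀ y ∈ N, x * y = y * x) :
    ∃ r : ℕ, r.Prime ∧ ∀ x ∈ N, x ^ r = 1 := by
  classical
  have hN1' : Nat.card N ≠ 1 := fun h => hN1 (Subgroup.card_eq_one.mp h)
  set r := (Nat.card N).minFac with hr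
  have hrp : r.Prime := Nat.minFac_prime hN1'
  have hrd : r ∣ Nat.card N := Nat.minFac_dvd _
  refine ⟨r, hrp, ?_⟩
  let M : Subgroup G :=
    { carrier := {x | x ∈ N ∧ x ^ r = 1}
      one_mem' := ⟨N.one_mem, one_pow _⟩
      mul_mem' := by
        rintro x y ⟨hx, hxr⟩ ⟨hy, hyr⟩
        refine ⟨N.mul_mem hx hy, ?_⟩
        have : Commute x y := hcomm x hx y hy
        rw [this.mul_pow, hxr, hyr, one_mul]
      inv_mem' := by
        rintro x ⟨hx, hxr⟩
        exact ⟨N.inv_mem hx, by rw [inv_pow, hxr, inv_one]⟩ }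
  have hMn : M.Normal := ⟨fun x hx g => by
    refine ⟨hN.conj_mem x hx.1 g, ?_⟩
    rw [conj_pow, hx.2]; simp⟩
  have hMN : M ≤ N := fun x hx => hx.1
  have hM1 : M ≠ ⊥ := by
    have : Fact r.Prime := ⟨hrp⟩
    obtain ⟨x, hx⟩ := exists_prime_orderOf_dvd_card' (G := N) r hrd
    intro h
    have hxM : (x : G) ∈ M := ⟨x.2, by
      have := pow_orderOf_eq_one x
      rw [hx] at this
      exact_mod_cast congrArg Subtype.val this⟩
    rw [h, Subgroup.mem_bot] at hxM
    have : x = 1 := Subtype.ext hxM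
    rw [this, orderOf_one] at hx
    exact hrp.one_lt.ne hx
  have hMeq := (hmin M hMn hMN).resolve_left hM1
  intro x hx
  have : x ∈ M := by rw [hMeq]; exact hx
  exact this.2

section MinNormal

variable {N T : Subgroup G}

/-- the normal closure of `T` is all of the minimal normal subgroup `N` -/
theorem normalClosure_eq_of_minimal (hN : N.Normal)
    (hmin : ∀ M : Subgroup G, M.Normal → M ≤ N → M = ⊥ ∨ M = N) (h : IsMinInv N T) :
    Subgroup.normalClosure (T : Set G) = N := by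
  have h1 : Subgroup.normalClosure (T : Set G) ≤ N := by
    have := hN
    exact Subgroup.normalClosure_le_normal h.le
  rcases hmin _ Subgroup.normalClosure_normal h1 with h2 | h2
  · exfalso
    apply h.ne_bot
    rw [eq_bot_iff]
    intro x hx
    have : x ∈ Subgroup.normalClosure (T : Set G) := Subgroup.subset_normalClosure hx
    rwa [h2] at this
  · exact h2

/-- every element of `N` is a product `t * c` with `t ∈ T`, `c ∈ N ∩ C(T)` -/
theorem exists_decomp (hN : N.Normal)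
    (hmin : ∀ M : Subgroup G, M.Normal → M ≤ N → M = ⊥ ∨ M = N) (h : IsMinInv N T)
    {n : G} (hn : n ∈ N) :
    ∃ t ∈ T, ∃ c ∈ N ⊓ Subgroup.centralizer (T : Set G), n = t * c := by
  -- the set of products is a subgroup
  let P : Subgroup G :=
    { carrier := {x | ∃ t ∈ T, ∃ c ∈ N ⊓ Subgroup.centralizer (T : Set G), x = t * c}
      one_mem' := ⟨1, T.one_mem, 1, Subgroup.one_mem _, by simp⟩
      mul_mem' := by
        rintro x y ⟨t, ht, c, hc, rfl⟩ ⟨t', ht', c', hc', rfl⟩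
        refine ⟨t * t', T.mul_mem ht ht', c * c', Subgroup.mul_mem _ hc hc', ?_⟩
        have := (Subgroup.mem_centralizer_iff.mp hc.2) t' ht'
        calc t * c * (t' * c') = t * (c * t') * c' := by group
          _ = t * (t' * c) * c' := by rw [this]
          _ = t * t' * (c * c') := by group
      inv_mem' := by
        rintro x ⟨t, ht, c, hc, rfl⟩
        refine ⟨t⁻¹, T.inv_mem ht, c⁻¹, Subgroup.inv_mem _ hc, ?_⟩
        have := (Subgroup.mem_centralizer_iff.mp (Subgroup.inv_mem _ hc).2) t⁻¹ (T.inv_mem ht)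
        rw [mul_inv_rev]
        exact this.symm }
  have hP : Subgroup.normalClosure (T : Set G) ≤ P := by
    unfold Subgroup.normalClosure
    rw [Subgroup.closure_le]
    intro y hy
    rw [Group.mem_conjugatesOfSet_iff] at hy
    obtain ⟨x, hx, hxy⟩ := hy
    rw [isConj_iff] at hxy
    obtain ⟨g, rfl⟩ := hxy
    have hg : g * x * g⁻¹ ∈ cj g T := conj_mem_cj hx
    by_cases hT : T = cj g T
    · rw [← hT] at hg
      exact ⟨_, hg, 1, Subgroup.one_mem _, by simp⟩
    · have := h.le_centralizer_of_ne (h.cj hN g) hT hg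
      exact ⟨1, T.one_mem, _, ⟨cj_le_of_normal hN h.le g hg, this⟩, by simp⟩
  rw [normalClosure_eq_of_minimal hN hmin h] at hP
  exact hP hn

/-- if `T` is abelian then so is `N` -/
theorem comm_of_minInv_comm (hN : N.Normal)
    (hmin : ∀ M : Subgroup G, M.Normal → M ≤ N → M = ⊥ ∨ M = N) (h : IsMinInv N T)
    (hT : T ≤ Subgroup.centralizer (T : Set G)) : ∀ x ∈ N, ∀ y ∈ N, x * y = y * x := by
  have key : ∀ x ∈ Group.conjugatesOfSet (T : Set G), ∀ y ∈ Group.conjugatesOfSet (T : Set G),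
      x * y = y * x := by
    intro x hx y hy
    rw [Group.mem_conjugatesOfSet_iff] at hx hy
    obtain ⟨a, ha, hax⟩ := hx
    obtain ⟨b, hb, hby⟩ := hy
    rw [isConj_iff] at hax hby
    obtain ⟨g, rfl⟩ := hax
    obtain ⟨k, rfl⟩ := hby
    have hg : g * a * g⁻¹ ∈ cj g T := conj_mem_cj ha
    have hk : k * b * k⁻¹ ∈ cj k T := conj_mem_cj hb
    by_cases hgk : cj g T = cj k T
    · -- both in the same abelian conjugate
      rw [← hgk] at hk
      have hc : cj g T ≤ Subgroup.centralizer (cj g T : Set G) := by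
        rw [← cj_centralizer]; exact cj_le_cj hT
      exact ((Subgroup.mem_centralizer_iff.mp (hc hk)) _ hg)
    · exact (h.cj hN g).commute_of_ne (h.cj hN k) hgk hg hk
  have h1 : Subgroup.normalClosure (T : Set G) ≤
      Subgroup.centralizer (Group.conjugatesOfSet (T : Set G)) := by
    unfold Subgroup.normalClosure
    rw [Subgroup.closure_le]
    intro y hy
    rw [SetLike.mem_coe, Subgroup.mem_centralizer_iff]
    intro x hx
    exact key x hx y hy
  have h2 : Subgroup.normalClosure (T : Set G) ≤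
      Subgroup.centralizer (Subgroup.normalClosure (T : Set G) : Set G) := by
    unfold Subgroup.normalClosure
    rw [Subgroup.closure_le]
    intro y hy
    rw [SetLike.mem_coe, Subgroup.mem_centralizer_iff]
    intro x hx
    have := (Subgroup.mem_centralizer_iff.mp (h1 hx)) y hy
    exact this.symm
  rw [normalClosure_eq_of_minimal hN hmin h] at h2
  intro x hx y hy
  exact ((Subgroup.mem_centralizer_iff.mp (h2 hy)) x hx)

/-- in a non-abelian minimal normal subgroup, `T ∩ C(T) = 1` -/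
theorem inf_centralizer_eq_bot (hN : N.Normal)
    (hmin : ∀ M : Subgroup G, M.Normal → M ≤ N → M = ⊥ ∨ M = N) (h : IsMinInv N T)
    (hNc : ¬ ∀ x ∈ N, ∀ y ∈ N, x * y = y * x) :
    T ⊓ Subgroup.centralizer (T : Set G) = ⊥ := by
  rcases h.center_cases with h1 | h1
  · exact h1
  · exact absurd (comm_of_minInv_comm hN hmin h h1) hNc

/-- `T` has elements of two different prime orders -/
theorem exists_two_primes [Finite G] (h : IsMinInv N T)
    (hc : T ⊓ Subgroup.centralizer (T : Set G) = ⊥) :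
    ∃ p q : ℕ, p.Prime ∧ q.Prime ∧ p ≠ q ∧ (∃ t ∈ T, orderOf t = p) ∧ (∃ t ∈ T, orderOf t = q) := by
  classical
  have hT1 : Nat.card T ≠ 1 := by
    intro h1
    exact h.ne_bot (Subgroup.card_eq_one.mp h1)
  have hT0 : Nat.card T ≠ 0 := Nat.card_pos.ne'
  set p := (Nat.card T).minFac with hp
  have hpp : p.Prime := Nat.minFac_prime hT1
  have hpd : p ∣ Nat.card T := Nat.minFac_dvd _
  have hq : ∃ q : ℕ, q.Prime ∧ q ∣ Nat.card T ∧ q ≠ p := by
    by_contra hcon
    push Not at hcon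
    -- then T is a p-group
    have hpow : ∃ k, Nat.card T = p ^ k := by
      exact ⟨_, Nat.eq_prime_pow_of_unique_prime_dvd hT0 (fun {q} hq hqd => hcon q hq hqd)⟩
    obtain ⟨k, hk⟩ := hpow
    have : Fact p.Prime := ⟨hpp⟩
    have hpg : IsPGroup p T := IsPGroup.of_card hk
    have : Nontrivial T := (Subgroup.nontrivial_iff_ne_bot T).mpr h.ne_bot
    have hcen := hpg.center_nontrivial
    obtain ⟨⟨z, hz⟩, hz1⟩ := exists_ne (1 : Subgroup.center T)
    have hzc : (z : G) ∈ T ⊓ Subgroup.centralizer (T : Set G) := by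
      refine Subgroup.mem_inf.mpr ⟨z.2, ?_⟩
      rw [Subgroup.mem_centralizer_iff]
      intro y hy
      have := (Subgroup.mem_center_iff.mp hz) ⟨y, hy⟩
      exact congrArg Subtype.val this
    rw [hc, Subgroup.mem_bot] at hzc
    apply hz1
    ext
    exact hzc
  obtain ⟨q, hqp, hqd, hqne⟩ := hq
  refine ⟨p, q, hpp, hqp, hqne.symm, ?_, ?_⟩
  · have : Fact p.Prime := ⟨hpp⟩
    obtain ⟨x, hx⟩ := exists_prime_orderOf_dvd_card' (G := T) p hpd
    exact ⟨x, x.2, by rw [Subgroup.orderOf_coe]; exact hx⟩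
  · have : Fact q.Prime := ⟨hqp⟩
    obtain ⟨x, hx⟩ := exists_prime_orderOf_dvd_card' (G := T) q hqd
    exact ⟨x, x.2, by rw [Subgroup.orderOf_coe]; exact hx⟩

end MinNormal

end Cfsg.Agent.Lib.Helper64
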