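import Mathlib
import Cfsg.Agent.Lib.Helper01.Basic
import Cfsg.Agent.Lib.Helper01.Hall
import Cfsg.Agent.Lib.Helper63.OnanScott
import Cfsg.Agent.Lib.Helper64.MinInv

set_option autoImplicit false

/-!
# A simple section carrying a set of "isolated" primes

If `t` is a set of at least two primes, each dividing `|G|` exactly once, pairwise non-adjacent in
the prime graph of `G` and with `p ∤ q - 1` for `p, q ∈ t`, then `G` has a chief factor which is a
non-abelian simple group whose order is divisible by every prime in `t`.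
-/

namespace Cfsg.Agent.Lib.Helper64.SimpleSection

universe u

open Cfsg.Agent.Lib.Helper63 in
/-- A non-abelian minimal normal subgroup whose order is divisible by a prime `r` exactly once is
simple. -/
theorem isSimpleGroup_of_minNormal {Γ : Type*} [Group Γ] [Finite Γ] (M : Subgroup Γ) [hMn : M.Normal]
    (hM1 : M ≠ ⊥) (hmin : ∀ K : Subgroup Γ, K.Normal → K ≤ M → K = ⊥ ∨ K = M)
    (hnab : ¬ ∀ x ∈ M, ∀ y ∈ M, x * y = y * x)
    (r : ℕ) (hr : r.Prime) (hrM : r ∣ Nat.card M) (hr2 : ¬ r ^ 2 ∣ Nat.card M) :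
    IsSimpleGroup M := by
  classical
  have hNN : NNormal M M := fun n hn t ht => hMn.conj_mem t ht n
  obtain ⟨T, hTM, hT⟩ := exists_isMinNNormal_le M M le_rfl hNN hM1
  obtain ⟨E, -, -⟩ := exists_decomp_equiv hT hmin hnab
  have hcardi : ∀ i : CjIdx T, Nat.card (i.1 : Subgroup Γ) = Nat.card T := by
    intro i
    obtain ⟨g, hg⟩ := i.2
    rw [hg]
    unfold Cfsg.Agent.Lib.Helper63.cj
    exact Subgroup.card_map_of_injective (MulAut.conj g).injective
  have hcard : Nat.card M = Nat.card T ^ Nat.card (CjIdx T) := by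
    rw [Nat.card_congr E.toEquiv, Nat.card_pi]
    rw [Finset.prod_congr rfl (fun i _ => hcardi i), Finset.prod_const, Finset.card_univ,
      ← Nat.card_eq_fintype_card]
  have hrT : r ∣ Nat.card T := by
    rw [hcard] at hrM
    exact hr.dvd_of_dvd_pow hrM
  have hk : Nat.card (CjIdx T) < 2 := by
    by_contra hk
    push Not at hk
    apply hr2
    rw [hcard]
    exact (pow_dvd_pow_of_dvd hrT 2).trans (pow_dvd_pow _ hk)
  have hk1 : Nat.card (CjIdx T) = 1 := by
    have : 0 < Nat.card (CjIdx T) := by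
      have : Nonempty (CjIdx T) := ⟨CjIdx.base T⟩
      exact Nat.card_pos
    omega
  have hTM' : T = M := by
    apply Subgroup.eq_of_le_of_card_ge hTM
    rw [hcard, hk1, pow_one]
  have hsimp : IsSimpleGroup T := hT.isSimpleGroup hmin
  rw [hTM'] at hsimp
  exact hsimp

/-- Frattini argument: if `r ∣ |M|` (`M` normal), `r² ∤ |Γ|`, `s ∣ |Γ|`, `s ∤ r - 1` and `Γ` has no
element of order `r s`, then `s ∣ |M|`. -/
theorem dvd_card_of_frattini {Γ : Type*} [Group Γ] [Finite Γ] (M : Subgroup Γ) [M.Normal]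
    (r s : ℕ) [hr : Fact r.Prime] [hs : Fact s.Prime] (hrs : r ≠ s)
    (hrM : r ∣ Nat.card M) (hr2 : ¬ r ^ 2 ∣ Nat.card Γ) (hsΓ : s ∣ Nat.card Γ)
    (hsr : ¬ s ∣ r - 1) (hno : ∀ g : Γ, orderOf g ≠ r * s) : s ∣ Nat.card M := by
  by_contra hsM
  obtain ⟨R⟩ : Nonempty (Sylow r M) := inferInstance
  set R' : Subgroup Γ := (R : Subgroup M).map M.subtype with hR'
  have hfrat : Subgroup.normalizer (R' : Set Γ) ⊔ M = ⊤ := Sylow.normalizer_sup_eq_top R
  -- `|R'| = r`
  have hcardR : Nat.card R' = r := by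
    rw [hR', Subgroup.card_map_of_injective M.subtype_injective, Sylow.card_eq_multiplicity]
    have hMpos : Nat.card M ≠ 0 := Nat.card_pos.ne'
    have h1 : 0 < (Nat.card M).factorization r := hr.out.factorization_pos_of_dvd hMpos hrM
    have h2 : (Nat.card M).factorization r < 2 := by
      by_contra h2
      push Not at h2
      apply hr2
      have h3 : r ^ 2 ∣ Nat.card M :=
        (pow_dvd_pow r h2).trans (Nat.ordProj_dvd (Nat.card M) r)
      exact h3.trans (Subgroup.card_subgroup_dvd_card M)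
    have h3 : (Nat.card M).factorization r = 1 := by omega
    rw [h3, pow_one]
  set L : Subgroup Γ := Subgroup.normalizer (R' : Set Γ) with hL
  -- `s ∣ |L|`
  have hsL : s ∣ Nat.card L := by
    have h1 := Cfsg.Agent.Lib.Helper01.card_sup_mul_card_inf M L
    rw [hfrat, Subgroup.card_top] at h1
    have h2 : s ∣ Nat.card M * Nat.card L := by
      rw [← h1]
      exact hsΓ.mul_right _
    rcases (Nat.Prime.dvd_mul hs.out).mp h2 with h | h
    · exact absurd h hsM
    · exact h
  obtain ⟨y, hy⟩ := exists_prime_orderOf_dvd_card' s hsL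
  -- the action on `R'`
  have : Fact (Nat.card R').Prime := ⟨hcardR.symm ▸ hr.out⟩
  have : IsCyclic R' := isCyclic_of_prime_card rfl
  have hautcard : Nat.card (MulAut R') = r - 1 := by
    rw [IsCyclic.card_mulAut, hcardR, Nat.totient_prime hr.out]
  let φ : L →* MulAut R' := R'.normalizerMonoidHom
  have hφy : φ y = 1 := by
    have h1 : orderOf (φ y) ∣ s := hy ▸ orderOf_map_dvd φ y
    have h2 : orderOf (φ y) ∣ r - 1 := hautcard ▸ orderOf_dvd_natCard (φ y)
    rcases (Nat.dvd_prime hs.out).mp h1 with h | h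
    · exact orderOf_eq_one_iff.mp h
    · exact absurd (h ▸ h2) hsr
  have hycent : (y : Γ) ∈ Subgroup.centralizer (R' : Set Γ) := by
    have : y ∈ φ.ker := MonoidHom.mem_ker.mpr hφy
    rw [Subgroup.normalizerMonoidHom_ker] at this
    exact Subgroup.mem_subgroupOf.mp this
  obtain ⟨x, hx⟩ := exists_prime_orderOf_dvd_card' r (hcardR ▸ dvd_rfl : r ∣ Nat.card R')
  have hxy : Commute (x : Γ) (y : Γ) := by
    exact (Subgroup.mem_centralizer_iff.mp hycent) (x : Γ) x.2
  apply hno ((x : Γ) * (y : Γ))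
  have hox : orderOf (x : Γ) = r := by rw [Subgroup.orderOf_coe, hx]
  have hoy : orderOf (y : Γ) = s := by rw [Subgroup.orderOf_coe, hy]
  rw [hxy.orderOf_mul_eq_mul_orderOf_of_coprime, hox, hoy]
  rw [hox, hoy]
  exact (Nat.coprime_primes hr.out hs.out).mpr hrs

/-- An abelian minimal normal subgroup has prime-power order: two different primes cannot both
divide its order. -/
theorem not_comm_of_two_primes {Γ : Type*} [Group Γ] [Finite Γ] (M : Subgroup Γ) (hMn : M.Normal)
    (hM1 : M ≠ ⊥) (hmin : ∀ K : Subgroup Γ, K.Normal → K ≤ M → K = ⊥ ∨ K = M)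
    (p q : ℕ) (hp : p.Prime) (hq : q.Prime) (hpq : p ≠ q) (hpM : p ∣ Nat.card M)
    (hqM : q ∣ Nat.card M) : ¬ ∀ x ∈ M, ∀ y ∈ M, x * y = y * x := by
  intro hcomm
  obtain ⟨r, hr, hexp⟩ := exists_prime_exponent_of_comm hMn hM1 hmin hcomm
  have key : ∀ s : ℕ, s.Prime → s ∣ Nat.card M → s = r := by
    intro s hs hsM
    have : Fact s.Prime := ⟨hs⟩
    obtain ⟨x, hx⟩ := exists_prime_orderOf_dvd_card' s hsM
    have h1 : (x : Γ) ^ r = 1 := hexp x x.2
    have h2 : orderOf (x : Γ) ∣ r := orderOf_dvd_of_pow_eq_one h1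
    rw [Subgroup.orderOf_coe, hx] at h2
    exact (Nat.prime_dvd_prime_iff_eq hs hr).mp h2
  exact hpq ((key p hp hpM).trans (key q hq hqM).symm)

/-- A nontrivial finite group has a minimal normal subgroup. -/
theorem exists_minNormal {Γ : Type*} [Group Γ] [Finite Γ] (N : Subgroup Γ) (hNn : N.Normal)
    (hN : N ≠ ⊥) :
    ∃ M : Subgroup Γ, M.Normal ∧ M ≠ ⊥ ∧ M ≤ N ∧
      ∀ B : Subgroup Γ, B.Normal → B ≤ M → B = ⊥ ∨ B = M := by
  induction h : Nat.card N using Nat.strong_induction_on generalizing N with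
  | _ n ih =>
    by_cases hmin : ∀ B : Subgroup Γ, B.Normal → B ≤ N → B = ⊥ ∨ B = N
    · exact ⟨N, hNn, hN, le_rfl, hmin⟩
    · push Not at hmin
      obtain ⟨B, hBn, hBN, hB1, hB2⟩ := hmin
      have hlt : Nat.card B < Nat.card N := by
        by_contra hge
        push Not at hge
        exact hB2 (Subgroup.eq_of_le_of_card_ge hBN hge)
      obtain ⟨M, h1, h2, h3, h4⟩ := ih _ (h ▸ hlt) B hBn hB1 rfl
      exact ⟨M, h1, h2, h3.trans hBN, h4⟩

/-- **Simple section.** Let `t` be a set of at least two primes, each dividing `|G|` exactly once,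
such that `G` has no element of order `p q` and `p ∤ q - 1` for `p, q ∈ t`. Then `G` has normal
subgroups `N < H` with `H / N` non-abelian simple of order divisible by every prime in `t`. -/
theorem exists_simple_section {G : Type u} [Group G] [Finite G] (t : Set ℕ)
    (ht2 : ∃ p ∈ t, ∃ q ∈ t, p ≠ q)
    (htp : ∀ p ∈ t, p.Prime) (hdiv : ∀ p ∈ t, p ∣ Nat.card G)
    (hsq : ∀ p ∈ t, ¬ p ^ 2 ∣ Nat.card G)
    (hno : ∀ p ∈ t, ∀ q ∈ t, p ≠ q → ∀ g : G, orderOf g ≠ p * q)
    (hnd : ∀ p ∈ t, ∀ q ∈ t, ¬ p ∣ q - 1) :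
    ∃ (N H : Subgroup G) (_ : N.Normal), H.Normal ∧ N < H ∧
      IsSimpleGroup (↥H ⧸ N.subgroupOf H) ∧ ¬ IsMulCommutative (↥H ⧸ N.subgroupOf H) ∧
      ∀ p ∈ t, p ∣ Nat.card (↥H ⧸ N.subgroupOf H) := by
  classical
  -- Step 1: a normal `t'`-subgroup of maximal order
  let S := {N : Subgroup G // N.Normal ∧ ∀ p ∈ t, ¬ p ∣ Nat.card N}
  have hSne : Nonempty S := ⟨⟨⊥, inferInstance, fun p hp h => by
    rw [Subgroup.card_bot] at h
    exact (htp p hp).one_lt.ne' (Nat.dvd_one.mp h)⟩⟩
  have hSfin : Finite S := Subtype.finite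
  obtain ⟨⟨N, hNn, hNt⟩, hNmax⟩ := Finite.exists_max (fun N : S => Nat.card N.1)
  -- Step 2: the quotient
  let f : G →* G ⧸ N := QuotientGroup.mk' N
  have hf : Function.Surjective f := QuotientGroup.mk'_surjective N
  have hker : f.ker = N := QuotientGroup.ker_mk' N
  have hcardG : Nat.card G = Nat.card (G ⧸ N) * Nat.card N :=
    Subgroup.card_eq_card_quotient_mul_card_subgroup N
  have hΓdiv : ∀ p ∈ t, p ∣ Nat.card (G ⧸ N) := by
    intro p hp
    have h1 : p ∣ Nat.card (G ⧸ N) * Nat.card N := hcardG ▸ hdiv p hp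
    rcases (Nat.Prime.dvd_mul (htp p hp)).mp h1 with h | h
    · exact h
    · exact absurd h (hNt p hp)
  have hΓsq : ∀ p ∈ t, ¬ p ^ 2 ∣ Nat.card (G ⧸ N) := by
    intro p hp h
    apply hsq p hp
    rw [hcardG]
    exact h.mul_right _
  have hΓno : ∀ p ∈ t, ∀ q ∈ t, p ≠ q → ∀ g : G ⧸ N, orderOf g ≠ p * q := by
    intro p hp q hq hpq g hg
    obtain ⟨x, rfl⟩ := hf g
    have h1 : p * q ∣ orderOf x := hg ▸ orderOf_map_dvd f x
    have hpq0 : p * q ≠ 0 := Nat.mul_ne_zero (htp p hp).ne_zero (htp q hq).ne_zero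
    have hx0 : orderOf x ≠ 0 := (orderOf_pos x).ne'
    have hd0 : orderOf x / (p * q) ≠ 0 := by
      intro h0
      rcases Nat.div_eq_zero_iff.mp h0 with h | h
      · exact hpq0 h
      · exact absurd (Nat.le_of_dvd (Nat.pos_of_ne_zero hx0) h1) (by omega)
    have h2 : orderOf (x ^ (orderOf x / (p * q))) = p * q := by
      rw [orderOf_pow_of_dvd hd0 (Nat.div_dvd_of_dvd h1), Nat.div_div_self h1 hx0]
    exact hno p hp q hq hpq _ h2
  obtain ⟨p₀, hp₀, q₀, hq₀, hpq₀⟩ := ht2
  have hΓnt : (⊤ : Subgroup (G ⧸ N)) ≠ ⊥ := by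
    intro h
    have h1 : Nat.card (G ⧸ N) = 1 := by
      rw [← Subgroup.card_top (G := G ⧸ N), h, Subgroup.card_bot]
    have h2 := hΓdiv p₀ hp₀
    rw [h1] at h2
    exact (htp p₀ hp₀).one_lt.ne' (Nat.dvd_one.mp h2)
  -- Step 3: a minimal normal subgroup of the quotient
  obtain ⟨Mb, hMn, hM1, -, hMmin⟩ := exists_minNormal (⊤ : Subgroup (G ⧸ N)) inferInstance hΓnt
  -- Step 4: its preimage
  set H : Subgroup G := Mb.comap f with hH
  have hHn : H.Normal := hMn.comap f
  have hcardH : Nat.card H = Nat.card Mb * Nat.card N := by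
    rw [hH, Cfsg.Agent.Lib.Helper01.card_comap_of_surjective f hf Mb, hker]
  have hNH : N ≤ H := by
    intro x hx
    rw [hH, Subgroup.mem_comap]
    have : f x = 1 := by rw [← MonoidHom.mem_ker, hker]; exact hx
    rw [this]; exact Mb.one_mem
  have hMcard : 1 < Nat.card Mb := by
    have h1 : Nat.card Mb ≠ 1 := fun h => hM1 (Subgroup.card_eq_one.mp h)
    have h2 : 0 < Nat.card Mb := Nat.card_pos
    omega
  have hNltH : N < H := by
    refine lt_of_le_of_ne hNH ?_
    intro h
    have h1 : Nat.card N = Nat.card Mb * Nat.card N := by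
      conv_lhs => rw [h]
      exact hcardH
    have h2 : 0 < Nat.card N := Nat.card_pos
    nlinarith
  obtain ⟨r, hr, hrM⟩ : ∃ r ∈ t, r ∣ Nat.card Mb := by
    by_contra hcon
    push Not at hcon
    have hHt : ∀ p ∈ t, ¬ p ∣ Nat.card H := by
      intro p hp h
      rw [hcardH] at h
      rcases (Nat.Prime.dvd_mul (htp p hp)).mp h with h | h
      · exact hcon p hp h
      · exact hNt p hp h
    have := hNmax ⟨H, hHn, hHt⟩
    simp only at this
    rw [hcardH] at this
    have h2 : 0 < Nat.card N := Nat.card_pos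
    nlinarith
  -- Step 5: every prime of `t` divides `|Mb|`
  have hall : ∀ s ∈ t, s ∣ Nat.card Mb := by
    intro s hs
    by_cases hsr : s = r
    · rw [hsr]; exact hrM
    · have : Fact r.Prime := ⟨htp r hr⟩
      have : Fact s.Prime := ⟨htp s hs⟩
      exact dvd_card_of_frattini Mb r s (fun h => hsr h.symm) hrM (hΓsq r hr) (hΓdiv s hs)
        (hnd s hs r hr) (hΓno r hr s hs (fun h => hsr h.symm))
  -- Step 6: not abelian
  have hnab : ¬ ∀ x ∈ Mb, ∀ y ∈ Mb, x * y = y * x :=
    not_comm_of_two_primes Mb hMn hM1 hMmin p₀ q₀ (htp p₀ hp₀) (htp q₀ hq₀) hpq₀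
      (hall p₀ hp₀) (hall q₀ hq₀)
  -- Step 7: simple
  have hsimple : IsSimpleGroup Mb :=
    isSimpleGroup_of_minNormal Mb hM1 hMmin hnab r (htp r hr) hrM
      (fun h => hΓsq r hr (h.trans (Subgroup.card_subgroup_dvd_card Mb)))
  -- Step 8: the isomorphism `H / N ≃ Mb`
  let ψ : H →* Mb := f.subgroupComap Mb
  have hψsurj : Function.Surjective ψ := f.subgroupComap_surjective_of_surjective Mb hf
  have hψker : ψ.ker = N.subgroupOf H := by
    ext x
    rw [MonoidHom.mem_ker, Subgroup.mem_subgroupOf]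
    have h1 : ψ x = 1 ↔ f (x : G) = 1 := by
      constructor
      · intro h
        exact congrArg Subtype.val h
      · intro h
        exact Subtype.ext h
    rw [h1]
    exact QuotientGroup.eq_one_iff (x : G)
  let e : (↥H ⧸ N.subgroupOf H) ≃* Mb :=
    (QuotientGroup.quotientMulEquivOfEq hψker.symm).trans
      (QuotientGroup.quotientKerEquivOfSurjective ψ hψsurj)
  refine ⟨N, H, hNn, hHn, hNltH, ?_, ?_, ?_⟩
  · exact e.isSimpleGroup_congr.mpr hsimple
  · intro hcomm
    apply hnab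
    intro x hx y hy
    have h1 : e.symm ⟨x, hx⟩ * e.symm ⟨y, hy⟩ = e.symm ⟨y, hy⟩ * e.symm ⟨x, hx⟩ :=
      mul_comm' _ _
    rw [← map_mul, ← map_mul] at h1
    have h2 := e.symm.injective h1
    exact congrArg Subtype.val h2
  · intro p hp
    rw [Nat.card_congr e.toEquiv]
    exact hall p hp

end Cfsg.Agent.Lib.Helper64.SimpleSection
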