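import Mathlib

set_option autoImplicit false

namespace Cfsg.Agent.Lib.Helper64

open MulAction

section Burnside

variable {G X : Type*} [Group G] [MulAction G X]

/-- Burnside's lemma with `Nat.card`. -/
theorem burnside_sum [Fintype G] [Finite X] :
    (∑ g : G, Nat.card (fixedBy X g)) = Nat.card (orbitRel.Quotient G X) * Nat.card G := by
  classical
  have := Fintype.ofFinite X
  have : Fintype (orbitRel.Quotient G X) := Fintype.ofFinite _
  have h := MulAction.sum_card_fixedBy_eq_card_orbits_mul_card_group G X
  simp only [Nat.card_eq_fintype_card]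
  convert h

/-- Burnside's lemma for a subgroup, as a filtered sum over the ambient group. -/
theorem burnside_sum_subgroup [Fintype G] [Finite X] (D : Subgroup G) [DecidablePred (· ∈ D)] :
    (∑ g ∈ Finset.univ.filter (· ∈ D), Nat.card (fixedBy X g))
      = Nat.card (orbitRel.Quotient D X) * Nat.card D := by
  classical
  rw [← burnside_sum (G := D) (X := X)]
  rw [Finset.sum_subtype (Finset.univ.filter (· ∈ D)) (p := (· ∈ D)) (by simp)]
  rfl

theorem card_filter_mem_subgroup [Fintype G] (D : Subgroup G) [DecidablePred (· ∈ D)] :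
    (Finset.univ.filter (· ∈ D)).card = Nat.card D := by
  rw [Nat.card_eq_fintype_card, Fintype.card_subtype]

theorem card_orbits_eq_one_of_pretransitive [Nonempty X] [IsPretransitive G X] :
    Nat.card (orbitRel.Quotient G X) = 1 := by
  have : Subsingleton (orbitRel.Quotient G X) :=
    (MulAction.pretransitive_iff_subsingleton_quotient G X).mp inferInstance
  have : Nonempty (orbitRel.Quotient G X) := ⟨Quotient.mk'' (Classical.arbitrary X)⟩
  exact Nat.card_eq_one_iff_unique.mpr ⟨inferInstance, inferInstance⟩

end Burnside

section Der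

variable {G X : Type*} [Group G] [MulAction G X]

/-- The counting argument: over a transitive finite group, if `D` is a subgroup containing every
derangement, then `D` has one orbit and every element outside `D` has exactly one fixed point. -/
theorem der_count [Finite G] [Finite X] [Nonempty X] [IsPretransitive G X] (D : Subgroup G)
    (hD : ∀ g : G, (∀ x : X, g • x ≠ x) → g ∈ D) :
    Nat.card (orbitRel.Quotient D X) = 1 ∧ ∀ g : G, g ∉ D → Nat.card (fixedBy X g) = 1 := by
  classical
  have := Fintype.ofFinite G
  have htot : (∑ g : G, Nat.card (fixedBy X g)) = Nat.card G := by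
    rw [burnside_sum, card_orbits_eq_one_of_pretransitive, one_mul]
  have hD' := burnside_sum_subgroup (X := X) D
  have hsplit := Finset.sum_filter_add_sum_filter_not (Finset.univ : Finset G) (· ∈ D)
    (fun g => Nat.card (fixedBy X g))
  have hcard := Finset.card_filter_add_card_filter_not (s := (Finset.univ : Finset G)) (· ∈ D)
  rw [card_filter_mem_subgroup] at hcard
  have hge : ∀ g ∈ Finset.univ.filter (fun g : G => ¬ g ∈ D), 1 ≤ Nat.card (fixedBy X g) := by
    intro g hg
    rw [Finset.mem_filter] at hg
    by_contra hlt
    have h0 : Nat.card (fixedBy X g) = 0 := by omega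
    apply hg.2
    apply hD
    intro x hx
    have : Nonempty (fixedBy X g) := ⟨⟨x, hx⟩⟩
    have := Nat.card_pos (α := fixedBy X g)
    omega
  have hsum_ge : (Finset.univ.filter (fun g : G => ¬ g ∈ D)).card
      ≤ ∑ g ∈ Finset.univ.filter (fun g : G => ¬ g ∈ D), Nat.card (fixedBy X g) := by
    rw [Finset.card_eq_sum_ones]
    exact Finset.sum_le_sum hge
  have hoD : 1 ≤ Nat.card (orbitRel.Quotient D X) := by
    have : Nonempty (orbitRel.Quotient D X) := ⟨Quotient.mk'' (Classical.arbitrary X)⟩
    exact Nat.card_pos
  have hDpos : 0 < Nat.card D := Nat.card_pos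
  have hcardG : Fintype.card G = Nat.card G := (Nat.card_eq_fintype_card).symm
  rw [Finset.card_univ, hcardG] at hcard
  have hmul : Nat.card D ≤ Nat.card (orbitRel.Quotient D X) * Nat.card D :=
    Nat.le_mul_of_pos_left _ hoD
  have h1 : Nat.card (orbitRel.Quotient D X) * Nat.card D = Nat.card D := by omega
  have h2 : ∑ g ∈ Finset.univ.filter (fun g : G => ¬ g ∈ D), Nat.card (fixedBy X g)
      = (Finset.univ.filter (fun g : G => ¬ g ∈ D)).card := by omega
  refine ⟨?_, ?_⟩
  · exact Nat.eq_of_mul_eq_mul_right hDpos (by rw [h1, one_mul])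
  · intro g hg
    rw [Finset.card_eq_sum_ones] at h2
    have := (Finset.sum_eq_sum_iff_of_le hge).mp h2.symm g (by simp [hg])
    exact this.symm

end Der

end Cfsg.Agent.Lib.Helper64

namespace Cfsg.Agent.Lib.Helper64

open MulAction

section Rank

variable {G X : Type*} [Group G] [MulAction G X]

theorem card_fixedBy_prod (g : G) :
    Nat.card (fixedBy (X × X) g) = Nat.card (fixedBy X g) * Nat.card (fixedBy X g) := by
  rw [← Nat.card_prod]
  refine Nat.card_congr ?_
  refine
    { toFun := fun p => (⟨p.1.1, ?_⟩, ⟨p.1.2, ?_⟩)
      invFun := fun q => ⟨(q.1.1, q.2.1), ?_⟩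
      left_inv := fun p => rfl
      right_inv := fun q => rfl }
  · have := p.2
    rw [mem_fixedBy, Prod.smul_def] at this
    exact congrArg Prod.fst this
  · have := p.2
    rw [mem_fixedBy, Prod.smul_def] at this
    exact congrArg Prod.snd this
  · rw [mem_fixedBy, Prod.smul_def]
    exact Prod.ext q.1.2 q.2.2

/-- Rank formula for a subgroup `D` containing all derangements of a transitive group. -/
theorem der_rank [Finite G] [Finite X] [Nonempty X] [IsPretransitive G X] (D : Subgroup G)
    (hD : ∀ g : G, (∀ x : X, g • x ≠ x) → g ∈ D) :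
    Nat.card (orbitRel.Quotient D (X × X)) - 1
      = (Nat.card (orbitRel.Quotient G (X × X)) - 1) * D.index := by
  classical
  have := Fintype.ofFinite G
  obtain ⟨-, hfix⟩ := der_count D hD
  have htot : (∑ g : G, Nat.card (fixedBy (X × X) g))
      = Nat.card (orbitRel.Quotient G (X × X)) * Nat.card G := burnside_sum
  have hD' := burnside_sum_subgroup (X := X × X) D
  have hsplit := Finset.sum_filter_add_sum_filter_not (Finset.univ : Finset G) (· ∈ D)
    (fun g => Nat.card (fixedBy (X × X) g))
  have hcard := Finset.card_filter_add_card_filter_not (s := (Finset.univ : Finset G)) (· ∈ D)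
  rw [card_filter_mem_subgroup] at hcard
  have hcardG : Fintype.card G = Nat.card G := (Nat.card_eq_fintype_card).symm
  rw [Finset.card_univ, hcardG] at hcard
  have hout : ∑ g ∈ Finset.univ.filter (fun g : G => ¬ g ∈ D), Nat.card (fixedBy (X × X) g)
      = (Finset.univ.filter (fun g : G => ¬ g ∈ D)).card := by
    rw [Finset.card_eq_sum_ones]
    refine Finset.sum_congr rfl fun g hg => ?_
    rw [Finset.mem_filter] at hg
    rw [card_fixedBy_prod, hfix g hg.2]
  have hidx : D.index * Nat.card D = Nat.card G := D.index_mul_card
  have hDpos : 0 < Nat.card D := Nat.card_pos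
  have hkpos : 0 < D.index := Nat.pos_of_ne_zero D.index_ne_zero_of_finite
  have hrG : 1 ≤ Nat.card (orbitRel.Quotient G (X × X)) := by
    have : Nonempty (orbitRel.Quotient G (X × X)) :=
      ⟨Quotient.mk'' (Classical.arbitrary X, Classical.arbitrary X)⟩
    exact Nat.card_pos
  generalize Nat.card (orbitRel.Quotient G (X × X)) = rG at *
  generalize Nat.card (orbitRel.Quotient D (X × X)) = rD at *
  generalize D.index = k at *
  generalize Nat.card D = d at *
  generalize (Finset.univ.filter (fun g : G => ¬ g ∈ D)).card = c at *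
  -- rG * (k*d) = rD * d + c,  d + c = k * d
  have e1 : rG * (k * d) = rD * d + c := by
    rw [hidx, ← htot, ← hsplit, hD', hout]
  have e2 : d + c = k * d := by rw [hidx]; exact hcard
  obtain ⟨r, rfl⟩ : ∃ r, rG = r + 1 := ⟨rG - 1, by omega⟩
  have e3 : (r * k + 1) * d = rD * d := by
    have : (r + 1) * (k * d) = r * k * d + k * d := by ring
    rw [this] at e1
    have : (r * k + 1) * d = r * k * d + d := by ring
    rw [this]
    omega
  have e4 : r * k + 1 = rD := Nat.eq_of_mul_eq_mul_right hDpos e3
  rw [← e4]
  simp

end Rank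

end Cfsg.Agent.Lib.Helper64
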