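import Mathlib

set_option autoImplicit false

namespace Cfsg.Agent.Lib.Helper64

section Carm
variable {G : Type*} [Group G]

/-- Carmichael relations on `y 0, …, y (m-1)`. -/
structure CarRel (y : ℕ → G) (m : ℕ) : Prop where
  r1 : y 0 ^ 3 = 1
  r2 : ∀ i, 1 ≤ i → i < m → y i * y i = 1
  r3 : ∀ i, i + 1 < m → (y i * y (i + 1)) ^ 3 = 1
  r4 : ∀ i j, i + 1 < j → j < m → (y i * y j) ^ 2 = 1

theorem CarRel.mono {y : ℕ → G} {m m' : ℕ} (h : CarRel y m) (hm : m' ≤ m) : CarRel y m' where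
  r1 := h.r1
  r2 := fun i h1 h2 => h.r2 i h1 (lt_of_lt_of_le h2 hm)
  r3 := fun i h1 => h.r3 i (lt_of_lt_of_le h1 hm)
  r4 := fun i j h1 h2 => h.r4 i j h1 (lt_of_lt_of_le h2 hm)

/-- the subgroup generated by the first `m` generators -/
def carK (y : ℕ → G) (m : ℕ) : Subgroup G := Subgroup.closure {g | ∃ i, i < m ∧ g = y i}

theorem carK_mem {y : ℕ → G} {m i : ℕ} (hi : i < m) : y i ∈ carK y m :=
  Subgroup.subset_closure ⟨i, hi, rfl⟩

theorem carK_mono {y : ℕ → G} {m m' : ℕ} (hm : m' ≤ m) : carK y m' ≤ carK y m := by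
  apply Subgroup.closure_mono
  rintro g ⟨i, hi, rfl⟩
  exact ⟨i, lt_of_lt_of_le hi hm, rfl⟩

variable {y : ℕ → G} {M : ℕ}

theorem CarRel.inv_eq (h : CarRel y M) {i : ℕ} (h1 : 1 ≤ i) (h2 : i < M) : (y i)⁻¹ = y i :=
  inv_eq_of_mul_eq_one_left (h.r2 i h1 h2)

theorem CarRel.comm (h : CarRel y M) {i j : ℕ} (h1 : 1 ≤ i) (h2 : i + 1 < j) (h3 : j < M) :
    y i * y j = y j * y i := by
  have h4 : y i * y j * (y i * y j) = 1 := by
    have := h.r4 i j h2 h3
    rwa [pow_two] at this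
  have e1 : y i * y j = (y i * y j)⁻¹ := eq_inv_of_mul_eq_one_left h4
  rw [e1, mul_inv_rev, h.inv_eq h1 (by omega), h.inv_eq (by omega) h3]

theorem CarRel.conj0 (h : CarRel y M) {j : ℕ} (h2 : 2 ≤ j) (h3 : j < M) :
    y j * y 0 * (y j)⁻¹ = (y 0)⁻¹ := by
  have h4 : y 0 * y j * (y 0 * y j) = 1 := by
    have := h.r4 0 j (by omega) h3
    rwa [pow_two] at this
  rw [h.inv_eq (by omega) h3]
  have : y j * y 0 * y j = (y 0)⁻¹ * (y 0 * y j * (y 0 * y j)) := by group
  rw [this, h4, mul_one]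

theorem CarRel.conj0z (h : CarRel y M) {j : ℕ} (h2 : 2 ≤ j) (h3 : j < M) {z : G}
    (hz : z ∈ Subgroup.zpowers (y 0)) : y j * z = z⁻¹ * y j := by
  obtain ⟨e, rfl⟩ := hz
  have := h.conj0 h2 h3
  have h5 : y j * y 0 ^ e * (y j)⁻¹ = ((y 0) ^ e)⁻¹ := by
    rw [← conj_zpow, this, inv_zpow]
  calc y j * y 0 ^ e = (y j * y 0 ^ e * (y j)⁻¹) * y j := by group
    _ = _ := by rw [h5]

theorem CarRel.braid (h : CarRel y M) {j : ℕ} (h1 : 1 ≤ j) (h3 : j + 1 < M) :
    y j * y (j + 1) * y j = y (j + 1) * y j * y (j + 1) := by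
  have h4 := h.r3 j h3
  have ha := h.inv_eq h1 (by omega : j < M)
  have hb := h.inv_eq (by omega : 1 ≤ j + 1) h3
  have e : y j * y (j + 1) * y j * (y (j + 1) * y j * y (j + 1)) = 1 := by
    rw [← h4, pow_succ, pow_succ, pow_one]; simp only [mul_assoc]
  have := eq_inv_of_mul_eq_one_left e
  rw [this, mul_inv_rev, mul_inv_rev, ha, hb, mul_assoc]

/-- descending product `y top * y (top-1) * ⋯` of length `l` -/
def pd (y : ℕ → G) (top : ℕ) : ℕ → G
  | 0 => 1
  | (l + 1) => pd y top l * y (top - l)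

@[simp] theorem pd_zero (top : ℕ) : pd y top 0 = 1 := rfl
theorem pd_succ (top l : ℕ) : pd y top (l + 1) = pd y top l * y (top - l) := rfl

theorem pd_mem (m : ℕ) : ∀ l, pd y m l ∈ carK y (m + 1)
  | 0 => Subgroup.one_mem _
  | (l + 1) => by
    rw [pd_succ]
    exact Subgroup.mul_mem _ (pd_mem m l) (carK_mem (by omega))

theorem CarRel.pd_comm (h : CarRel y M) {m : ℕ} (hm : m < M) {i : ℕ} (h1 : 1 ≤ i) :
    ∀ l, i + l < m → pd y m l * y i = y i * pd y m l
  | 0, _ => by simp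
  | (l + 1), hl => by
    rw [pd_succ, mul_assoc, ← h.comm h1 (by omega) (by omega), ← mul_assoc,
      h.pd_comm hm h1 l (by omega), mul_assoc]

theorem CarRel.pd_z (h : CarRel y M) {m : ℕ} (hm : m < M) :
    ∀ l, l + 1 ≤ m → ∀ z ∈ Subgroup.zpowers (y 0), ∃ z' ∈ Subgroup.zpowers (y 0),
      pd y m l * z = z' * pd y m l
  | 0, _, z, hz => ⟨z, hz, by simp⟩
  | (l + 1), hl, z, hz => by
    obtain ⟨z', hz', e⟩ := h.pd_z hm l (by omega) z⁻¹ (Subgroup.inv_mem _ hz)
    refine ⟨z', hz', ?_⟩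
    rw [pd_succ, mul_assoc, h.conj0z (by omega) (by omega) hz, ← mul_assoc, e, mul_assoc]

theorem CarRel.pd_cancel (h : CarRel y M) {m : ℕ} (hm : m < M) {l : ℕ} (hl : l < m) :
    pd y m (l + 1) * y (m - l) = pd y m l := by
  rw [pd_succ, mul_assoc, h.r2 (m - l) (by omega) (by omega), mul_one]

theorem CarRel.pd_absorb (h : CarRel y M) {m : ℕ} (hm : m < M) :
    ∀ l, l ≤ m → ∀ i, m + 1 < i + l → i ≤ m → pd y m l * y i = y (i - 1) * pd y m l
  | 0, _, i, h1, h2 => by omega
  | (l + 1), hl, i, h1, h2 => by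
    rcases Nat.lt_or_ge (m + 1) (i + l) with hc | hc
    · -- commute
      rw [pd_succ, mul_assoc, h.comm (i := m - l) (j := i) (by omega) (by omega) (by omega),
        ← mul_assoc, h.pd_absorb hm l (by omega) i hc h2, mul_assoc]
    · -- i = m - l + 1
      have hi : i = (m - l) + 1 := by omega
      obtain ⟨l', rfl⟩ : ∃ l', l = l' + 1 := ⟨l - 1, by omega⟩
      have hj : m - l' = (m - (l' + 1)) + 1 := by omega
      have e1 : pd y m (l' + 1 + 1) = pd y m l' * y ((m - (l' + 1)) + 1) * y (m - (l' + 1)) := by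
        rw [pd_succ, pd_succ, hj]
      rw [hi, e1]
      simp only [Nat.add_sub_cancel]
      set j := m - (l' + 1) with hjdef
      have hb := h.braid (j := j) (by omega) (by omega)
      have hc2 := h.pd_comm hm (i := j) (by omega) l' (by omega)
      calc pd y m l' * y (j + 1) * y j * y (j + 1)
          = pd y m l' * (y (j + 1) * y j * y (j + 1)) := by group
        _ = pd y m l' * (y j * y (j + 1) * y j) := by rw [hb]
        _ = (pd y m l' * y j) * y (j + 1) * y j := by group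
        _ = y j * pd y m l' * y (j + 1) * y j := by rw [hc2]
        _ = y j * (pd y m l' * y (j + 1) * y j) := by group


theorem CarRel.inv0 (h : CarRel y M) : (y 0)⁻¹ = y 0 * y 0 := by
  apply inv_eq_of_mul_eq_one_right
  have := h.r1
  rw [pow_succ, pow_succ, pow_one] at this
  rw [← mul_assoc]; exact this

theorem CarRel.d1 (h : CarRel y M) (h2 : 2 ≤ M) :
    y 1 * y 0 * y 1 = (y 0)⁻¹ * y 1 * (y 0)⁻¹ := by
  have h4 := h.r3 0 (by omega)
  have hb := h.inv_eq (i := 1) le_rfl (by omega)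
  have e : y 0 * y 1 * y 0 * (y 1 * y 0 * y 1) = 1 := by
    rw [← h4, pow_succ, pow_succ, pow_one]; simp only [mul_assoc, zero_add]
  have := eq_inv_of_mul_eq_one_right e
  rw [this, mul_inv_rev, mul_inv_rev, hb, mul_assoc]

theorem CarRel.d2 (h : CarRel y M) (h2 : 2 ≤ M) :
    y 1 * (y 0)⁻¹ * y 1 = y 0 * y 1 * y 0 := by
  have hb := h.inv_eq (i := 1) le_rfl (by omega)
  have e := h.d1 h2
  have e2 : (y 1 * y 0 * y 1)⁻¹ = ((y 0)⁻¹ * y 1 * (y 0)⁻¹)⁻¹ := by rw [e]
  rw [mul_inv_rev, mul_inv_rev, mul_inv_rev, mul_inv_rev, hb, inv_inv] at e2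
  rw [← mul_assoc] at e2
  rw [e2, mul_assoc]

/-- coset representatives -/
noncomputable def cw (y : ℕ → G) (m c : ℕ) : G :=
  if c ≤ m then pd y m c else if c = m + 1 then pd y m m * y 0 else pd y m m * (y 0)⁻¹

theorem cw_le {m c : ℕ} (hc : c ≤ m) : cw y m c = pd y m c := by simp [cw, hc]
theorem cw_one (m : ℕ) : cw y m (m + 1) = pd y m m * y 0 := by simp [cw]
theorem cw_two (m : ℕ) : cw y m (m + 2) = pd y m m * (y 0)⁻¹ := by simp [cw]

theorem cw_mem (m c : ℕ) : cw y m c ∈ carK y (m + 1) := by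
  unfold cw
  split_ifs
  · exact pd_mem m c
  · exact Subgroup.mul_mem _ (pd_mem m m) (carK_mem (by omega))
  · exact Subgroup.mul_mem _ (pd_mem m m) (Subgroup.inv_mem _ (carK_mem (by omega)))

theorem zp_le_carK {m : ℕ} (hm : 1 ≤ m) : Subgroup.zpowers (y 0) ≤ carK y m := by
  rw [Subgroup.zpowers_le]
  exact carK_mem (by omega)

theorem CarRel.step {m : ℕ} (h : CarRel y (m + 1)) (hm : 1 ≤ m) :
    ∀ c, c ≤ m + 2 → ∀ i, i ≤ m → ∃ k ∈ carK y m, ∃ c', c' ≤ m + 2 ∧
      cw y m c * y i = k * cw y m c' := by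
  intro c hc i hi
  have hmM : m < m + 1 := by omega
  rcases Nat.lt_or_ge m c with hcm | hcm
  · -- c = m+1 or m+2
    have hpm : pd y m m = pd y m (m - 1) * y 1 := by
      obtain ⟨m', rfl⟩ : ∃ m', m = m' + 1 := ⟨m - 1, by omega⟩
      rw [pd_succ]; simp
    rcases (by omega : c = m + 1 ∨ c = m + 2) with rfl | rfl
    · rw [cw_one]
      rcases (by omega : i = 0 ∨ i = 1 ∨ 2 ≤ i) with rfl | rfl | h2
      · refine ⟨1, Subgroup.one_mem _, m + 2, le_rfl, ?_⟩
        rw [cw_two, one_mul, mul_assoc, ← h.inv0]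
      · obtain ⟨z', hz', e⟩ := h.pd_z hmM (m - 1) (by omega) (y 0)⁻¹
          (Subgroup.inv_mem _ (Subgroup.mem_zpowers _))
        refine ⟨z', zp_le_carK hm hz', m + 2, le_rfl, ?_⟩
        rw [cw_two, hpm]
        calc pd y m (m - 1) * y 1 * y 0 * y 1 = pd y m (m - 1) * (y 1 * y 0 * y 1) := by
              simp only [mul_assoc]
          _ = pd y m (m - 1) * ((y 0)⁻¹ * y 1 * (y 0)⁻¹) := by rw [h.d1 (by omega)]
          _ = (pd y m (m - 1) * (y 0)⁻¹) * y 1 * (y 0)⁻¹ := by simp only [mul_assoc]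
          _ = z' * pd y m (m - 1) * y 1 * (y 0)⁻¹ := by rw [e]
          _ = z' * (pd y m (m - 1) * y 1 * (y 0)⁻¹) := by simp only [mul_assoc]
      · refine ⟨y (i - 1), carK_mem (by omega), m + 2, le_rfl, ?_⟩
        have e1 : y 0 * y i = y i * (y 0)⁻¹ := by
          have := h.conj0z h2 (by omega : i < m + 1)
            (Subgroup.inv_mem _ (Subgroup.mem_zpowers (y 0)))
          rw [inv_inv] at this
          exact this.symm
        rw [cw_two, mul_assoc, e1, ← mul_assoc, h.pd_absorb hmM m le_rfl i (by omega) hi,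
          mul_assoc]
    · rw [cw_two]
      rcases (by omega : i = 0 ∨ i = 1 ∨ 2 ≤ i) with rfl | rfl | h2
      · refine ⟨1, Subgroup.one_mem _, m, by omega, ?_⟩
        rw [cw_le le_rfl, one_mul, mul_assoc, inv_mul_cancel, mul_one]
      · obtain ⟨z', hz', e⟩ := h.pd_z hmM (m - 1) (by omega) (y 0)
          (Subgroup.mem_zpowers _)
        refine ⟨z', zp_le_carK hm hz', m + 1, by omega, ?_⟩
        rw [cw_one, hpm]
        calc pd y m (m - 1) * y 1 * (y 0)⁻¹ * y 1 = pd y m (m - 1) * (y 1 * (y 0)⁻¹ * y 1) := by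
              simp only [mul_assoc]
          _ = pd y m (m - 1) * (y 0 * y 1 * y 0) := by rw [h.d2 (by omega)]
          _ = (pd y m (m - 1) * y 0) * y 1 * y 0 := by simp only [mul_assoc]
          _ = z' * pd y m (m - 1) * y 1 * y 0 := by rw [e]
          _ = z' * (pd y m (m - 1) * y 1 * y 0) := by simp only [mul_assoc]
      · refine ⟨y (i - 1), carK_mem (by omega), m + 1, by omega, ?_⟩
        have e1 : (y 0)⁻¹ * y i = y i * y 0 := by
          have := h.conj0z h2 (by omega : i < m + 1) (Subgroup.mem_zpowers (y 0))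
          exact this.symm
        rw [cw_one, mul_assoc, e1, ← mul_assoc, h.pd_absorb hmM m le_rfl i (by omega) hi,
          mul_assoc]
  · -- c ≤ m
    rw [cw_le hcm]
    rcases Nat.lt_or_ge (i + c) m with h1 | h1
    · rcases Nat.eq_zero_or_pos i with rfl | hi1
      · obtain ⟨z', hz', e⟩ := h.pd_z hmM c (by omega) (y 0) (Subgroup.mem_zpowers _)
        exact ⟨z', zp_le_carK hm hz', c, by omega, by rw [cw_le hcm, e]⟩
      · exact ⟨y i, carK_mem (by omega), c, by omega, by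
          rw [cw_le hcm, h.pd_comm hmM hi1 c h1]⟩
    · rcases (by omega : i + c = m ∨ i + c = m + 1 ∨ m + 1 < i + c) with h2 | h2 | h2
      · have hic : i = m - c := by omega
        rcases Nat.lt_or_ge c m with h3 | h3
        · refine ⟨1, Subgroup.one_mem _, c + 1, by omega, ?_⟩
          rw [cw_le (by omega : c + 1 ≤ m), pd_succ, one_mul, hic]
        · have : c = m := by omega
          subst this
          have : i = 0 := by omega
          subst this
          exact ⟨1, Subgroup.one_mem _, c + 1, by omega, by rw [cw_one, one_mul]⟩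
      · obtain ⟨c0, rfl⟩ : ∃ c0, c = c0 + 1 := ⟨c - 1, by omega⟩
        have hic : i = m - c0 := by omega
        refine ⟨1, Subgroup.one_mem _, c0, by omega, ?_⟩
        rw [cw_le (by omega : c0 ≤ m), one_mul, hic, h.pd_cancel hmM (by omega)]
      · refine ⟨y (i - 1), carK_mem (by omega), c, by omega, ?_⟩
        rw [cw_le hcm, h.pd_absorb hmM c hcm i h2 hi]


/-- membership in the union of the `m+3` cosets -/
def InU (y : ℕ → G) (m : ℕ) (u : G) : Prop :=
  ∃ k ∈ carK y m, ∃ c, c ≤ m + 2 ∧ u = k * cw y m c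

theorem CarRel.inU_mul {m : ℕ} (h : CarRel y (m + 1)) (hm : 1 ≤ m) {u : G} (hu : InU y m u)
    {i : ℕ} (hi : i ≤ m) : InU y m (u * y i) := by
  obtain ⟨k, hk, c, hc, rfl⟩ := hu
  obtain ⟨k', hk', c', hc', e⟩ := h.step hm c hc i hi
  exact ⟨k * k', Subgroup.mul_mem _ hk hk', c', hc', by rw [mul_assoc, e, mul_assoc]⟩

theorem CarRel.inU_mul_inv {m : ℕ} (h : CarRel y (m + 1)) (hm : 1 ≤ m) {u : G} (hu : InU y m u)
    {i : ℕ} (hi : i ≤ m) : InU y m (u * (y i)⁻¹) := by
  rcases Nat.eq_zero_or_pos i with rfl | hi1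
  · rw [h.inv0, ← mul_assoc]
    exact h.inU_mul hm (h.inU_mul hm hu hi) hi
  · rw [h.inv_eq hi1 (by omega)]
    exact h.inU_mul hm hu hi

theorem CarRel.cover {m : ℕ} (h : CarRel y (m + 1)) (hm : 1 ≤ m) :
    ∀ g ∈ carK y (m + 1), InU y m g := by
  have key : ∀ g ∈ carK y (m + 1), ∀ u, InU y m u → InU y m (u * g) ∧ InU y m (u * g⁻¹) := by
    intro g hg
    unfold carK at hg
    induction hg using Subgroup.closure_induction with
    | mem x hx =>
      obtain ⟨i, hi, rfl⟩ := hx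
      intro u hu
      exact ⟨h.inU_mul hm hu (by omega), h.inU_mul_inv hm hu (by omega)⟩
    | one => intro u hu; simpa using hu
    | mul a b _ _ iha ihb =>
      intro u hu
      refine ⟨?_, ?_⟩
      · rw [← mul_assoc]; exact (ihb _ (iha u hu).1).1
      · rw [mul_inv_rev, ← mul_assoc]; exact (iha _ (ihb u hu).2).2
    | inv a _ iha =>
      intro u hu
      exact ⟨(iha u hu).2, by rw [inv_inv]; exact (iha u hu).1⟩
  intro g hg
  have h1 : InU y m 1 := ⟨1, Subgroup.one_mem _, 0, by omega, by simp [cw_le]⟩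
  have := (key g hg 1 h1).1
  rwa [one_mul] at this

theorem CarRel.card_step {m : ℕ} (h : CarRel y (m + 1)) (hm : 1 ≤ m) [Finite (carK y m)] :
    Finite (carK y (m + 1)) ∧ Nat.card (carK y (m + 1)) ≤ Nat.card (carK y m) * (m + 3) := by
  let f : (carK y m) × Fin (m + 3) → carK y (m + 1) := fun p =>
    ⟨(p.1 : G) * cw y m p.2.val,
      Subgroup.mul_mem _ (carK_mono (by omega) p.1.2) (cw_mem m p.2.val)⟩
  have hf : Function.Surjective f := by
    rintro ⟨g, hg⟩
    obtain ⟨k, hk, c, hc, e⟩ := h.cover hm g hg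
    refine ⟨(⟨k, hk⟩, ⟨c, by omega⟩), ?_⟩
    apply Subtype.ext
    simp [f, e]
  refine ⟨Finite.of_surjective f hf, ?_⟩
  have := Nat.card_le_card_of_surjective f hf
  rwa [Nat.card_prod, Nat.card_fin] at this

theorem CarRel.card_bound : ∀ m, 1 ≤ m → CarRel y m →
    Finite (carK y m) ∧ 2 * Nat.card (carK y m) ≤ (m + 2).factorial := by
  intro m hm
  induction m, hm using Nat.le_induction with
  | base =>
    intro h
    have hle : carK y 1 ≤ Subgroup.zpowers (y 0) := by
      unfold carK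
      rw [Subgroup.closure_le]
      rintro g ⟨i, hi, rfl⟩
      have : i = 0 := by omega
      subst this
      exact Subgroup.mem_zpowers _
    have hfo : IsOfFinOrder (y 0) := isOfFinOrder_iff_pow_eq_one.mpr ⟨3, by norm_num, h.r1⟩
    haveI : Finite (Subgroup.zpowers (y 0)) := hfo.finite_zpowers
    have hfin : Finite (carK y 1) := Finite.of_injective (Subgroup.inclusion hle)
      (Subgroup.inclusion_injective hle)
    refine ⟨hfin, ?_⟩
    have h1 : Nat.card (carK y 1) ≤ Nat.card (Subgroup.zpowers (y 0)) :=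
      Subgroup.card_le_of_le hle
    rw [Nat.card_zpowers] at h1
    have h2 : orderOf (y 0) ≤ 3 := Nat.le_of_dvd (by norm_num) (orderOf_dvd_of_pow_eq_one h.r1)
    have : (1 + 2).factorial = 6 := by decide
    omega
  | succ m hm ih =>
    intro h
    obtain ⟨hfin, hc⟩ := ih (h.mono (by omega))
    haveI := hfin
    obtain ⟨hfin', hc'⟩ := h.card_step hm
    refine ⟨hfin', ?_⟩
    have e : (m + 1 + 2).factorial = (m + 3) * (m + 2).factorial := by
      rw [show m + 1 + 2 = (m + 2) + 1 by ring, Nat.factorial_succ]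
    rw [e]
    calc 2 * Nat.card (carK y (m + 1)) ≤ 2 * (Nat.card (carK y m) * (m + 3)) := by omega
      _ = (m + 3) * (2 * Nat.card (carK y m)) := by ring
      _ ≤ (m + 3) * (m + 2).factorial := Nat.mul_le_mul_left _ hc

end Carm

end Cfsg.Agent.Lib.Helper64
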