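import Mathlib
import Cfsg.Agent.Lib.Helper64.Carm1

set_option autoImplicit false

namespace Cfsg.Agent.Lib.Helper64

section Carm2
open Equiv

variable (m : ℕ)

/-- the `i`-th point of `Fin (m+2)` -/
def cpt (i : ℕ) : Fin (m + 2) := Fin.ofNat (m + 2) i

theorem cpt_val {i : ℕ} (hi : i < m + 2) : (cpt m i).val = i := by
  simp [cpt, Nat.mod_eq_of_lt hi]

theorem cpt_ne {i j : ℕ} (hi : i < m + 2) (hj : j < m + 2) (h : i ≠ j) : cpt m i ≠ cpt m j := by
  intro e
  apply h
  have := congrArg Fin.val e
  rwa [cpt_val m hi, cpt_val m hj] at this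

theorem cpt_surj (x : Fin (m + 2)) : ∃ i, i < m + 2 ∧ x = cpt m i :=
  ⟨x.val, x.isLt, by apply Fin.ext; rw [cpt_val m x.isLt]⟩

/-- Carmichael generators in `Perm (Fin (m+2))`. -/
def cgen (i : ℕ) : Perm (Fin (m + 2)) :=
  if i = 0 then swap (cpt m 0) (cpt m 1) * swap (cpt m 1) (cpt m 2)
  else swap (cpt m 0) (cpt m 1) * swap (cpt m (i + 1)) (cpt m (i + 2))

theorem cgen_zero : cgen m 0 = swap (cpt m 0) (cpt m 1) * swap (cpt m 1) (cpt m 2) := by
  simp [cgen]

theorem cgen_pos {i : ℕ} (hi : 1 ≤ i) :
    cgen m i = swap (cpt m 0) (cpt m 1) * swap (cpt m (i + 1)) (cpt m (i + 2)) := by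
  have : i ≠ 0 := by omega
  simp [cgen, this]

theorem sq_of_comm_inv {G : Type*} [Group G] {a b : G} (ha : a * a = 1) (hb : b * b = 1)
    (hc : a * b = b * a) : (a * b) ^ 2 = 1 := by
  rw [pow_two]
  calc a * b * (a * b) = a * (b * a) * b := by simp only [mul_assoc]
    _ = a * (a * b) * b := by rw [hc]
    _ = (a * a) * (b * b) := by simp only [mul_assoc]
    _ = 1 := by rw [ha, hb, mul_one]

theorem swap_comm_of_nodup {α : Type*} [DecidableEq α] {x y z t : α} (h : [x, y, z, t].Nodup) :
    swap x y * swap z t = swap z t * swap x y :=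
  (Equiv.Perm.disjoint_swap_swap h).commute.eq

theorem three_cycle_pow {α : Type*} [DecidableEq α] [Fintype α] {a b c : α}
    (ab : a ≠ b) (ac : a ≠ c) (bc : b ≠ c) : (swap a b * swap b c) ^ 3 = 1 := by
  have h : Equiv.Perm.IsThreeCycle (swap b a * swap b c) :=
    Equiv.Perm.isThreeCycle_swap_mul_swap_same ab.symm bc ac
  rw [Equiv.swap_comm a b, ← h.orderOf]
  exact pow_orderOf_eq_one _

theorem conj_swap {α : Type*} [DecidableEq α] {a b c : α} (ac : a ≠ c) (bc : b ≠ c) :
    swap a b * swap b c * swap a b = swap a c := by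
  have h := Equiv.swap_apply_apply (swap a b) b c
  rw [Equiv.swap_apply_right, Equiv.swap_apply_of_ne_of_ne ac.symm bc.symm, Equiv.swap_inv] at h
  exact h.symm

theorem cgen_carRel : CarRel (cgen m) m where
  r1 := by
    by_cases hm : m = 0
    · subst hm
      rw [cgen_zero]
      have : cpt 0 2 = cpt 0 0 := by decide
      rw [this, Equiv.swap_comm (cpt 0 1) (cpt 0 0), Equiv.swap_mul_self, one_pow]
    · rw [cgen_zero]
      exact three_cycle_pow (cpt_ne m (by omega) (by omega) (by omega))
        (cpt_ne m (by omega) (by omega) (by omega)) (cpt_ne m (by omega) (by omega) (by omega))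
  r2 := by
    intro i h1 h2
    rw [cgen_pos m h1]
    have hc := swap_comm_of_nodup (x := cpt m 0) (y := cpt m 1) (z := cpt m (i + 1))
      (t := cpt m (i + 2)) (by
        simp only [List.nodup_cons, List.mem_cons, List.not_mem_nil, or_false, not_or,
          List.nodup_nil, and_true, not_false_eq_true]
        refine ⟨⟨?_, ?_, ?_⟩, ⟨?_, ?_⟩, ?_⟩ <;>
        exact cpt_ne m (by omega) (by omega) (by omega))
    have := sq_of_comm_inv (Equiv.swap_mul_self (cpt m 0) (cpt m 1))
      (Equiv.swap_mul_self (cpt m (i + 1)) (cpt m (i + 2))) hc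
    rwa [pow_two] at this
  r3 := by
    intro i hi
    rcases Nat.eq_zero_or_pos i with rfl | hpos
    · rw [cgen_zero, cgen_pos m (le_refl 1)]
      have e : swap (cpt m 0) (cpt m 1) * swap (cpt m 1) (cpt m 2) *
          (swap (cpt m 0) (cpt m 1) * swap (cpt m (1 + 1)) (cpt m (1 + 2))) =
          swap (cpt m 0) (cpt m 2) * swap (cpt m 2) (cpt m 3) := by
        rw [← mul_assoc, conj_swap
          (cpt_ne m (by omega) (by omega) (by omega)) (cpt_ne m (by omega) (by omega) (by omega))]
      rw [e]
      exact three_cycle_pow (cpt_ne m (by omega) (by omega) (by omega))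
        (cpt_ne m (by omega) (by omega) (by omega)) (cpt_ne m (by omega) (by omega) (by omega))
    · rw [cgen_pos m hpos, cgen_pos m (show 1 ≤ i + 1 by omega)]
      have hc := swap_comm_of_nodup (x := cpt m 0) (y := cpt m 1) (z := cpt m (i + 1))
        (t := cpt m (i + 2)) (by
          simp only [List.nodup_cons, List.mem_cons, List.not_mem_nil, or_false, not_or,
            List.nodup_nil, and_true, not_false_eq_true]
          refine ⟨⟨?_, ?_, ?_⟩, ⟨?_, ?_⟩, ?_⟩ <;>
          exact cpt_ne m (by omega) (by omega) (by omega))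
      have e : swap (cpt m 0) (cpt m 1) * swap (cpt m (i + 1)) (cpt m (i + 2)) *
          (swap (cpt m 0) (cpt m 1) * swap (cpt m (i + 1 + 1)) (cpt m (i + 1 + 2))) =
          swap (cpt m (i + 1)) (cpt m (i + 2)) * swap (cpt m (i + 2)) (cpt m (i + 3)) := by
        rw [hc]
        calc swap (cpt m (i + 1)) (cpt m (i + 2)) * swap (cpt m 0) (cpt m 1) *
            (swap (cpt m 0) (cpt m 1) * swap (cpt m (i + 1 + 1)) (cpt m (i + 1 + 2)))
            = swap (cpt m (i + 1)) (cpt m (i + 2)) *
              (swap (cpt m 0) (cpt m 1) * swap (cpt m 0) (cpt m 1)) *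
              swap (cpt m (i + 1 + 1)) (cpt m (i + 1 + 2)) := by simp only [mul_assoc]
          _ = _ := by rw [Equiv.swap_mul_self, mul_one]
      rw [e]
      exact three_cycle_pow (cpt_ne m (by omega) (by omega) (by omega))
        (cpt_ne m (by omega) (by omega) (by omega)) (cpt_ne m (by omega) (by omega) (by omega))
  r4 := by
    intro i j hij hj
    rcases Nat.eq_zero_or_pos i with rfl | hpos
    · rw [cgen_zero, cgen_pos m (show 1 ≤ j by omega)]
      have e : swap (cpt m 0) (cpt m 1) * swap (cpt m 1) (cpt m 2) *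
          (swap (cpt m 0) (cpt m 1) * swap (cpt m (j + 1)) (cpt m (j + 2))) =
          swap (cpt m 0) (cpt m 2) * swap (cpt m (j + 1)) (cpt m (j + 2)) := by
        rw [← mul_assoc, conj_swap
          (cpt_ne m (by omega) (by omega) (by omega)) (cpt_ne m (by omega) (by omega) (by omega))]
      rw [e]
      apply sq_of_comm_inv (Equiv.swap_mul_self _ _) (Equiv.swap_mul_self _ _)
      apply swap_comm_of_nodup
      simp only [List.nodup_cons, List.mem_cons, List.not_mem_nil, or_false, not_or,
        List.nodup_nil, and_true, not_false_eq_true]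
      refine ⟨⟨?_, ?_, ?_⟩, ⟨?_, ?_⟩, ?_⟩ <;>
      exact cpt_ne m (by omega) (by omega) (by omega)
    · rw [cgen_pos m hpos, cgen_pos m (show 1 ≤ j by omega)]
      have hc := swap_comm_of_nodup (x := cpt m 0) (y := cpt m 1) (z := cpt m (i + 1))
        (t := cpt m (i + 2)) (by
          simp only [List.nodup_cons, List.mem_cons, List.not_mem_nil, or_false, not_or,
            List.nodup_nil, and_true, not_false_eq_true]
          refine ⟨⟨?_, ?_, ?_⟩, ⟨?_, ?_⟩, ?_⟩ <;>
          exact cpt_ne m (by omega) (by omega) (by omega))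
      have e : swap (cpt m 0) (cpt m 1) * swap (cpt m (i + 1)) (cpt m (i + 2)) *
          (swap (cpt m 0) (cpt m 1) * swap (cpt m (j + 1)) (cpt m (j + 2))) =
          swap (cpt m (i + 1)) (cpt m (i + 2)) * swap (cpt m (j + 1)) (cpt m (j + 2)) := by
        rw [hc]
        calc swap (cpt m (i + 1)) (cpt m (i + 2)) * swap (cpt m 0) (cpt m 1) *
            (swap (cpt m 0) (cpt m 1) * swap (cpt m (j + 1)) (cpt m (j + 2)))
            = swap (cpt m (i + 1)) (cpt m (i + 2)) *
              (swap (cpt m 0) (cpt m 1) * swap (cpt m 0) (cpt m 1)) *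
              swap (cpt m (j + 1)) (cpt m (j + 2)) := by simp only [mul_assoc]
          _ = _ := by rw [Equiv.swap_mul_self, mul_one]
      rw [e]
      apply sq_of_comm_inv (Equiv.swap_mul_self _ _) (Equiv.swap_mul_self _ _)
      apply swap_comm_of_nodup
      simp only [List.nodup_cons, List.mem_cons, List.not_mem_nil, or_false, not_or,
        List.nodup_nil, and_true, not_false_eq_true]
      refine ⟨⟨?_, ?_, ?_⟩, ⟨?_, ?_⟩, ?_⟩ <;>
      exact cpt_ne m (by omega) (by omega) (by omega)

theorem cgen_mem_alt {i : ℕ} (hi : i < m) : cgen m i ∈ alternatingGroup (Fin (m + 2)) := by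
  rcases Nat.eq_zero_or_pos i with rfl | hpos
  · rw [cgen_zero]
    exact Equiv.Perm.mul_mem_alternatingGroup_of_isSwap
      ⟨_, _, cpt_ne m (by omega) (by omega) (by omega), rfl⟩
      ⟨_, _, cpt_ne m (by omega) (by omega) (by omega), rfl⟩
  · rw [cgen_pos m hpos]
    exact Equiv.Perm.mul_mem_alternatingGroup_of_isSwap
      ⟨_, _, cpt_ne m (by omega) (by omega) (by omega), rfl⟩
      ⟨_, _, cpt_ne m (by omega) (by omega) (by omega), rfl⟩

theorem carK_cgen_le_alt {k : ℕ} (hk : k ≤ m) :
    carK (cgen m) k ≤ alternatingGroup (Fin (m + 2)) := by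
  unfold carK
  rw [Subgroup.closure_le]
  rintro g ⟨i, hi, rfl⟩
  exact cgen_mem_alt m (by omega)

theorem cgen_fix {k : ℕ} (hk : k ≤ m) {σ : Perm (Fin (m + 2))} (hσ : σ ∈ carK (cgen m) k)
    {j : ℕ} (hj : k + 2 ≤ j) (hj' : j < m + 2) : σ (cpt m j) = cpt m j := by
  have hle : carK (cgen m) k ≤ MulAction.stabilizer (Perm (Fin (m + 2))) (cpt m j) := by
    unfold carK
    rw [Subgroup.closure_le]
    rintro g ⟨i, hi, rfl⟩
    simp only [SetLike.mem_coe, MulAction.mem_stabilizer_iff, Equiv.Perm.smul_def]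
    rcases Nat.eq_zero_or_pos i with rfl | hpos
    · rw [cgen_zero, Equiv.Perm.mul_apply,
        Equiv.swap_apply_of_ne_of_ne (cpt_ne m (by omega) (by omega) (by omega))
          (cpt_ne m (by omega) (by omega) (by omega)),
        Equiv.swap_apply_of_ne_of_ne (cpt_ne m (by omega) (by omega) (by omega))
          (cpt_ne m (by omega) (by omega) (by omega))]
    · rw [cgen_pos m hpos, Equiv.Perm.mul_apply,
        Equiv.swap_apply_of_ne_of_ne (cpt_ne m (by omega) (by omega) (by omega))
          (cpt_ne m (by omega) (by omega) (by omega)),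
        Equiv.swap_apply_of_ne_of_ne (cpt_ne m (by omega) (by omega) (by omega))
          (cpt_ne m (by omega) (by omega) (by omega))]
  have := hle hσ
  simpa only [MulAction.mem_stabilizer_iff, Equiv.Perm.smul_def] using this

theorem cgen_trans : ∀ k, 1 ≤ k → k ≤ m → ∀ j, j ≤ k + 1 →
    ∃ σ ∈ carK (cgen m) k, σ (cpt m (k + 1)) = cpt m j := by
  intro k hk
  induction k, hk using Nat.le_induction with
  | base =>
    intro hm j hj
    have h0 : cgen m 0 (cpt m 2) = cpt m 0 := by
      rw [cgen_zero, Equiv.Perm.mul_apply, Equiv.swap_apply_right, Equiv.swap_apply_right]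
    have h1 : cgen m 0 (cpt m 1) = cpt m 2 := by
      rw [cgen_zero, Equiv.Perm.mul_apply, Equiv.swap_apply_left,
        Equiv.swap_apply_of_ne_of_ne (cpt_ne m (by omega) (by omega) (by omega))
          (cpt_ne m (by omega) (by omega) (by omega))]
    have hmem : cgen m 0 ∈ carK (cgen m) 1 := carK_mem (by omega)
    have : j = 0 ∨ j = 1 ∨ j = 2 := by omega
    rcases this with rfl | rfl | rfl
    · exact ⟨cgen m 0, hmem, h0⟩
    · refine ⟨(cgen m 0)⁻¹, Subgroup.inv_mem _ hmem, ?_⟩
      rw [Equiv.Perm.inv_eq_iff_eq]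
      exact h1.symm
    · exact ⟨1, Subgroup.one_mem _, rfl⟩
  | succ k hk ih =>
    intro hm j hj
    rcases Nat.lt_or_ge j (k + 2) with hlt | hge
    · obtain ⟨τ, hτ, e⟩ := ih (by omega) j (by omega)
      refine ⟨τ * cgen m k, Subgroup.mul_mem _ (carK_mono (by omega) hτ) (carK_mem (by omega)), ?_⟩
      rw [Equiv.Perm.mul_apply, cgen_pos m hk, Equiv.Perm.mul_apply,
        show k + 1 + 1 = k + 2 by ring, Equiv.swap_apply_right,
        Equiv.swap_apply_of_ne_of_ne (cpt_ne m (by omega) (by omega) (by omega))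
          (cpt_ne m (by omega) (by omega) (by omega)), e]
    · have : j = k + 1 + 1 := by omega
      subst this
      exact ⟨1, Subgroup.one_mem _, rfl⟩

theorem cgen_card : ∀ k, k ≤ m → (k + 2).factorial ≤ 2 * Nat.card (carK (cgen m) k) := by
  intro k
  induction k with
  | zero =>
    intro _
    have : 0 < Nat.card (carK (cgen m) 0) := Nat.card_pos
    have e : (0 + 2).factorial = 2 := by decide
    omega
  | succ k ih =>
    intro hk
    have ih' := ih (by omega)
    have hT := cgen_trans m (k + 1) (by omega) hk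
    choose! s hs1 hs2 using hT
    let f : (carK (cgen m) k) × Fin (k + 3) → carK (cgen m) (k + 1) := fun p =>
      ⟨s p.2.val * (p.1 : Perm (Fin (m + 2))),
        Subgroup.mul_mem _ (hs1 p.2.val (by have := p.2.isLt; omega))
          (carK_mono (by omega) p.1.2)⟩
    have hf : Function.Injective f := by
      rintro ⟨⟨h, hh⟩, ⟨j, hj⟩⟩ ⟨⟨h', hh'⟩, ⟨j', hj'⟩⟩ e
      have e1 : s j * h = s j' * h' := congrArg Subtype.val e
      have e2 := congrArg (fun σ : Perm (Fin (m + 2)) => σ (cpt m (k + 2))) e1
      simp only [Equiv.Perm.mul_apply] at e2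
      rw [cgen_fix m (by omega) hh (le_refl _) (by omega),
        cgen_fix m (by omega) hh' (le_refl _) (by omega),
        show k + 2 = k + 1 + 1 by ring, hs2 j (by omega), hs2 j' (by omega)] at e2
      have hjj : j = j' := by
        by_contra hne
        exact cpt_ne m (by omega) (by omega) hne e2
      subst hjj
      have : h = h' := mul_left_cancel e1
      subst this
      rfl
    have hc := Nat.card_le_card_of_injective f hf
    rw [Nat.card_prod, Nat.card_fin] at hc
    have e : (k + 1 + 2).factorial = (k + 3) * (k + 2).factorial := by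
      rw [show k + 1 + 2 = (k + 2) + 1 by ring, Nat.factorial_succ]
    rw [e]
    calc (k + 3) * (k + 2).factorial ≤ (k + 3) * (2 * Nat.card (carK (cgen m) k)) :=
          Nat.mul_le_mul_left _ ih'
      _ = 2 * (Nat.card (carK (cgen m) k) * (k + 3)) := by ring
      _ ≤ 2 * Nat.card (carK (cgen m) (k + 1)) := by omega

theorem carK_cgen_eq : carK (cgen m) m = alternatingGroup (Fin (m + 2)) := by
  apply Subgroup.eq_of_le_of_card_ge (carK_cgen_le_alt m (le_refl m))
  have h1 := cgen_card m m (le_refl m)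
  have h2 : 2 * Nat.card (alternatingGroup (Fin (m + 2))) = Nat.card (Perm (Fin (m + 2))) :=
    two_mul_nat_card_alternatingGroup
  rw [Nat.card_eq_fintype_card (α := Perm (Fin (m + 2))), Fintype.card_perm,
    Fintype.card_fin] at h2
  omega

theorem two_mul_card_alt : 2 * Nat.card (alternatingGroup (Fin (m + 2))) = (m + 2).factorial := by
  have h2 : 2 * Nat.card (alternatingGroup (Fin (m + 2))) = Nat.card (Perm (Fin (m + 2))) :=
    two_mul_nat_card_alternatingGroup
  rw [Nat.card_eq_fintype_card (α := Perm (Fin (m + 2))), Fintype.card_perm,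
    Fintype.card_fin] at h2
  exact h2

end Carm2

end Cfsg.Agent.Lib.Helper64
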