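import Mathlib

/-!
# K-HA-N (keystone 253811), architect helper38: arithmetic for Hall subgroups of alternating groups
-/

set_option autoImplicit false

namespace Cfsg.Agent.Lib.Helper64.HallAlt

open Nat

theorem padicValNat_two_factorial_two_pow (k : ℕ) :
    padicValNat 2 (2 ^ k).factorial = 2 ^ k - 1 := by
  have : Fact (Nat.Prime 2) := ⟨Nat.prime_two⟩
  induction k with
  | zero => simp
  | succ k ih =>
    rw [pow_succ, mul_comm, padicValNat_factorial_mul, ih]
    have : 1 ≤ 2 ^ k := Nat.one_le_two_pow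
    omega

theorem add_three_le_two_pow (k : ℕ) (hk : 3 ≤ k) : k + 3 ≤ 2 ^ k := by
  induction k, hk using Nat.le_induction with
  | base => norm_num
  | succ k hk ih => rw [pow_succ]; omega

/-- **K-HA-N** (253811), first part. -/
theorem mersenne_arith (n p a : ℕ) (hp : p.Prime) (hp5 : 5 ≤ p) (hn : n = p + 1)
    (ha : a = padicValNat 2 n.factorial - 1) (hdvd : n * (n - 1) ∣ 2 ^ a * p) :
    p % 4 = 3 ∧ p + 1 < 2 ^ a := by
  subst hn
  have hp0 : 0 < p := hp.pos
  rw [Nat.add_sub_cancel] at hdvd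
  have h1 : p + 1 ∣ 2 ^ a := Nat.dvd_of_mul_dvd_mul_right hp0 hdvd
  obtain ⟨k, hka, hk⟩ := (Nat.dvd_prime_pow Nat.prime_two).1 h1
  have hk3 : 3 ≤ k := by
    by_contra h
    push Not at h
    have : 2 ^ k ≤ 2 ^ 2 := Nat.pow_le_pow_right (by norm_num) (by omega)
    omega
  have hval : a = 2 ^ k - 2 := by
    rw [ha, hk, padicValNat_two_factorial_two_pow]
    omega
  have h3 := add_three_le_two_pow k hk3
  constructor
  · obtain ⟨j, rfl⟩ : ∃ j, k = j + 2 := ⟨k - 2, by omega⟩
    rw [pow_add] at hk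
    omega
  · rw [hk]
    apply Nat.pow_lt_pow_right (by norm_num)
    omega

/-- **K-HA-N** (253811), second part. -/
theorem prime_degree_arith (p : ℕ) (hp : p.Prime) (hp7 : 7 ≤ p) :
    ¬ 2 ^ (padicValNat 2 p.factorial - 1) ∣ p - 1 := by
  have : Fact (Nat.Prime 2) := ⟨Nat.prime_two⟩
  have hodd : p % 2 = 1 := by
    rcases hp.eq_two_or_odd with h | h
    · omega
    · exact h
  obtain ⟨m, rfl⟩ : ∃ m, p = m + 6 := ⟨p - 6, by omega⟩
  have hm1 : 1 ≤ m := by omega
  intro hdvd
  have hne : m + 6 - 1 ≠ 0 := by omega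
  have h1 := (padicValNat_dvd_iff_le hne).1 hdvd
  have hfac : (m + 6).factorial =
      ((m + 5) * ((m + 3) * (m + 1))) * ((m + 6) * (m + 4) * (m + 2) * m.factorial) := by
    simp only [Nat.factorial_succ]
    ring
  have hv : padicValNat 2 (m + 5) + 2 ≤ padicValNat 2 (m + 6).factorial := by
    rw [hfac, padicValNat.mul (by positivity) (by positivity),
      padicValNat.mul (by positivity) (by positivity),
      padicValNat.mul (by positivity) (by positivity)]
    have h3 : 1 ≤ padicValNat 2 (m + 3) :=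
      one_le_padicValNat_of_dvd (by omega) (by omega)
    have h4 : 1 ≤ padicValNat 2 (m + 1) :=
      one_le_padicValNat_of_dvd (by omega) (by omega)
    omega
  have h5 : m + 6 - 1 = m + 5 := by omega
  rw [h5] at h1
  omega

end Cfsg.Agent.Lib.Helper64.HallAlt
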