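import Mathlib
import Cfsg.Agent.Lib.Helper55.CoprimeGen

/-!
# K-SPL-M3b (keystone 439417, architect helper41): an elementary abelian `p`-group acting faithfully on a minimal
invariant `p'`-subgroup has order `p`
-/

set_option autoImplicit false

namespace Cfsg.Agent.Lib.Helper64.SPL

theorem card_eq_of_min_faithful {Γ : Type*} [Group Γ] [Finite Γ] (p : ℕ) [Fact p.Prime]
    (A : Subgroup Γ) (hAab : ∀ a ∈ A, ∀ b ∈ A, a * b = b * a) (hAexp : ∀ a ∈ A, a ^ p = 1)
    (hA1 : A ≠ ⊥) (T1 : Subgroup Γ) (hT1 : (Nat.card T1).Coprime p)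
    (hinv : ∀ a ∈ A, ∀ t ∈ T1, a * t * a⁻¹ ∈ T1) (hnt : ∃ a ∈ A, ∃ t ∈ T1, a * t ≠ t * a)
    (hmin : ∀ T0 : Subgroup Γ, T0 ≤ T1 → T0 ≠ T1 → (∀ a ∈ A, ∀ t ∈ T0, a * t * a⁻¹ ∈ T0) →
      ∀ a ∈ A, ∀ t ∈ T0, a * t = t * a)
    (hfaith : ∀ a ∈ A, (∀ t ∈ T1, a * t = t * a) → a = 1) :
    Nat.card A = p := by
  have hp : p.Prime := Fact.out
  have hA : IsPGroup p A := Cfsg.Agent.Lib.Helper55.isPGroup_of_pow_eq_one hAexp
  obtain ⟨n, hn⟩ := IsPGroup.iff_card.mp hA
  have hn0 : n ≠ 0 := by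
    rintro rfl
    rw [pow_zero] at hn
    exact hA1 ((Subgroup.eq_bot_iff_card A).mpr hn)
  by_cases hn1 : n = 1
  · rw [hn, hn1, pow_one]
  exfalso
  have hA2 : p ^ 2 ≤ Nat.card A := by
    rw [hn]
    exact Nat.pow_le_pow_right hp.pos (by omega)
  have hAN : A ≤ Subgroup.normalizer (T1 : Set Γ) := by
    intro a ha
    rw [Subgroup.mem_normalizer_iff]
    intro t
    refine ⟨fun ht => hinv a ha t ht, fun ht => ?_⟩
    have := hinv a⁻¹ (A.inv_mem ha) _ ht
    simpa [mul_assoc] using this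
  have hAH : A ≤ Subgroup.centralizer (A : Set Γ) := by
    intro a ha
    rw [Subgroup.mem_centralizer_iff]
    intro b hb
    exact hAab b hb a ha
  have hC : ∀ a ∈ A, a ≠ 1 →
      T1 ⊓ Subgroup.centralizer {a} ≤ Subgroup.centralizer (A : Set Γ) := by
    intro a ha ha1
    have hlt : T1 ⊓ Subgroup.centralizer {a} ≠ T1 := by
      intro h
      apply ha1
      apply hfaith a ha
      intro t ht
      have : t ∈ T1 ⊓ Subgroup.centralizer {a} := by rw [h]; exact ht
      have h2 := (Subgroup.mem_centralizer_iff.mp (Subgroup.mem_inf.mp this).2) a rfl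
      exact h2
    have hI : ∀ b ∈ A, ∀ t ∈ T1 ⊓ Subgroup.centralizer {a},
        b * t * b⁻¹ ∈ T1 ⊓ Subgroup.centralizer {a} := by
      intro b hb t ht
      obtain ⟨ht1, ht2⟩ := Subgroup.mem_inf.mp ht
      refine Subgroup.mem_inf.mpr ⟨hinv b hb t ht1, ?_⟩
      rw [Subgroup.mem_centralizer_iff]
      intro x hx
      rw [Set.mem_singleton_iff] at hx
      subst hx
      have h2 : x * t = t * x := (Subgroup.mem_centralizer_iff.mp ht2) x rfl
      have h3 : x * b = b * x := hAab x ha b hb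
      have h4 : x * b⁻¹ = b⁻¹ * x := by
        have := hAab x ha b⁻¹ (A.inv_mem hb)
        exact this
      calc x * (b * t * b⁻¹) = (x * b) * t * b⁻¹ := by group
        _ = b * (x * t) * b⁻¹ := by rw [h3]; group
        _ = b * t * (x * b⁻¹) := by rw [h2]; group
        _ = b * t * b⁻¹ * x := by rw [h4]; group
    have hcomm := hmin _ inf_le_left hlt hI
    intro t ht
    rw [Subgroup.mem_centralizer_iff]
    intro b hb
    exact hcomm b hb t ht
  have hle := Cfsg.Agent.Lib.Helper55.le_of_centralizers_le (p := p) hAab hAexp hA2 hT1 hAN hAH hC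
  obtain ⟨a, ha, t, ht, hne⟩ := hnt
  exact hne ((Subgroup.mem_centralizer_iff.mp (hle ht)) a ha)

end Cfsg.Agent.Lib.Helper64.SPL
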