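import Mathlib

/-!
# K-PrnA-AR (keystone 222208, architect helper44): `ν₂(n!) = ⌊n/2⌋ + ν₂(⌊n/2⌋!)`
-/

set_option autoImplicit false

namespace Cfsg.Agent.Lib.Helper64.PrnA

theorem factorization_factorial_half (n : ℕ) :
    (n.factorial).factorization 2 = n / 2 + ((n / 2).factorial).factorization 2 := by
  obtain ⟨k, hk | hk⟩ : ∃ k, n = 2 * k ∨ n = 2 * k + 1 := by
    rcases Nat.even_or_odd' n with ⟨k, h | h⟩
    · exact ⟨k, Or.inl h⟩
    · exact ⟨k, Or.inr h⟩
  · subst hk
    rw [Nat.factorization_factorial_mul Nat.prime_two, Nat.mul_div_cancel_left k (by norm_num),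
      add_comm]
  · subst hk
    have h2 : (2 * k + 1) / 2 = k := by omega
    rw [h2, Nat.factorial_succ, Nat.factorization_mul (by omega) (Nat.factorial_ne_zero _),
      Finsupp.add_apply, Nat.factorization_factorial_mul Nat.prime_two,
      Nat.factorization_eq_zero_of_not_dvd (by omega)]
    omega

end Cfsg.Agent.Lib.Helper64.PrnA
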