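import Cfsg.Agent.Lib.Helper64.StBDefs
import Cfsg.Agent.Lib.Helper08.BNPairSimple
import Cfsg.Agent.Lib.Helper47.PermCharInner
import Cfsg.Agent.Lib.Helper47.UnipotentGL
import Cfsg.Agent.Lib.Helper34.GenChar
import Cfsg.Agent.Lib.Helper05.CharDecomp
import Cfsg.Agent.Lib.Helper23.StBLenInv
import Cfsg.Agent.Lib.Helper26.StBLongest
import Cfsg.Agent.Lib.Helper94.StBB4
import Cfsg.Agent.Lib.Helper62.StBC0
import Cfsg.Agent.Lib.Helper34.StBC1
import Cfsg.Agent.Lib.Helper49.StBC2
import Cfsg.Agent.Lib.Helper79.StBC5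

/-!
# The Steinberg character of a finite group with a (B,N)-pair: assembly

`stChar_isIrr` : the alternating sum of the permutation characters on the cosets of the standard
parabolic subgroups is an irreducible character.
`stChar_apply_of_mem_B` : its restriction to `B` is the permutation character of `B` on `B/(B ∩ N)`,
as soon as some `n₁ ∈ N` has `B ∩ n₁ B n₁⁻¹ ⊆ N`.
Leaves by helper23, helper26, helper94, helper62, helper34, helper49, helper79 (+ helper28, helper93,
helper57, helper59, helper68 below them).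
-/

set_option autoImplicit false

namespace Cfsg.Agent.Lib.Helper64.StB

open Cfsg Cfsg.Agent.Lib.Helper08
open Cfsg.Agent.Lib.Helper23.StB (len_mul_S_ne)
open Cfsg.Agent.Lib.Helper26.StB (exists_longest)
open Cfsg.Agent.Lib.Helper94.StB (left_descent_of_inter)
open Cfsg.Agent.Lib.Helper62.StB (exists_isTrans redJK_congr)
open Cfsg.Agent.Lib.Helper34.StB (fpc_inner_parabolic)
open Cfsg.Agent.Lib.Helper49.StB (alt_sum_collapse alt_sum_collapse₂)
open Cfsg.Agent.Lib.Helper79.StB (fpc_parabolic_apply_of_mem_B)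
open scoped ComplexConjugate

variable {G : Type*} [Group G] (P : Cfsg.BNPair G)




theorem redJK_iff_disjoint [Finite G] {J K : Finset G} (hJ : J ⊆ SF P) (hK : K ⊆ SF P) {n : G}
    (hn : n ∈ P.N) :
    RedJK P (↑J : Set G) (↑K : Set G) n ↔ Disjoint J (DLs P n) ∧ Disjoint K (DRs P n) := by
  constructor
  · rintro ⟨_, h1, h2⟩
    refine ⟨Finset.disjoint_left.2 ?_, Finset.disjoint_left.2 ?_⟩
    · intro s hs hs'
      have := h1 s (by exact_mod_cast hs)
      have h3 := ((mem_DLs P).1 hs').2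
      omega
    · intro s hs hs'
      have := h2 s (by exact_mod_cast hs)
      have h3 := ((mem_DRs P).1 hs').2
      omega
  · rintro ⟨h1, h2⟩
    refine ⟨hn, ?_, ?_⟩
    · intro s hs
      have hsJ : s ∈ J := by exact_mod_cast hs
      have hsS : s ∈ P.S := (mem_SF P).1 (hJ hsJ)
      rcases len_S_mul_lt_or_gt P hsS hn with h | h
      · exact absurd ((mem_DLs P).2 ⟨hsS, h⟩) (Finset.disjoint_left.1 h1 hsJ)
      · exact h
    · intro s hs
      have hsK : s ∈ K := by exact_mod_cast hs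
      have hsS : s ∈ P.S := (mem_SF P).1 (hK hsK)
      have hne := len_mul_S_ne P hsS hn
      by_contra hcon
      have hlt : len P (n * s) < len P n := by omega
      exact absurd ((mem_DRs P).2 ⟨hsS, hlt⟩) (Finset.disjoint_left.1 h2 hsK)





theorem conj_stChar [Finite G] (g : G) : conj (stChar P g) = stChar P g := by
  unfold stChar
  rw [map_sum]
  refine Finset.sum_congr rfl fun J _ => ?_
  rw [map_mul, map_pow, map_neg, map_one, Cfsg.Agent.Lib.Helper47.conj_fpc]

open Classical in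
theorem filter_red_eq [Finite G] {R : Finset G} (hR : IsTrans P R) {J K : Finset G}
    (hJ : J ⊆ SF P) (hK : K ⊆ SF P) [DecidablePred (RedJK P (↑J : Set G) (↑K : Set G))] :
    R.filter (RedJK P (↑J : Set G) (↑K : Set G)) =
      R.filter (fun r => Disjoint J (DLs P r) ∧ Disjoint K (DRs P r)) := by
  ext r
  simp only [Finset.mem_filter]
  constructor
  · rintro ⟨hr, h⟩
    exact ⟨hr, (redJK_iff_disjoint P hJ hK (hR.mem_N r hr)).1 h⟩
  · rintro ⟨hr, h⟩
    exact ⟨hr, (redJK_iff_disjoint P hJ hK (hR.mem_N r hr)).2 h⟩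

open Classical in
theorem inner_expand [Fintype G] {R : Finset G} (hR : IsTrans P R) :
    classInner (stChar P) (stChar P) =
      ∑ J ∈ (SF P).powerset, ∑ K ∈ (SF P).powerset, (-1 : ℂ) ^ J.card * (-1 : ℂ) ^ K.card *
        ((R.filter (fun r => Disjoint J (DLs P r) ∧ Disjoint K (DRs P r))).card : ℂ) := by
  classical
  unfold classInner
  simp_rw [conj_stChar]
  have h1 : ∀ g : G, stChar P g * stChar P g =
      ∑ J ∈ (SF P).powerset, ∑ K ∈ (SF P).powerset, (-1 : ℂ) ^ J.card * (-1 : ℂ) ^ K.card *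
        (Cfsg.fixedPointCharacter (P.parabolic (↑J : Set G)) g *
          Cfsg.fixedPointCharacter (P.parabolic (↑K : Set G)) g) := by
    intro g
    unfold stChar
    rw [Finset.sum_mul_sum]
    refine Finset.sum_congr rfl fun J _ => Finset.sum_congr rfl fun K _ => ?_
    ring
  simp_rw [h1]
  rw [Finset.sum_comm, Finset.mul_sum]
  refine Finset.sum_congr rfl fun J hJ => ?_
  rw [Finset.sum_comm, Finset.mul_sum]
  refine Finset.sum_congr rfl fun K hK => ?_
  rw [← Finset.mul_sum]
  have hJ' : J ⊆ SF P := Finset.mem_powerset.1 hJ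
  have hK' : K ⊆ SF P := Finset.mem_powerset.1 hK
  have := fpc_inner_parabolic P (coe_subset_S P hJ) (coe_subset_S P hK) hR
  rw [filter_red_eq P hR hJ' hK'] at this
  rw [← this]
  ring





theorem DLs_eq_SF_iff [Finite G] {n : G} :
    DLs P n = SF P ↔ ∀ s ∈ P.S, len P (s * n) < len P n := by
  constructor
  · intro h s hs
    have : s ∈ DLs P n := by rw [h]; exact (mem_SF P).2 hs
    exact ((mem_DLs P).1 this).2
  · intro h
    refine Finset.Subset.antisymm (DLs_subset P n) ?_
    intro s hs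
    have hs' := (mem_SF P).1 hs
    exact (mem_DLs P).2 ⟨hs', h s hs'⟩

theorem DRs_eq_SF_iff [Finite G] {n : G} :
    DRs P n = SF P ↔ ∀ s ∈ P.S, len P (n * s) < len P n := by
  constructor
  · intro h s hs
    have : s ∈ DRs P n := by rw [h]; exact (mem_SF P).2 hs
    exact ((mem_DRs P).1 this).2
  · intro h
    refine Finset.Subset.antisymm (DRs_subset P n) ?_
    intro s hs
    have hs' := (mem_SF P).1 hs
    exact (mem_DRs P).2 ⟨hs', h s hs'⟩

theorem exists_top [Finite G] {R : Finset G} (hR : IsTrans P R) :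
    ∃ r₀ ∈ R, DLs P r₀ = SF P ∧ DRs P r₀ = SF P ∧ (∀ r ∈ R, DLs P r = SF P → r = r₀) ∧
      (∀ r ∈ R, DRs P r = SF P → r = r₀) := by
  obtain ⟨n₀, hn₀, hL, hRt, huL, huR⟩ := exists_longest P
  obtain ⟨r₀, hr₀, he⟩ := hR.cover n₀ hn₀
  have hr₀N := hR.mem_N r₀ hr₀
  have hlen : len P r₀ = len P n₀ := len_congr P he
  refine ⟨r₀, hr₀, ?_, ?_, ?_, ?_⟩
  · rw [DLs_eq_SF_iff]
    intro s hs
    have := len_congr P (Eqv_mul_left P s he)
    have := hL s hs
    omega
  · rw [DRs_eq_SF_iff]
    intro s hs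
    have := len_congr P (Eqv_mul_right P hr₀N hn₀ (P.subset hs) he)
    have := hRt s hs
    omega
  · intro r hr h
    rw [DLs_eq_SF_iff] at h
    have h1 := huL r (hR.mem_N r hr) h
    exact hR.inj r hr r₀ hr₀ (Eqv_trans P h1 (Eqv_symm P he))
  · intro r hr h
    rw [DRs_eq_SF_iff] at h
    have h1 := huR r (hR.mem_N r hr) h
    exact hR.inj r hr r₀ hr₀ (Eqv_trans P h1 (Eqv_symm P he))

open Classical in
theorem stChar_inner_self [Fintype G] : classInner (stChar P) (stChar P) = 1 := by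
  obtain ⟨R, hR⟩ := exists_isTrans P
  rw [inner_expand P hR, alt_sum_collapse₂ (SF P) R (DLs P) (DRs P)
    (fun w _ => DLs_subset P w) (fun w _ => DRs_subset P w)]
  obtain ⟨r₀, hr₀, h1, h2, h3, _⟩ := exists_top P hR
  have : R.filter (fun w => DLs P w = SF P ∧ DRs P w = SF P) = {r₀} := by
    ext r
    simp only [Finset.mem_filter, Finset.mem_singleton]
    constructor
    · rintro ⟨hr, h, _⟩
      exact h3 r hr h
    · rintro rfl
      exact ⟨hr₀, h1, h2⟩
  rw [this]
  simp

theorem parabolic_empty : P.parabolic (∅ : Set G) = P.B := by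
  unfold Cfsg.BNPair.parabolic
  simp

open Classical in
theorem stChar_inner_B [Fintype G] :
    classInner (stChar P) (Cfsg.fixedPointCharacter P.B) = 1 := by
  obtain ⟨R, hR⟩ := exists_isTrans P
  unfold classInner
  simp_rw [Cfsg.Agent.Lib.Helper47.conj_fpc]
  have h1 : ∀ g : G, stChar P g * Cfsg.fixedPointCharacter P.B g =
      ∑ J ∈ (SF P).powerset, (-1 : ℂ) ^ J.card *
        (Cfsg.fixedPointCharacter (P.parabolic (↑J : Set G)) g *
          Cfsg.fixedPointCharacter (P.parabolic (∅ : Set G)) g) := by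
    intro g
    unfold stChar
    rw [Finset.sum_mul, parabolic_empty]
    refine Finset.sum_congr rfl fun J _ => ?_
    ring
  simp_rw [h1]
  rw [Finset.sum_comm, Finset.mul_sum]
  have h2 : ∀ J ∈ (SF P).powerset,
      (Nat.card G : ℂ)⁻¹ * ∑ g : G, (-1 : ℂ) ^ J.card *
        (Cfsg.fixedPointCharacter (P.parabolic (↑J : Set G)) g *
          Cfsg.fixedPointCharacter (P.parabolic (∅ : Set G)) g) =
      (-1 : ℂ) ^ J.card * ∑ w ∈ R.filter (fun w => Disjoint J (DLs P w)), (1 : ℂ) := by
    intro J hJ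
    have hJ' : J ⊆ SF P := Finset.mem_powerset.1 hJ
    rw [← Finset.mul_sum]
    have := fpc_inner_parabolic P (coe_subset_S P hJ) (Set.empty_subset _) (K := (∅ : Set G)) hR
    have hf : R.filter (RedJK P (↑J : Set G) (∅ : Set G)) =
        R.filter (fun w => Disjoint J (DLs P w)) := by
      have := filter_red_eq P hR hJ' (Finset.empty_subset (SF P))
      simp only [Finset.coe_empty, Finset.disjoint_empty_left, and_true] at this
      convert this using 2
    rw [hf] at this
    rw [mul_left_comm, this]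
    simp
  rw [Finset.sum_congr rfl h2]
  rw [alt_sum_collapse (SF P) R (DLs P) (fun w _ => DLs_subset P w) (fun _ => (1 : ℂ))]
  obtain ⟨r₀, hr₀, h1', _, h3, _⟩ := exists_top P hR
  have : R.filter (fun w => DLs P w = SF P) = {r₀} := by
    ext r
    simp only [Finset.mem_filter, Finset.mem_singleton]
    constructor
    · rintro ⟨hr, h⟩
      exact h3 r hr h
    · rintro rfl
      exact ⟨hr₀, h1'⟩
  rw [this]
  simp


/-- **T1.** The Steinberg character of a finite group with a (B,N)-pair is irreducible. -/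
theorem stChar_isIrr [Finite G] : IsIrrCharacter G (stChar P) := by
  classical
  have : Fintype G := Fintype.ofFinite G
  have hgen : IsGeneralizedCharacter G (stChar P) := by
    have h : stChar P = ∑ J ∈ (SF P).powerset,
        (((-1 : ℤ) ^ J.card : ℤ) : ℂ) • Cfsg.fixedPointCharacter (P.parabolic (↑J : Set G)) := by
      funext g
      simp [stChar, Finset.sum_apply]
    rw [h]
    exact Cfsg.Agent.Lib.Helper34.isGeneralizedCharacter_sum _ _ fun J _ =>
      Cfsg.Agent.Lib.Helper34.isGeneralizedCharacter_intCast_smul _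
        (Cfsg.Agent.Lib.Helper34.IsCharacter.isGeneralizedCharacter
          (Cfsg.Agent.Lib.Helper47.fpc_isCharacter _))
  rcases Cfsg.Agent.Lib.Helper34.irr_or_neg_irr_of_norm_one hgen (stChar_inner_self P) with h | h
  · exact h
  · exfalso
    obtain ⟨n, hn⟩ := Cfsg.Agent.Lib.Helper05.exists_nat_classInner
      (Cfsg.Agent.Lib.Helper47.fpc_isCharacter P.B) h
    have h1 := stChar_inner_B P
    have h2 : classInner (Cfsg.fixedPointCharacter P.B) (-stChar P) = -1 := by
      rw [← h1]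
      unfold classInner
      rw [← mul_neg, ← Finset.sum_neg_distrib]
      congr 1
      refine Finset.sum_congr rfl fun g _ => ?_
      rw [Pi.neg_apply, map_neg, conj_stChar, Cfsg.Agent.Lib.Helper47.conj_fpc]
      ring
    rw [h2] at hn
    have h3 := congrArg Complex.re hn
    simp at h3
    have : (0 : ℝ) ≤ (n : ℝ) := Nat.cast_nonneg n
    linarith

open Classical in
/-- **T2.** Restriction of the Steinberg character to `B`. -/
theorem stChar_apply_of_mem_B [Finite G] {n₁ : G} (hn₁ : n₁ ∈ P.N)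
    (hT : ∀ b ∈ P.B, n₁⁻¹ * b * n₁ ∈ P.B → b ∈ P.N) (b : P.B) :
    stChar P (b : G) = Cfsg.fixedPointCharacter ((P.B ⊓ P.N).subgroupOf P.B) b := by
  obtain ⟨R, hR⟩ := exists_isTrans P
  have h1 : ∀ J ∈ (SF P).powerset,
      Cfsg.fixedPointCharacter (P.parabolic (↑J : Set G)) (b : G) =
        ∑ r ∈ R.filter (fun r => Disjoint J (DRs P r)), Cfsg.fixedPointCharacter (BInt P r) b := by
    intro J hJ
    have hJ' : J ⊆ SF P := Finset.mem_powerset.1 hJ
    rw [fpc_parabolic_apply_of_mem_B P (coe_subset_S P hJ) hR b]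
    refine Finset.sum_congr ?_ fun _ _ => rfl
    ext r
    simp only [Finset.mem_filter]
    constructor
    · rintro ⟨hr, h⟩
      have := (redJK_iff_disjoint P (Finset.empty_subset (SF P)) hJ' (hR.mem_N r hr)).1
        ⟨hR.mem_N r hr, by simp, h⟩
      exact ⟨hr, this.2⟩
    · rintro ⟨hr, h⟩
      have := (redJK_iff_disjoint P (Finset.empty_subset (SF P)) hJ' (hR.mem_N r hr)).2
        ⟨by simp, h⟩
      exact ⟨hr, this.2.2⟩
  unfold stChar
  rw [Finset.sum_congr rfl fun J hJ => by rw [h1 J hJ]]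
  rw [alt_sum_collapse (SF P) R (DRs P) (fun w _ => DRs_subset P w)
    (fun r => Cfsg.fixedPointCharacter (BInt P r) b)]
  obtain ⟨r₀, hr₀, hL, hRt, h3, h4⟩ := exists_top P hR
  have hfil : R.filter (fun w => DRs P w = SF P) = {r₀} := by
    ext r
    simp only [Finset.mem_filter, Finset.mem_singleton]
    constructor
    · rintro ⟨hr, h⟩
      exact h4 r hr h
    · rintro rfl
      exact ⟨hr₀, hRt⟩
  rw [hfil, Finset.sum_singleton]
  have hr₀N := hR.mem_N r₀ hr₀
  -- `r₀ ≡ n₁`
  have hn₁L := left_descent_of_inter P hn₁ hT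
  obtain ⟨r₁, hr₁, he₁⟩ := hR.cover n₁ hn₁
  have hr₁L : DLs P r₁ = SF P := by
    rw [DLs_eq_SF_iff]
    intro s hs
    have e1 := len_congr P (Eqv_mul_left P s he₁)
    have e2 := len_congr P he₁
    have := hn₁L s hs
    omega
  have hr₁₀ : r₁ = r₀ := h3 r₁ hr₁ hr₁L
  rw [hr₁₀] at he₁
  -- he₁ : r₀⁻¹ * n₁ ∈ B
  have htB : r₀⁻¹ * n₁ ∈ P.B := he₁
  have hEq : BInt P r₀ = (P.B ⊓ P.N).subgroupOf P.B := by
    ext x
    rw [mem_BInt, Subgroup.mem_subgroupOf, Subgroup.mem_inf]
    constructor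
    · intro h
      refine ⟨x.2, hT x x.2 ?_⟩
      have : n₁⁻¹ * (x : G) * n₁ = (r₀⁻¹ * n₁)⁻¹ * (r₀⁻¹ * (x : G) * r₀) * (r₀⁻¹ * n₁) := by
        group
      rw [this]
      exact P.B.mul_mem (P.B.mul_mem (P.B.inv_mem htB) h) htB
    · rintro ⟨hxB, hxN⟩
      exact conj_mem_B' P hr₀N hxB hxN
  rw [hEq]

end Cfsg.Agent.Lib.Helper64.StB
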