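import Mathlib

/-!
# K-StO-A6 (keystone 254726, architect helper48): `|B ∩ H : T ∩ H| = |B : T|` when `H ⊴ G`, `T ≤ B`, `H T = G`
-/

set_option autoImplicit false

namespace Cfsg.Agent.Lib.Helper64.StO

theorem relIndex_subgroupOf_eq {G : Type*} [Group G] [Finite G] (H B T : Subgroup G) [H.Normal]
    (hTB : T ≤ B) (hHT : H ⊔ T = ⊤) :
    (T.subgroupOf H).relIndex (B.subgroupOf H) = T.relIndex B := by
  have hHB : H ⊔ B = ⊤ := top_le_iff.mp (hHT ▸ sup_le_sup_left hTB H)
  -- the left side is `|B ∩ H : T ∩ H|`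
  have hL : (T.subgroupOf H).relIndex (B.subgroupOf H) = (T ⊓ H).relIndex (B ⊓ H) := by
    rw [← Subgroup.inf_subgroupOf_right T H, ← Subgroup.inf_subgroupOf_right B H]
    exact Subgroup.relIndex_subgroupOf inf_le_right
  rw [hL]
  have h1 : (T ⊓ H).relIndex T * T.relIndex B = (T ⊓ H).relIndex B :=
    Subgroup.relIndex_mul_relIndex _ _ _ inf_le_left hTB
  have h2 : (T ⊓ H).relIndex (B ⊓ H) * (B ⊓ H).relIndex B = (T ⊓ H).relIndex B :=
    Subgroup.relIndex_mul_relIndex _ _ _ (inf_le_inf_right H hTB) inf_le_left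
  have h3 : (T ⊓ H).relIndex T = H.index := by
    rw [Subgroup.inf_relIndex_left, ← Subgroup.relIndex_sup_left (K := H) (H := T), hHT,
      Subgroup.relIndex_top_right]
  have h4 : (B ⊓ H).relIndex B = H.index := by
    rw [Subgroup.inf_relIndex_left, ← Subgroup.relIndex_sup_left (K := H) (H := B), hHB,
      Subgroup.relIndex_top_right]
  rw [h3] at h1
  rw [h4] at h2
  have hne : H.index ≠ 0 := Subgroup.index_ne_zero_of_finite
  have : H.index * T.relIndex B = H.index * (T ⊓ H).relIndex (B ⊓ H) := by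
    rw [h1, mul_comm, h2]
  exact (Nat.eq_of_mul_eq_mul_left (Nat.pos_of_ne_zero hne) this).symm

end Cfsg.Agent.Lib.Helper64.StO
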