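import Mathlib
import Cfsg.Agent.Lib.Helper49.RSU3Defs
import Cfsg.Agent.Lib.Helper40.GUConj

/-!
KEYSTONE 228310  K-RSU3-L10  `xM_mul` (pack K-RSU3 = S2283, architect helper49).
`xM q a b * xM q a' b' = xM q (a + a') (b + b' - a * a' ^ q)`.
-/

set_option autoImplicit false
set_option linter.unusedSectionVars false
set_option linter.unusedVariables false
set_option linter.unusedSimpArgs false

namespace Cfsg.Agent.Lib.Helper64.RSU3

open Matrix Cfsg.Agent.Lib.Helper49.StSU Cfsg.Agent.Lib.Helper49.RSU3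

variable {F : Type*} [Field F] [Fintype F] {q : ℕ}

/-- the `q`-th power map is additive on a field of order `q ^ 2` -/
theorem add_pow_q (hF : Fintype.card F = q ^ 2) (a a' : F) : (a + a') ^ q = a ^ q + a' ^ q := by
  obtain ⟨φ, hφ, _, _⟩ := Cfsg.Agent.Lib.Helper40.GUConj.exists_frob hF
  rw [← hφ, map_add, hφ, hφ]

/-- L10 -/
theorem xM_mul (hF : Fintype.card F = q ^ 2) (a b a' b' : F) :
    xM q a b * xM q a' b' = xM q (a + a') (b + b' - a * a' ^ q) := by
  have hadd := add_pow_q hF a a'
  ext i j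
  fin_cases i <;> fin_cases j <;>
    simp [xM, Matrix.mul_apply, Fin.sum_univ_three, hadd] <;> ring

end Cfsg.Agent.Lib.Helper64.RSU3
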