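import Cfsg.Agent.Lib.Helper08.BNPairExchange
import Cfsg.Prelude.Def_ParabolicCharacters

/-!
Shared definitions for the Steinberg character of a finite group with a (B,N)-pair
(rows S2311, S2313, S2327, S2328).  Everything is phrased on elements of `N` (no quotient type):
`Helper08.len`, `Helper08.Eqv`, `Helper08.DC`.
-/

set_option autoImplicit false

namespace Cfsg.Agent.Lib.Helper64.StB

open Cfsg Cfsg.Agent.Lib.Helper08

variable {G : Type*} [Group G] (P : Cfsg.BNPair G)

/-- `n ∈ N` is `(J,K)`-reduced: no left descent in `J`, no right descent in `K`. -/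
def RedJK (J K : Set G) (n : G) : Prop :=
  n ∈ P.N ∧ (∀ s ∈ J, len P n < len P (s * n)) ∧ (∀ t ∈ K, len P n < len P (n * t))

/-- a finite set of representatives of `W = N / (B ⊓ N)` -/
structure IsTrans (R : Finset G) : Prop where
  mem_N : ∀ r ∈ R, r ∈ P.N
  cover : ∀ n ∈ P.N, ∃ r ∈ R, Eqv P r n
  inj : ∀ r ∈ R, ∀ r' ∈ R, Eqv P r r' → r = r'

/-- the distinguished generators as a finset -/
noncomputable def SF [Finite G] : Finset G := (Set.toFinite P.S).toFinset

@[simp] theorem mem_SF [Finite G] {s : G} : s ∈ SF P ↔ s ∈ P.S := by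
  simp [SF]

@[simp] theorem coe_SF [Finite G] : ((SF P : Finset G) : Set G) = P.S := by
  ext s; simp

theorem coe_subset_S [Finite G] {J : Finset G} (hJ : J ∈ (SF P).powerset) : (↑J : Set G) ⊆ P.S := by
  intro s hs
  have := Finset.mem_powerset.1 hJ hs
  simpa using this

/-- the left descent set of `n` (as a finset of distinguished generators) -/
noncomputable def DLs [Finite G] (n : G) : Finset G := by
  classical exact (SF P).filter (fun s => len P (s * n) < len P n)

/-- the right descent set of `n` -/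
noncomputable def DRs [Finite G] (n : G) : Finset G := by
  classical exact (SF P).filter (fun s => len P (n * s) < len P n)

theorem mem_DLs [Finite G] {n s : G} : s ∈ DLs P n ↔ s ∈ P.S ∧ len P (s * n) < len P n := by
  classical
  simp [DLs]

theorem mem_DRs [Finite G] {n s : G} : s ∈ DRs P n ↔ s ∈ P.S ∧ len P (n * s) < len P n := by
  classical
  simp [DRs]

theorem DLs_subset [Finite G] (n : G) : DLs P n ⊆ SF P := by
  intro s hs; exact (mem_SF P).2 ((mem_DLs P).1 hs).1

theorem DRs_subset [Finite G] (n : G) : DRs P n ⊆ SF P := by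
  intro s hs; exact (mem_SF P).2 ((mem_DRs P).1 hs).1

/-- the alternating sum of the permutation characters on the cosets of the standard parabolic
subgroups: the Steinberg character of a finite group with a (B,N)-pair -/
noncomputable def stChar [Finite G] : G → ℂ := fun g =>
  ∑ J ∈ (SF P).powerset, (-1 : ℂ) ^ J.card * Cfsg.fixedPointCharacter (P.parabolic (↑J : Set G)) g

/-- `B ∩ r B r⁻¹` as a subgroup of `B` -/
def BInt (r : G) : Subgroup P.B where
  carrier := {x | r⁻¹ * (x : G) * r ∈ P.B}
  one_mem' := by simp [P.B.one_mem]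
  mul_mem' := by
    intro a b ha hb
    have : r⁻¹ * ((a * b : P.B) : G) * r = (r⁻¹ * (a : G) * r) * (r⁻¹ * (b : G) * r) := by
      simp [mul_assoc]
    change r⁻¹ * ((a * b : P.B) : G) * r ∈ P.B
    rw [this]
    exact P.B.mul_mem ha hb
  inv_mem' := by
    intro a ha
    have : r⁻¹ * ((a⁻¹ : P.B) : G) * r = (r⁻¹ * (a : G) * r)⁻¹ := by
      simp [mul_assoc]
    change r⁻¹ * ((a⁻¹ : P.B) : G) * r ∈ P.B
    rw [this]
    exact P.B.inv_mem ha

theorem mem_BInt {r : G} {x : P.B} : x ∈ BInt P r ↔ r⁻¹ * (x : G) * r ∈ P.B := Iff.rfl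

end Cfsg.Agent.Lib.Helper64.StB
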