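import Cfsg.Agent.Lib.Helper98.Oh0
import Cfsg.Agent.Lib.Helper50.MinusLang
import Cfsg.Agent.Lib.Helper50.TypeCriteria

/-!
# K-OMb-1 (keystone 599101, architect helper32): the minus bridge
-/

set_option autoImplicit false

namespace Cfsg.Agent.Lib.Helper64.OMb

open Module Cfsg.Agent.Lib.Helper98.Elus Cfsg.Agent.Lib.Helper98.Sy Cfsg.Agent.Lib.Helper98.Oh

universe u
variable {F : Type u} [Field F] {V : Type u} [AddCommGroup V] [Module F V]

/-- `X` totally isotropic (polarise, `2 ≠ 0`): `X ≤ X^⊥`, `dim X^⊥ = 2d - dim X`, so `dim X ≤ d`, and `= d` would give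
`Plus B ⊤`. -/
theorem lt_of_not_plus (h2 : (2 : F) ≠ 0) [FiniteDimensional F V] (B : LinearMap.BilinForm F V)
    (hS : ∀ a b, B a b = B b a) (hV : NonDeg B ⊤) (d : ℕ) (hd : finrank F V = 2 * d) (hnp : ¬ Plus B ⊤)
    (X : Submodule F V) (hX : ∀ x ∈ X, B x x = 0) : finrank F X < d := by
  by_contra hlt
  have hge : d ≤ finrank F X := Nat.le_of_not_lt hlt
  -- polarisation
  have hpol : ∀ x ∈ X, ∀ y ∈ X, B x y = 0 := by
    intro x hx y hy
    have h1 := hX (x + y) (X.add_mem hx hy)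
    simp only [map_add, LinearMap.add_apply] at h1
    rw [hX x hx, hX y hy, hS y x] at h1
    have h3 : (2 : F) * B x y = 0 := by linear_combination h1
    rcases mul_eq_zero.mp h3 with h4 | h4
    · exact absurd h4 h2
    · exact h4
  have hnd : B.Nondegenerate := by
    have hl : ∀ x, (∀ y, B x y = 0) → x = 0 := fun x hx =>
      hV x Submodule.mem_top (fun v _ => hx v)
    refine ⟨hl, fun y hy => hl y (fun x => ?_)⟩
    rw [hS y x]
    exact hy x
  have hle : X ≤ B.orthogonal X := by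
    intro x hx
    rw [LinearMap.BilinForm.mem_orthogonal_iff]
    intro n hn
    exact hpol n hn x hx
  have h3 := LinearMap.BilinForm.finrank_orthogonal hnd X
  have h4 := Submodule.finrank_mono hle
  have hXle : finrank F X ≤ finrank F V := Submodule.finrank_le X
  have hXd : finrank F X = d := by omega
  apply hnp
  refine ⟨X, le_top, hX, ?_⟩
  rw [finrank_top, hd, hXd]

/-- `Helper50.QMinus_nondeg_of_anis`. -/
theorem nonDeg_QMinus [Fintype F] (d : ℕ) (a b : F)
    (hab : ∀ x y : F, x ^ 2 + a * x * y + b * y ^ 2 = 0 → x = 0 ∧ y = 0) :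
    NonDeg (QuadraticMap.polarBilin (Cfsg.Agent.Lib.Helper50.QMinus (d - 1) F a b)) ⊤ := by
  have h := Cfsg.Agent.Lib.Helper50.QMinus_nondeg_of_anis (d - 1) a b hab
  intro u _ hu
  exact h.1 u (fun v => hu v Submodule.mem_top)

/-- a totally singular `X` of dimension `d = (d-1)+1` would make `QMinus` of plus type, against
`Helper50.not_plus_of_anis`. -/
theorem not_plus_QMinus [Fintype F] (h2 : (2 : F) ≠ 0) (d : ℕ) (hd : 1 ≤ d) (a b : F)
    (hab : ∀ x y : F, x ^ 2 + a * x * y + b * y ^ 2 = 0 → x = 0 ∧ y = 0) :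
    ¬ Plus (QuadraticMap.polarBilin (Cfsg.Agent.Lib.Helper50.QMinus (d - 1) F a b)) ⊤ := by
  rintro ⟨U, -, hU, hdim⟩
  have hnd := Cfsg.Agent.Lib.Helper50.QMinus_nondeg_of_anis (d - 1) a b hab
  have hQND := Cfsg.Agent.Lib.Helper50.QND_of_nondegenerate _ hnd
  have hfr : finrank F ((Fin (d - 1) ⊕ Fin (d - 1)) ⊕ Fin 2 → F) = 2 * (d - 1 + 1) := by
    rw [Module.finrank_pi, Fintype.card_sum, Fintype.card_sum, Fintype.card_fin, Fintype.card_fin]
    ring
  have hUd : d - 1 + 1 ≤ finrank F U := by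
    rw [finrank_top, hfr] at hdim
    omega
  have hsing : ∀ x ∈ U, Cfsg.Agent.Lib.Helper50.QMinus (d - 1) F a b x = 0 := by
    intro x hx
    have h1 := hU x hx
    rw [QuadraticMap.polarBilin_apply_apply, QuadraticMap.polar_self, nsmul_eq_mul] at h1
    rcases mul_eq_zero.mp h1 with h4 | h4
    · exact absurd h4 h2
    · exact h4
  have hplus := Cfsg.Agent.Lib.Helper50.plusType_of_totally_singular (d - 1 + 1)
    (Cfsg.Agent.Lib.Helper50.QMinus (d - 1) F a b) hQND hfr U hUd hsing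
  exact Cfsg.Agent.Lib.Helper50.not_plus_of_anis a b (Cfsg.Agent.Lib.Helper50.QMinus (d - 1) F a b)
    (d - 1) (LinearEquiv.refl F _) (fun v => rfl) hab hplus

end Cfsg.Agent.Lib.Helper64.OMb
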