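import Cfsg.Agent.Lib.Helper98.Elus3

/-!
# K-OTs-TB3 (keystone 597333, sub-architect helper50): `y * y = -1`, `-1` a non-square: invariant subspaces have
even dimension
-/

set_option autoImplicit false

namespace Cfsg.Agent.Lib.Helper64.OTs

open Module Cfsg.Agent.Lib.Helper98.Elus

universe u
variable {F : Type u} [Field F] {V : Type u} [AddCommGroup V] [Module F V]

theorem even_finrank_of_inv_sq_neg_one [FiniteDimensional F V] (hm1 : ¬ IsSquare (-1 : F)) (y : V →ₗ[F] V)
    (hy : y * y = -1) (W : Submodule F V) (hW : Inv y W) : Even (finrank F W) := by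
  rcases Nat.even_or_odd (finrank F W) with he | ho
  · exact he
  exfalso
  apply hm1
  have hsq : (y.restrict hW) * (y.restrict hW) = (-1 : F) • (1 : ↥W →ₗ[F] ↥W) := by
    apply LinearMap.ext
    intro w
    apply Subtype.ext
    have h1 := congrArg (fun f : V →ₗ[F] V => f (w : V)) hy
    simp only [Module.End.mul_apply, LinearMap.neg_apply, Module.End.one_apply] at h1
    simp only [Module.End.mul_apply, LinearMap.smul_apply, Module.End.one_apply, neg_smul, one_smul,
      Submodule.coe_neg]
    exact h1
  have hdet := congrArg LinearMap.det hsq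
  rw [map_mul, LinearMap.det_smul, map_one, mul_one, ho.neg_one_pow] at hdet
  exact ⟨LinearMap.det (y.restrict hW), hdet.symm⟩

end Cfsg.Agent.Lib.Helper64.OTs
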