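import Mathlib
import Cfsg.Agent.Lib.Helper07.A8Final

set_option autoImplicit false

namespace Cfsg.Agent.Lib.Helper64

open Matrix

theorem zmod2_eq_one_of_ne_zero : ∀ x : ZMod 2, x ≠ 0 → x = 1 := by decide

/-- `GL₄(2)` embeds in `A₈`. -/
theorem gl42_embed_alt8 :
    ∃ f : GL (Fin 4) (ZMod 2) →* alternatingGroup (Fin 8), Function.Injective f := by
  haveI : Fact (Nat.Prime 2) := ⟨Nat.prime_two⟩
  obtain ⟨e⟩ := Cfsg.Agent.Lib.Helper07.psl_four_two_equiv_alt (F := ZMod 2) (by rw [ZMod.card])
  have hdet : ∀ g : GL (Fin 4) (ZMod 2), (g : Matrix (Fin 4) (Fin 4) (ZMod 2)).det = 1 := by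
    intro g
    apply zmod2_eq_one_of_ne_zero
    have : IsUnit (g : Matrix (Fin 4) (Fin 4) (ZMod 2)).det :=
      (Matrix.isUnit_iff_isUnit_det _).mp g.isUnit
    exact this.ne_zero
  let g1 : GL (Fin 4) (ZMod 2) →* SpecialLinearGroup (Fin 4) (ZMod 2) :=
    { toFun := fun g => ⟨g.val, hdet g⟩
      map_one' := rfl
      map_mul' := fun a b => rfl }
  have hg1 : Function.Injective g1 := by
    intro a b hab
    apply Units.ext
    exact congrArg Subtype.val hab
  have hcen : Subgroup.center (SpecialLinearGroup (Fin 4) (ZMod 2)) = ⊥ := by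
    apply Subgroup.eq_bot_of_card_eq
    rw [Cfsg.Agent.Lib.Helper07.card_center_sl (F := ZMod 2) 4 (by norm_num), ZMod.card]
    norm_num
  let g2 : SpecialLinearGroup (Fin 4) (ZMod 2) →* ProjectiveSpecialLinearGroup (Fin 4) (ZMod 2) :=
    QuotientGroup.mk' _
  have hg2 : Function.Injective g2 := by
    rw [← MonoidHom.ker_eq_bot_iff, QuotientGroup.ker_mk', hcen]
  exact ⟨e.toMonoidHom.comp (g2.comp g1), e.injective.comp (hg2.comp hg1)⟩

/-- the linear automorphism induced by a group automorphism -/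
def autLin {V : Type*} [CommGroup V] [Module (ZMod 2) (Additive V)] (α : MulAut V) :
    Additive V ≃ₗ[ZMod 2] Additive V :=
  { MulEquiv.toAdditive α with
    map_smul' := fun c x => ZMod.map_smul (MulEquiv.toAdditive α) c x }

theorem autLin_apply {V : Type*} [CommGroup V] [Module (ZMod 2) (Additive V)] (α : MulAut V)
    (x : Additive V) : autLin α x = Additive.ofMul (α x.toMul) := rfl

/-- `α ↦ autLin α` as a group homomorphism -/
def autLinHom (V : Type*) [CommGroup V] [Module (ZMod 2) (Additive V)] :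
    MulAut V →* (Additive V ≃ₗ[ZMod 2] Additive V) where
  toFun := autLin
  map_one' := by ext x; rfl
  map_mul' := fun a b => by ext x; rfl

theorem autLinHom_injective (V : Type*) [CommGroup V] [Module (ZMod 2) (Additive V)] :
    Function.Injective (autLinHom V) := by
  intro a b hab
  ext v
  have := LinearEquiv.congr_fun hab (Additive.ofMul v)
  exact this

/-- linear automorphisms of a space of at most 16 elements over `𝔽₂` embed in `GL₄(2)` -/
theorem linAut_embed_gl42 {M : Type*} [AddCommGroup M] [Module (ZMod 2) M] [Finite M]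
    (hc : Nat.card M ≤ 16) :
    ∃ f : (M ≃ₗ[ZMod 2] M) →* GL (Fin 4) (ZMod 2), Function.Injective f := by
  haveI : Fact (Nat.Prime 2) := ⟨Nat.prime_two⟩
  have hcard := Module.natCard_eq_pow_finrank (K := ZMod 2) (V := M)
  rw [Nat.card_zmod] at hcard
  set d := Module.finrank (ZMod 2) M with hd
  have hd4 : d ≤ 4 := by
    by_contra h
    have : 2 ^ 5 ≤ 2 ^ d := Nat.pow_le_pow_right (by norm_num) (by omega)
    omega
  let U := Fin (4 - d) → ZMod 2
  have hfr : Module.finrank (ZMod 2) (M × U) = 4 := by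
    rw [Module.finrank_prod, Module.finrank_fin_fun]
    omega
  let b : Module.Basis (Fin 4) (ZMod 2) (M × U) := Module.finBasisOfFinrankEq (ZMod 2) (M × U) hfr
  let E : GL (Fin 4) (ZMod 2) ≃* ((M × U) ≃ₗ[ZMod 2] (M × U)) :=
    (Matrix.GeneralLinearGroup.toLin' b).trans
      (LinearMap.GeneralLinearGroup.generalLinearEquiv (ZMod 2) (M × U))
  let h : (M ≃ₗ[ZMod 2] M) →* ((M × U) ≃ₗ[ZMod 2] (M × U)) :=
    { toFun := fun φ => φ.prodCongr (LinearEquiv.refl (ZMod 2) U)
      map_one' := by ext x <;> rfl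
      map_mul' := fun φ ψ => by ext x <;> rfl }
  have hh : Function.Injective h := by
    intro φ ψ hφψ
    ext x
    have := LinearEquiv.congr_fun hφψ (x, 0)
    exact congrArg Prod.fst this
  exact ⟨E.symm.toMonoidHom.comp h, E.symm.injective.comp hh⟩

/-- automorphisms of a finite group of exponent 2 and order at most 16 embed in `A₈` -/
theorem mulAut_embed_alt8 {V : Type*} [Group V] [Finite V] (h2 : ∀ v : V, v ^ 2 = 1)
    (hc : Nat.card V ≤ 16) :
    ∃ f : MulAut V →* alternatingGroup (Fin 8), Function.Injective f := by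
  have hcomm : ∀ a b : V, a * b = b * a := by
    intro a b
    have ha : a⁻¹ = a := by
      rw [inv_eq_iff_mul_eq_one, ← pow_two]; exact h2 a
    have hb : b⁻¹ = b := by
      rw [inv_eq_iff_mul_eq_one, ← pow_two]; exact h2 b
    have hab : (a * b)⁻¹ = a * b := by
      rw [inv_eq_iff_mul_eq_one, ← pow_two]; exact h2 (a * b)
    rw [← hab, _root_.mul_inv_rev, ha, hb]
  letI : CommGroup V := { (inferInstance : Group V) with mul_comm := hcomm }
  letI : Module (ZMod 2) (Additive V) := AddCommGroup.zmodModule (n := 2) (by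
    intro x
    show Additive.ofMul (x.toMul ^ 2) = 0
    rw [h2]; rfl)
  obtain ⟨f1, hf1⟩ := linAut_embed_gl42 (M := Additive V) (by
    rw [show Nat.card (Additive V) = Nat.card V from rfl]; exact hc)
  obtain ⟨f2, hf2⟩ := gl42_embed_alt8
  exact ⟨f2.comp (f1.comp (autLinHom V)), hf2.comp (hf1.comp (autLinHom_injective V))⟩

end Cfsg.Agent.Lib.Helper64
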