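import Mathlib
import Cfsg.Agent.Lib.Helper05.A10Defs

/-!
# K-A10-B2 (keystone 348904, architect helper5): the table check `matB * elt i = elt (tabB i)`
-/

set_option autoImplicit false

namespace Cfsg.Agent.Lib.Helper64.A10Iso

open Matrix Cfsg.Agent.Lib.Helper05.A10Iso

theorem tabB_ok : ∀ i : Fin 240, matB * elt i = elt (tabB i) := by
  decide +kernel

end Cfsg.Agent.Lib.Helper64.A10Iso
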