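import Mathlib

set_option autoImplicit false

namespace Cfsg.Agent.Lib.Helper64

section Aff

variable {p : ℕ} [Fact p.Prime] {d : ℕ}

/-- For odd `p`, a permutation of `F_p^d` that agrees with an affine map on every triple of
points is affine. -/
theorem aff_of_triples (hp : p ≠ 2) (σ : Equiv.Perm (Fin d → ZMod p))
    (h : ∀ t : Fin 3 → (Fin d → ZMod p),
      ∃ (A : (Fin d → ZMod p) ≃ₗ[ZMod p] (Fin d → ZMod p)) (b : Fin d → ZMod p),
        ∀ i, σ (t i) = A (t i) + b) :
    ∃ (A : (Fin d → ZMod p) ≃ₗ[ZMod p] (Fin d → ZMod p)) (b : Fin d → ZMod p),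
      ∀ x, σ x = A x + b := by
  have h2 : (2 : ZMod p) ≠ 0 := by
    intro h0
    have : ((2 : ℕ) : ZMod p) = 0 := by exact_mod_cast h0
    rw [ZMod.natCast_eq_zero_iff] at this
    have hp' : p.Prime := Fact.out
    exact hp ((Nat.prime_dvd_prime_iff_eq hp' Nat.prime_two).mp this)
  set L : (Fin d → ZMod p) → (Fin d → ZMod p) := fun v => σ v - σ 0 with hL
  have hom : ∀ (c : ZMod p) (v : Fin d → ZMod p), L (c • v) = c • L v := by
    intro c v
    obtain ⟨A, b, hA⟩ := h ![0, v, c • v]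
    have h0 : σ 0 = A 0 + b := hA 0
    have h1 : σ v = A v + b := hA 1
    have h2 : σ (c • v) = A (c • v) + b := hA 2
    simp only [hL]
    rw [h0, h1, h2, map_zero, map_smul]
    rw [zero_add, add_sub_cancel_right, add_sub_cancel_right]
  have add : ∀ u v : Fin d → ZMod p, L (u + v) = L u + L v := by
    intro u v
    obtain ⟨A, b, hA⟩ := h ![u, v, (2 : ZMod p)⁻¹ • (u + v)]
    have h0 : σ u = A u + b := hA 0
    have h1 : σ v = A v + b := hA 1
    have h3 : σ ((2 : ZMod p)⁻¹ • (u + v)) = A ((2 : ZMod p)⁻¹ • (u + v)) + b := hA 2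
    have e1 : L ((2 : ZMod p)⁻¹ • (u + v)) = (2 : ZMod p)⁻¹ • L (u + v) := hom _ _
    have e2 : (2 : ZMod p) • L ((2 : ZMod p)⁻¹ • (u + v)) = L u + L v := by
      simp only [hL]
      rw [h0, h1, h3, map_smul, map_add, smul_sub, smul_add, smul_smul,
        mul_inv_cancel₀ h2, one_smul, two_smul, two_smul]
      abel
    rw [e1, smul_smul, mul_inv_cancel₀ h2, one_smul] at e2
    exact e2
  let Llin : (Fin d → ZMod p) →ₗ[ZMod p] (Fin d → ZMod p) :=
    { toFun := L
      map_add' := add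
      map_smul' := hom }
  have hbij : Function.Bijective Llin := by
    have : (Llin : (Fin d → ZMod p) → (Fin d → ZMod p)) = (Equiv.subRight (σ 0)) ∘ σ := by
      funext v
      rfl
    rw [this]
    exact (Equiv.subRight (σ 0)).bijective.comp σ.bijective
  refine ⟨LinearEquiv.ofBijective Llin hbij, σ 0, ?_⟩
  intro x
  simp [Llin, hL]

end Aff

end Cfsg.Agent.Lib.Helper64
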