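import Mathlib

set_option autoImplicit false

namespace Cfsg.Agent.Lib.Helper64

open Polynomial

section AffineIter

variable {p : ℕ} [Fact p.Prime] {V : Type*} [AddCommGroup V] [Module (ZMod p) V]

theorem affine_iterate (T : V →ₗ[ZMod p] V) (b : V) (j : ℕ) (v : V) :
    (fun x => T x + b)^[j] v = (T ^ j) v + (∑ i ∈ Finset.range j, T ^ i) b := by
  induction j with
  | zero => simp
  | succ j ih =>
    rw [Function.iterate_succ_apply', ih, map_add, Finset.sum_range_succ', pow_succ']
    simp only [Module.End.mul_apply, LinearMap.add_apply, LinearMap.sum_apply, pow_zero,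
      Module.End.one_apply, map_sum]
    have : ∀ i, (T ^ (i + 1)) b = T ((T ^ i) b) := fun i => by
      rw [pow_succ', Module.End.mul_apply]
    simp only [this]
    abel

theorem poly_sub_one_pow (k : ℕ) :
    ((X : (ZMod p)[X]) - 1) ^ (p ^ k) = X ^ (p ^ k) - 1 := by
  rw [sub_pow_char_pow, one_pow]

theorem poly_geom (k : ℕ) :
    (∑ i ∈ Finset.range (p ^ k), (X : (ZMod p)[X]) ^ i) = (X - 1) ^ (p ^ k - 1) := by
  have h1 : ((X : (ZMod p)[X]) - 1) * ∑ i ∈ Finset.range (p ^ k), (X : (ZMod p)[X]) ^ i
      = (X - 1) * (X - 1) ^ (p ^ k - 1) := by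
    rw [mul_geom_sum, ← pow_succ', Nat.sub_add_cancel (Nat.one_le_pow _ _ (Fact.out : p.Prime).pos),
      poly_sub_one_pow]
  have hne : ((X : (ZMod p)[X]) - 1) ≠ 0 := by
    have := X_sub_C_ne_zero (1 : ZMod p)
    simpa using this
  exact mul_left_cancel₀ hne h1

/-- If `T` has `p`-power order on a finite `F_p`-space of dimension `m` and `m + 1 ≤ p ^ k`, then the
affine map `x ↦ T x + b` has order dividing `p ^ k`. -/
theorem affine_iterate_eq_id [Module.Finite (ZMod p) V] (T : V →ₗ[ZMod p] V) (b : V) (r k : ℕ)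
    (hT : T ^ (p ^ r) = 1) (hk : Module.finrank (ZMod p) V + 1 ≤ p ^ k) (v : V) :
    (fun x => T x + b)^[p ^ k] v = v := by
  set u : Module.End (ZMod p) V := T - 1 with hu
  have hunil : IsNilpotent u := by
    refine ⟨p ^ r, ?_⟩
    have := congrArg (aeval T) (poly_sub_one_pow (p := p) r)
    simp only [map_pow, map_sub, aeval_X, map_one] at this
    rw [hu, this, hT, sub_self]
  have hum : u ^ (Module.finrank (ZMod p) V) = 0 := by
    have h := hunil.charpoly_eq_X_pow_finrank
    simpa only [h, map_pow, aeval_X] using u.aeval_self_charpoly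
  have hTq : T ^ (p ^ k) = 1 := by
    have := congrArg (aeval T) (poly_sub_one_pow (p := p) k)
    simp only [map_pow, map_sub, aeval_X, map_one] at this
    rw [← hu, pow_eq_zero_of_le (by omega) hum] at this
    exact (sub_eq_zero.mp this.symm)
  have hSq : (∑ i ∈ Finset.range (p ^ k), T ^ i) = 0 := by
    have := congrArg (aeval T) (poly_geom (p := p) k)
    simp only [map_pow, map_sub, aeval_X, map_one, map_sum] at this
    rw [this, ← hu, pow_eq_zero_of_le (by omega) hum]
  rw [affine_iterate, hTq, hSq]
  simp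

end AffineIter

end Cfsg.Agent.Lib.Helper64

namespace Cfsg.Agent.Lib.Helper64

section MulAffine

theorem mulAut_pow_apply {A : Type*} [Group A] (c : MulAut A) (n : ℕ) (a : A) :
    (c ^ n) a = c^[n] a := by
  induction n with
  | zero => simp
  | succ n ih => rw [pow_succ', MulAut.mul_apply, ih, Function.iterate_succ_apply']

theorem mul_affine_iterate_aux {A : Type*} [CommGroup A] [Finite A] (p m : ℕ) [Fact p.Prime]
    [Module (ZMod p) (Additive A)] (hcard : Nat.card A = p ^ m) (c : MulAut A) (r : ℕ)
    (hc : c ^ (p ^ r) = 1) (b : A) (k : ℕ) (hk : m + 1 ≤ p ^ k) (a : A) :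
    (fun x => c x * b)^[p ^ k] a = a := by
  have : Finite (Additive A) := ‹Finite A›
  have : Module.Finite (ZMod p) (Additive A) := Module.Finite.of_finite
  let T₀ : Additive A →+ Additive A := MonoidHom.toAdditive (c : A ≃* A).toMonoidHom
  let T : Additive A →ₗ[ZMod p] Additive A := T₀.toZModLinearMap p
  have hTapp : ∀ x : Additive A, T x = Additive.ofMul (c (Additive.toMul x)) := fun x => rfl
  have hT : T ^ (p ^ r) = 1 := by
    ext x
    rw [Module.End.pow_apply, Module.End.one_apply]
    have h1 : ∀ (n : ℕ) (x : Additive A), T^[n] x = Additive.ofMul (c^[n] (Additive.toMul x)) := by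
      intro n
      induction n with
      | zero => intro x; rfl
      | succ n ih =>
        intro x
        rw [Function.iterate_succ_apply', Function.iterate_succ_apply', ih, hTapp]
        rfl
    rw [h1, ← mulAut_pow_apply, hc]
    rfl
  have hfin : Module.finrank (ZMod p) (Additive A) = m := by
    have h1 := Module.natCard_eq_pow_finrank (K := ZMod p) (V := Additive A)
    rw [Nat.card_zmod] at h1
    have h2 : Nat.card (Additive A) = p ^ m := hcard
    rw [h2] at h1
    exact (Nat.pow_right_injective (Fact.out : p.Prime).two_le h1).symm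
  have := affine_iterate_eq_id T (Additive.ofMul b) r k hT (by rw [hfin]; exact hk)
    (Additive.ofMul a)
  exact this

/-- Multiplicative form of `affine_iterate_eq_id`: on an elementary abelian `p`-group `A` of order
`p ^ m`, with `c` an automorphism of `p`-power order and `m + 1 ≤ p ^ k`, the map `x ↦ c x * b`
has order dividing `p ^ k`. -/
theorem mul_affine_iterate {A : Type*} [CommGroup A] [Finite A] (p m : ℕ) [Fact p.Prime]
    (hA : ∀ a : A, a ^ p = 1) (hcard : Nat.card A = p ^ m) (c : MulAut A) (r : ℕ)
    (hc : c ^ (p ^ r) = 1) (b : A) (k : ℕ) (hk : m + 1 ≤ p ^ k) (a : A) :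
    (fun x => c x * b)^[p ^ k] a = a :=
  @mul_affine_iterate_aux A _ _ p m _ (AddCommGroup.zmodModule (n := p) (fun x => by
    show Additive.ofMul ((Additive.toMul x) ^ p) = 0
    rw [hA]; rfl)) hcard c r hc b k hk a

end MulAffine

end Cfsg.Agent.Lib.Helper64
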