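import Mathlib
import Cfsg.Agent.Lib.Helper01.Hall

set_option autoImplicit false

/-!
# Groups with the order and spectrum of `A_n` are not solvable: group-theoretic tools
-/

namespace Cfsg.Agent.Lib.Helper64.AltSpec

universe u

/-- Sylow counting: if `|H| = p ^ a * m` and every divisor `d` of `m` with `d ≡ 1 (mod p)` is `1`,
then `H` has exactly one Sylow `p`-subgroup. -/
theorem card_sylow_eq_one {H : Type*} [Group H] [Finite H] (p a m : ℕ) [hp : Fact p.Prime]
    (hH : Nat.card H = p ^ a * m)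
    (hd : ∀ d, d ∣ m → d % p = 1 → d = 1) : Nat.card (Sylow p H) = 1 := by
  obtain ⟨P⟩ : Nonempty (Sylow p H) := inferInstance
  have h1 : Nat.card (Sylow p H) ∣ (P : Subgroup H).index := Sylow.card_dvd_index P
  have h2 : ¬ p ∣ (P : Subgroup H).index := Sylow.not_dvd_index P
  have h3 : (P : Subgroup H).index ∣ p ^ a * m := hH ▸ Subgroup.index_dvd_card _
  have h4 : (P : Subgroup H).index ∣ m := by
    have hc : Nat.Coprime ((P : Subgroup H).index) (p ^ a) :=
      Nat.Coprime.pow_right a ((Nat.Prime.coprime_iff_not_dvd hp.out).mpr h2).symm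
    exact hc.dvd_of_dvd_mul_left h3
  have h5 : Nat.card (Sylow p H) ≡ 1 [MOD p] := card_sylow_modEq_one p H
  apply hd _ (h1.trans h4)
  have h6 : Nat.card (Sylow p H) % p = 1 % p := h5
  rw [h6]
  exact Nat.mod_eq_of_lt hp.out.one_lt

/-- If the Sylow `p`- and `q`-subgroups of `H` are unique (`p ≠ q` both dividing `|H|`), then `H`
has an element of order `p * q`. -/
theorem exists_orderOf_mul {H : Type*} [Group H] [Finite H] (p q : ℕ) [hp : Fact p.Prime]
    [hq : Fact q.Prime] (hpq : p ≠ q) (hpH : p ∣ Nat.card H) (hqH : q ∣ Nat.card H)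
    (hP : Nat.card (Sylow p H) = 1) (hQ : Nat.card (Sylow q H) = 1) :
    ∃ h : H, orderOf h = p * q := by
  obtain ⟨x, hx⟩ := exists_prime_orderOf_dvd_card' p hpH
  obtain ⟨y, hy⟩ := exists_prime_orderOf_dvd_card' q hqH
  have : Subsingleton (Sylow p H) := (Nat.card_eq_one_iff_unique.mp hP).1
  have : Subsingleton (Sylow q H) := (Nat.card_eq_one_iff_unique.mp hQ).1
  have hxp : IsPGroup p (Subgroup.zpowers x) := by
    apply IsPGroup.of_card (n := 1)
    rw [Nat.card_zpowers, hx, pow_one]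
  have hyq : IsPGroup q (Subgroup.zpowers y) := by
    apply IsPGroup.of_card (n := 1)
    rw [Nat.card_zpowers, hy, pow_one]
  obtain ⟨P, hxP⟩ := hxp.exists_le_sylow
  obtain ⟨Q, hyQ⟩ := hyq.exists_le_sylow
  have hPn : (P : Subgroup H).Normal := Sylow.normal_of_subsingleton P
  have hQn : (Q : Subgroup H).Normal := Sylow.normal_of_subsingleton Q
  have hdis : Disjoint (P : Subgroup H) (Q : Subgroup H) :=
    IsPGroup.disjoint_of_ne p q hpq _ _ P.isPGroup' Q.isPGroup'
  have hcomm : Commute x y :=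
    Subgroup.commute_of_normal_of_disjoint _ _ hPn hQn hdis x y
      (hxP (Subgroup.mem_zpowers x)) (hyQ (Subgroup.mem_zpowers y))
  refine ⟨x * y, ?_⟩
  rw [hcomm.orderOf_mul_eq_mul_orderOf_of_coprime, hx, hy]
  rw [hx, hy]
  exact (Nat.coprime_primes hp.out hq.out).mpr hpq

/-- Hall subgroups in finite solvable groups (from Helper01's `hallProp`). -/
theorem exists_hall {G : Type u} [Group G] [Finite G] [Group.IsSolvable G] (m n : ℕ)
    (h : Nat.card G = m * n) (hc : m.Coprime n) : ∃ H : Subgroup G, Nat.card H = m :=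
  (Cfsg.Agent.Lib.Helper01.hallProp m n h hc).1

/-- A prime dividing the lcm of a multiset of naturals divides one of its members. -/
theorem exists_dvd_of_dvd_multiset_lcm {p : ℕ} (hp : p.Prime) (s : Multiset ℕ) (h : p ∣ s.lcm) :
    ∃ a ∈ s, p ∣ a := by
  induction s using Multiset.induction with
  | empty =>
    rw [Multiset.lcm_zero] at h
    exact absurd (Nat.dvd_one.mp h) hp.one_lt.ne'
  | cons a s ih =>
    rw [Multiset.lcm_cons] at h
    have h' : p ∣ a * s.lcm := h.trans (lcm_dvd_iff.mpr ⟨dvd_mul_right _ _, dvd_mul_left _ _⟩)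
    rcases (Nat.Prime.dvd_mul hp).mp h' with h1 | h1
    · exact ⟨a, Multiset.mem_cons_self a s, h1⟩
    · obtain ⟨b, hb, hpb⟩ := ih h1
      exact ⟨b, Multiset.mem_cons_of_mem hb, hpb⟩

/-- Two different members of a multiset of naturals have sum at most the total. -/
theorem add_le_sum_of_mem_of_ne {s : Multiset ℕ} {a b : ℕ} (ha : a ∈ s) (hb : b ∈ s)
    (hab : a ≠ b) : a + b ≤ s.sum := by
  have h1 : s = a ::ₘ s.erase a := (Multiset.cons_erase ha).symm
  have hb' : b ∈ s.erase a := (Multiset.mem_erase_of_ne hab.symm).mpr hb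
  rw [h1, Multiset.sum_cons]
  exact Nat.add_le_add_left (Multiset.single_le_sum (fun _ _ => Nat.zero_le _) b hb') a

/-- A permutation of `n` points has no order `p * q` for distinct primes with `n < p + q`. -/
theorem orderOf_perm_ne_mul (n p q : ℕ) (hp : p.Prime) (hq : q.Prime) (hpq : p ≠ q)
    (hn : n < p + q) (σ : Equiv.Perm (Fin n)) : orderOf σ ≠ p * q := by
  intro h
  have hl : σ.cycleType.lcm = p * q := by rw [Equiv.Perm.lcm_cycleType, h]
  obtain ⟨a, ha, hpa⟩ := exists_dvd_of_dvd_multiset_lcm hp σ.cycleType (hl ▸ dvd_mul_right p q)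
  obtain ⟨b, hb, hqb⟩ := exists_dvd_of_dvd_multiset_lcm hq σ.cycleType (hl ▸ dvd_mul_left q p)
  have hsum : σ.cycleType.sum ≤ n := by
    have := Equiv.Perm.sum_cycleType_le σ
    simpa using this
  have ha2 : 0 < a := by have := Equiv.Perm.two_le_of_mem_cycleType ha; omega
  have hb2 : 0 < b := by have := Equiv.Perm.two_le_of_mem_cycleType hb; omega
  by_cases hab : a = b
  · subst hab
    have hcop : Nat.Coprime p q := (Nat.coprime_primes hp hq).mpr hpq
    have h1 : p * q ∣ a := hcop.mul_dvd_of_dvd_of_dvd hpa hqb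
    have h2 : p * q ≤ a := Nat.le_of_dvd ha2 h1
    have h3 : a ≤ σ.cycleType.sum := Multiset.single_le_sum (fun _ _ => Nat.zero_le _) a ha
    have h4 : p + q ≤ p * q := by
      have h2p := hp.two_le
      have h2q := hq.two_le
      nlinarith
    omega
  · have h1 := add_le_sum_of_mem_of_ne ha hb hab
    have h2 : p ≤ a := Nat.le_of_dvd ha2 hpa
    have h3 : q ≤ b := Nat.le_of_dvd hb2 hqb
    omega

/-- The alternating group of degree `n` has no element of order `p * q` for distinct primes with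
`n < p + q`. -/
theorem orderOf_alt_ne_mul (n p q : ℕ) (hp : p.Prime) (hq : q.Prime) (hpq : p ≠ q)
    (hn : n < p + q) (σ : ↥(alternatingGroup (Fin n))) : orderOf σ ≠ p * q := by
  rw [← Subgroup.orderOf_coe]
  exact orderOf_perm_ne_mul n p q hp hq hpq hn _

/-- For a prime `p` with `p ≤ n < 2p` and `3 ≤ p`, `p ^ 2` does not divide `n!`. -/
theorem not_sq_dvd_factorial (n p : ℕ) (hp : p.Prime) (h3 : 3 ≤ p) (hpn : p ≤ n)
    (hn : n < 2 * p) : ¬ p ^ 2 ∣ n.factorial := by
  have hlog : Nat.log p n < 2 := by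
    apply Nat.log_lt_of_lt_pow (by omega)
    nlinarith
  rw [hp.pow_dvd_factorial_iff hlog]
  have : Finset.Ico 1 2 = {1} := by decide
  rw [this, Finset.sum_singleton, pow_one]
  have : n / p = 1 := by
    apply Nat.div_eq_of_lt_le
    · omega
    · omega
  omega

/-- **Core argument.** A finite solvable group with the spectrum of `A_n` cannot have order
`p ^ a * q ^ b * r` (`r` prime to `p q`, `n < p + q`) if the arithmetic forces both Sylow subgroups of
a Hall `{p, q}`-subgroup to be normal. -/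
theorem core {G : Type u} [Group G] [Finite G] [Group.IsSolvable G] (n : ℕ)
    (hspec : Set.range (orderOf : G → ℕ) =
      Set.range (orderOf : ↥(alternatingGroup (Fin n)) → ℕ))
    (p q a b r : ℕ) (hp : p.Prime) (hq : q.Prime) (hpq : p ≠ q) (hn : n < p + q)
    (ha : 0 < a) (hb : 0 < b)
    (hG : Nat.card G = (p ^ a * q ^ b) * r) (hc : (p ^ a * q ^ b).Coprime r)
    (hdp : ∀ d, d ∣ q ^ b → d % p = 1 → d = 1) (hdq : ∀ d, d ∣ p ^ a → d % q = 1 → d = 1) :
    False := by
  have : Fact p.Prime := ⟨hp⟩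
  have : Fact q.Prime := ⟨hq⟩
  obtain ⟨H, hH⟩ := exists_hall (G := G) _ _ hG hc
  have hP : Nat.card (Sylow p H) = 1 := card_sylow_eq_one p a (q ^ b) hH hdp
  have hQ : Nat.card (Sylow q H) = 1 :=
    card_sylow_eq_one q b (p ^ a) (by rw [hH, mul_comm]) hdq
  have hpH : p ∣ Nat.card H := by
    rw [hH]; exact (dvd_pow_self p ha.ne').mul_right _
  have hqH : q ∣ Nat.card H := by
    rw [hH]; exact (dvd_pow_self q hb.ne').mul_left _
  obtain ⟨h, hh⟩ := exists_orderOf_mul p q hpq hpH hqH hP hQ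
  have hmem : p * q ∈ Set.range (orderOf : G → ℕ) :=
    ⟨(h : G), by rw [Subgroup.orderOf_coe, hh]⟩
  rw [hspec] at hmem
  obtain ⟨σ, hσ⟩ := hmem
  exact orderOf_alt_ne_mul n p q hp hq hpq hn σ hσ

/-- The generic case of `core`: two primes `p < q` in `(n/2, n]`. -/
theorem core_two_primes {G : Type u} [Group G] [Finite G] [Group.IsSolvable G] (n : ℕ)
    (hcard : 2 * Nat.card G = n.factorial)
    (hspec : Set.range (orderOf : G → ℕ) =
      Set.range (orderOf : ↥(alternatingGroup (Fin n)) → ℕ))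
    (p q : ℕ) (hp : p.Prime) (hq : q.Prime) (h3 : 3 ≤ p) (hpq : p < q) (hqn : q ≤ n)
    (hnp : n < 2 * p) : False := by
  have hpodd : p % 2 = 1 := by
    rcases hp.eq_two_or_odd with h | h
    · omega
    · exact h
  have hqodd : q % 2 = 1 := by
    rcases hq.eq_two_or_odd with h | h
    · omega
    · exact h
  have hcop2 : ∀ s : ℕ, s.Prime → s % 2 = 1 → Nat.Coprime s 2 := by
    intro s hs hs2
    rw [Nat.coprime_comm, Nat.coprime_primes Nat.prime_two hs]
    omega
  have hdvd : ∀ s : ℕ, s.Prime → s % 2 = 1 → s ≤ n → s ∣ Nat.card G := by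
    intro s hs hs2 hsn
    have h1 : s ∣ 2 * Nat.card G := hcard ▸ (hs.dvd_factorial.mpr hsn)
    exact (hcop2 s hs hs2).dvd_of_dvd_mul_left h1
  have hnsq : ∀ s : ℕ, s.Prime → 3 ≤ s → s ≤ n → n < 2 * s → ¬ s ^ 2 ∣ Nat.card G := by
    intro s hs hs3 hsn hns h
    exact not_sq_dvd_factorial n s hs hs3 hsn hns (hcard ▸ h.mul_left 2)
  have hcoppq : Nat.Coprime p q := (Nat.coprime_primes hp hq).mpr hpq.ne
  have hpqG : p * q ∣ Nat.card G :=
    hcoppq.mul_dvd_of_dvd_of_dvd (hdvd p hp hpodd (by omega)) (hdvd q hq hqodd hqn)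
  obtain ⟨r, hr⟩ := hpqG
  have hpr : ¬ p ∣ r := by
    rintro ⟨t, rfl⟩
    apply hnsq p hp h3 (by omega) hnp
    rw [hr]
    exact ⟨q * t, by ring⟩
  have hqr : ¬ q ∣ r := by
    rintro ⟨t, rfl⟩
    apply hnsq q hq (by omega) hqn (by omega)
    rw [hr]
    exact ⟨p * t, by ring⟩
  have hc : (p ^ 1 * q ^ 1).Coprime r := by
    rw [pow_one, pow_one]
    exact Nat.Coprime.mul_left ((Nat.Prime.coprime_iff_not_dvd hp).mpr hpr)
      ((Nat.Prime.coprime_iff_not_dvd hq).mpr hqr)
  refine core n hspec p q 1 1 r hp hq hpq.ne (by omega) one_pos one_pos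
    (by rw [pow_one, pow_one]; exact hr) hc ?_ ?_
  · intro d hd h1
    rw [pow_one] at hd
    rcases (Nat.dvd_prime hq).mp hd with h | h
    · exact h
    · exfalso
      subst h
      have h2 : d % p = d - p := by
        rw [Nat.mod_eq_sub_mod (by omega), Nat.mod_eq_of_lt (by omega)]
      omega
  · intro d hd h1
    rw [pow_one] at hd
    rcases (Nat.dvd_prime hp).mp hd with h | h
    · exact h
    · exfalso
      subst h
      rw [Nat.mod_eq_of_lt hpq] at h1
      omega

/-- An odd prime `s ≤ n` divides `n!/2`. -/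
theorem prime_dvd_card {G : Type*} [Group G] (n : ℕ) (hcard : 2 * Nat.card G = n.factorial)
    (s : ℕ) (hs : s.Prime) (h3 : 3 ≤ s) (hsn : s ≤ n) : s ∣ Nat.card G := by
  have hs2 : s % 2 = 1 := by
    rcases hs.eq_two_or_odd with h | h
    · omega
    · exact h
  have hcop : Nat.Coprime s 2 := by
    rw [Nat.coprime_comm, Nat.coprime_primes Nat.prime_two hs]
    omega
  have h1 : s ∣ 2 * Nat.card G := hcard ▸ (hs.dvd_factorial.mpr hsn)
  exact hcop.dvd_of_dvd_mul_left h1

/-- A prime `s` with `s ≤ n < 2 s`, `3 ≤ s`, divides `n!/2` only once. -/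
theorem not_sq_dvd_card {G : Type*} [Group G] (n : ℕ) (hcard : 2 * Nat.card G = n.factorial)
    (s : ℕ) (hs : s.Prime) (h3 : 3 ≤ s) (hsn : s ≤ n) (hns : n < 2 * s) :
    ¬ s ^ 2 ∣ Nat.card G := fun h =>
  not_sq_dvd_factorial n s hs h3 hsn hns (hcard ▸ h.mul_left 2)

/-- For odd primes `p, q` in `(n/2, n]`, `p ∤ q - 1`. -/
theorem not_dvd_pred (n p q : ℕ) (hp : p.Prime) (hq : q.Prime) (h3p : 3 ≤ p) (h3q : 3 ≤ q)
    (hqn : q ≤ n) (hnp : n < 2 * p) : ¬ p ∣ q - 1 := by
  rintro ⟨k, hk⟩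
  have hp2 : p % 2 = 1 := by
    rcases hp.eq_two_or_odd with h | h
    · omega
    · exact h
  have hq2 : q % 2 = 1 := by
    rcases hq.eq_two_or_odd with h | h
    · omega
    · exact h
  rcases k with _ | _ | k
  · omega
  · omega
  · have : 2 * p ≤ p * (k + 1 + 1) := by nlinarith
    omega

/-- The group `G` with the spectrum of `A_n` has no element of order `p q` when `n < p + q`. -/
theorem no_orderOf_mul_of_spec {G : Type*} [Group G] (n : ℕ)
    (hspec : Set.range (orderOf : G → ℕ) =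
      Set.range (orderOf : ↥(alternatingGroup (Fin n)) → ℕ))
    (p q : ℕ) (hp : p.Prime) (hq : q.Prime) (hpq : p ≠ q) (hn : n < p + q) (g : G) :
    orderOf g ≠ p * q := by
  intro h
  have hmem : p * q ∈ Set.range (orderOf : G → ℕ) := ⟨g, h⟩
  rw [hspec] at hmem
  obtain ⟨σ, hσ⟩ := hmem
  exact orderOf_alt_ne_mul n p q hp hq hpq hn σ hσ

end Cfsg.Agent.Lib.Helper64.AltSpec
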