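import Mathlib
import Cfsg.Agent.Lib.Helper01.BGNarrow

/-!
# K-1383-F (keystone 138307, architect helper78): a `p`-group `P` (`p` odd) with an element `y` of
order `p` whose centralizer in `P` has `p`-rank at most `2` is narrow
-/

set_option autoImplicit false

namespace Cfsg.Agent.Lib.Helper64.BG1383

open Cfsg

/-- the subgroup `{a ^ i * z ^ j}` generated by `a` and a central element `z` -/
def pairSub {R : Type*} [Group R] (a z : R) (hz : z ∈ Subgroup.center R) : Subgroup R where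
  carrier := {g | ∃ i j : ℤ, g = a ^ i * z ^ j}
  one_mem' := ⟨0, 0, by simp⟩
  mul_mem' := by
    rintro _ _ ⟨i, j, rfl⟩ ⟨k, l, rfl⟩
    refine ⟨i + k, j + l, ?_⟩
    have hc : ∀ (n : ℤ) (g : R), z ^ n * g = g * z ^ n := fun n g =>
      (Subgroup.mem_center_iff.mp ((Subgroup.center R).zpow_mem hz n) g).symm
    rw [zpow_add, zpow_add, mul_assoc, ← mul_assoc (z ^ j), hc j (a ^ k), mul_assoc, mul_assoc]
  inv_mem' := by
    rintro _ ⟨i, j, rfl⟩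
    refine ⟨-i, -j, ?_⟩
    have hc : ∀ (n : ℤ) (g : R), z ^ n * g = g * z ^ n := fun n g =>
      (Subgroup.mem_center_iff.mp ((Subgroup.center R).zpow_mem hz n) g).symm
    rw [mul_inv_rev, ← zpow_neg, ← zpow_neg, hc]

theorem isNarrow_of_centralizer {G : Type*} [Group G] [Finite G] (p : ℕ) [Fact p.Prime] (hp : p ≠ 2)
    (P : Subgroup G) (hP : IsPGroup p P) (y : G) (hy : y ∈ P) (hyp : orderOf y = p)
    (hr : ∀ B : Subgroup G, B ≤ P ⊓ Subgroup.centralizer ({y} : Set G) →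
      IsElementaryAbelian p B → Nat.card B ≤ p ^ 2) :
    IsNarrow p ↥P := by
  have hpp : p.Prime := Fact.out
  by_cases h2 : PRankLE p 2 ↥P
  · exact Or.inl h2
  -- the bound for elementary abelian subgroups commuting with `y`
  have bound : ∀ A : Subgroup ↥P, IsElementaryAbelian p A →
      (∀ a ∈ A, a * (⟨y, hy⟩ : ↥P) = ⟨y, hy⟩ * a) → Nat.card A ≤ p ^ 2 := by
    intro A hA hc
    have hcard : Nat.card (A.map P.subtype) = Nat.card A :=
      Subgroup.card_map_of_injective (Subgroup.subtype_injective _)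
    rw [← hcard]
    apply hr
    · intro b hb
      obtain ⟨a, ha, rfl⟩ := hb
      refine ⟨a.2, ?_⟩
      show (a : G) ∈ Subgroup.centralizer ({y} : Set G)
      rw [Subgroup.mem_centralizer_iff]
      intro h hh
      rw [Set.mem_singleton_iff] at hh
      subst hh
      have := congrArg Subtype.val (hc a ha)
      exact this.symm
    · have : IsMulCommutative A := hA.1
      refine ⟨Subgroup.map_isMulCommutative A _, ?_⟩
      rintro _ ⟨a, ha, rfl⟩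
      have := hA.2 a ha
      show ((a : G)) ^ p = 1
      have h3 := congrArg Subtype.val this
      simpa using h3
  -- `y` is not central
  have hync : (⟨y, hy⟩ : ↥P) ∉ Subgroup.center ↥P := by
    intro hcen
    apply h2
    intro A hAc hAe
    exact bound A ⟨hAc, hAe⟩ fun a _ => Subgroup.mem_center_iff.mp hcen a
  have hy1 : y ≠ 1 := by
    intro h
    rw [h, orderOf_one] at hyp
    exact hpp.ne_one hyp.symm
  have hnt : Nontrivial ↥P := ⟨⟨⟨y, hy⟩, 1, fun h => hy1 (congrArg Subtype.val h)⟩⟩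
  have hcn : Nontrivial (Subgroup.center ↥P) := hP.center_nontrivial
  have hcp : IsPGroup p (Subgroup.center ↥P) := hP.to_subgroup _
  have hdvd : p ∣ Nat.card (Subgroup.center ↥P) := by
    rcases hcp.card_eq_or_dvd with h | h
    · exact absurd h (Finite.one_lt_card_iff_nontrivial.mpr hcn).ne'
    · exact h
  obtain ⟨x, hx⟩ := exists_prime_orderOf_dvd_card' (G := Subgroup.center ↥P) p hdvd
  have hzc : (x : ↥P) ∈ Subgroup.center ↥P := x.2
  have hzo : orderOf (x : ↥P) = p := by rw [Subgroup.orderOf_coe]; exact hx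
  have hyo : orderOf (⟨y, hy⟩ : ↥P) = p := by rw [← Subgroup.orderOf_coe]; exact hyp
  have hzp : (x : ↥P) ^ p = 1 := by rw [← hzo]; exact pow_orderOf_eq_one _
  have hyp' : (⟨y, hy⟩ : ↥P) ^ p = 1 := by rw [← hyo]; exact pow_orderOf_eq_one _
  have hcz : ∀ (n : ℤ) (g : ↥P), (x : ↥P) ^ n * g = g * (x : ↥P) ^ n := fun n g =>
    (Subgroup.mem_center_iff.mp ((Subgroup.center ↥P).zpow_mem hzc n) g).symm
  -- `E = ⟨y, z⟩`
  have hyE : (⟨y, hy⟩ : ↥P) ∈ pairSub (⟨y, hy⟩ : ↥P) (x : ↥P) hzc := ⟨1, 0, by simp⟩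
  have hzE : (x : ↥P) ∈ pairSub (⟨y, hy⟩ : ↥P) (x : ↥P) hzc := ⟨0, 1, by simp⟩
  have hEcomm : ∀ g ∈ pairSub (⟨y, hy⟩ : ↥P) (x : ↥P) hzc,
      ∀ h ∈ pairSub (⟨y, hy⟩ : ↥P) (x : ↥P) hzc, g * h = h * g := by
    rintro _ ⟨i, j, rfl⟩ _ ⟨k, l, rfl⟩
    have h1 : (⟨y, hy⟩ : ↥P) ^ i * (⟨y, hy⟩ : ↥P) ^ k = (⟨y, hy⟩ : ↥P) ^ k * (⟨y, hy⟩ : ↥P) ^ i := by
      rw [← zpow_add, ← zpow_add, add_comm]
    calc (⟨y, hy⟩ : ↥P) ^ i * (x : ↥P) ^ j * ((⟨y, hy⟩ : ↥P) ^ k * (x : ↥P) ^ l)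
        = (⟨y, hy⟩ : ↥P) ^ i * ((x : ↥P) ^ j * ((⟨y, hy⟩ : ↥P) ^ k * (x : ↥P) ^ l)) := mul_assoc _ _ _
      _ = (⟨y, hy⟩ : ↥P) ^ i * (((⟨y, hy⟩ : ↥P) ^ k * (x : ↥P) ^ l) * (x : ↥P) ^ j) := by rw [hcz j]
      _ = ((⟨y, hy⟩ : ↥P) ^ i * (⟨y, hy⟩ : ↥P) ^ k) * ((x : ↥P) ^ l * (x : ↥P) ^ j) := by
          simp only [mul_assoc]
      _ = ((⟨y, hy⟩ : ↥P) ^ k * (⟨y, hy⟩ : ↥P) ^ i) * ((x : ↥P) ^ l * (x : ↥P) ^ j) := by rw [h1]
      _ = (⟨y, hy⟩ : ↥P) ^ k * ((⟨y, hy⟩ : ↥P) ^ i * (x : ↥P) ^ l) * (x : ↥P) ^ j := by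
          simp only [mul_assoc]
      _ = (⟨y, hy⟩ : ↥P) ^ k * ((x : ↥P) ^ l * (⟨y, hy⟩ : ↥P) ^ i) * (x : ↥P) ^ j := by
          rw [← hcz l]
      _ = (⟨y, hy⟩ : ↥P) ^ k * (x : ↥P) ^ l * ((⟨y, hy⟩ : ↥P) ^ i * (x : ↥P) ^ j) := by
          simp only [mul_assoc]
  have hEea : IsElementaryAbelian p (pairSub (⟨y, hy⟩ : ↥P) (x : ↥P) hzc) := by
    refine ⟨isMulCommutative_iff.mpr ?_, ?_⟩
    · rintro ⟨g, hg⟩ ⟨h, hh⟩
      exact Subtype.ext (hEcomm g hg h hh)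
    · rintro _ ⟨i, j, rfl⟩
      have hcomm : Commute ((⟨y, hy⟩ : ↥P) ^ i) ((x : ↥P) ^ j) := (hcz j _).symm
      rw [hcomm.mul_pow, ← zpow_natCast, ← zpow_mul, mul_comm i, zpow_mul, zpow_natCast, hyp',
        one_zpow, one_mul, ← zpow_natCast, ← zpow_mul, mul_comm j, zpow_mul, zpow_natCast, hzp,
        one_zpow]
  have hEle : Nat.card (pairSub (⟨y, hy⟩ : ↥P) (x : ↥P) hzc) ≤ p ^ 2 :=
    bound _ hEea fun a ha => hEcomm a ha _ hyE
  have hzle : Subgroup.zpowers (x : ↥P) ≤ pairSub (⟨y, hy⟩ : ↥P) (x : ↥P) hzc :=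
    Subgroup.zpowers_le.mpr hzE
  have hzcard : Nat.card (Subgroup.zpowers (x : ↥P)) = p := by rw [Nat.card_zpowers, hzo]
  have hEgt : p < Nat.card (pairSub (⟨y, hy⟩ : ↥P) (x : ↥P) hzc) := by
    by_contra hle
    rw [not_lt] at hle
    have heq := Subgroup.eq_of_le_of_card_ge hzle (by rw [hzcard]; exact hle)
    have : (⟨y, hy⟩ : ↥P) ∈ Subgroup.zpowers (x : ↥P) := by rw [heq]; exact hyE
    exact hync ((Subgroup.zpowers_le.mpr hzc) this)
  have hEcard : Nat.card (pairSub (⟨y, hy⟩ : ↥P) (x : ↥P) hzc) = p ^ 2 := by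
    obtain ⟨k, hk⟩ := IsPGroup.iff_card.mp (hP.to_subgroup (pairSub (⟨y, hy⟩ : ↥P) (x : ↥P) hzc))
    rw [hk] at hEle hEgt ⊢
    have h1 : k ≤ 2 := (Nat.pow_le_pow_iff_right hpp.one_lt).mp hEle
    have h2 : 1 < k := by
      have : p ^ 1 < p ^ k := by rwa [pow_one]
      exact (Nat.pow_lt_pow_iff_right hpp.one_lt).mp this
    have : k = 2 := by omega
    rw [this]
  refine Cfsg.Agent.Lib.Helper01.BGNarrow.isNarrow_of_maximal p hp hP h2 _ hEea hEcard ?_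
  intro B hB hEB
  have hBle : Nat.card B ≤ p ^ 2 := by
    have : IsMulCommutative B := hB.1
    exact bound B hB fun a ha => setLike_mul_comm ha (hEB hyE)
  exact (Subgroup.eq_of_le_of_card_ge hEB (by rw [hEcard]; exact hBle)).symm

end Cfsg.Agent.Lib.Helper64.BG1383
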