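import Mathlib
import Cfsg.Agent.S1353
import Cfsg.Agent.S0033
import Cfsg.Agent.Lib.Helper15.BG103C

/-!
# K-147P BG-4 (keystone 147207, architect helper2): in a standard factorisation `M = K U M_σ` with `K ≠ 1`
the subgroup `U` is nilpotent (Thompson)
-/

set_option autoImplicit false

namespace Cfsg.Agent.Lib.Helper64.BG147P

open Cfsg
open scoped commutatorElement

variable {G : Type*} [Group G] [Finite G]

theorem nilpotent_of_sigmaDecomposition (hG : IsMinSimpleOddOrder G) {M K U : Subgroup G}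
    (hM : IsCoatom M) (hKU : IsSigmaDecomposition M K U) (hK1 : K ≠ ⊥) : Group.IsNilpotent U := by
  have hKcard : Nat.card K ≠ 1 := fun h => hK1 ((Subgroup.eq_bot_iff_card K).mpr h)
  obtain ⟨p, hp, hpK⟩ := Nat.exists_prime_and_dvd hKcard
  have : Fact p.Prime := ⟨hp⟩
  obtain ⟨k, hk⟩ := exists_prime_orderOf_dvd_card' (G := K) p hpK
  have hkG : orderOf (k : G) = p := by rw [Subgroup.orderOf_coe]; exact hk
  have hk1 : (k : G) ≠ 1 := by
    intro h
    rw [h, orderOf_one] at hkG
    exact hp.ne_one hkG.symm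
  have hkn : (k : G) ∈ Subgroup.normalizer (U : Set G) := hKU.normal k.2
  have hfree := Cfsg.Agent.S1353.result hG M hM K U hKU (k : G) k.2 hk1
  have hfpf : MonoidHom.FixedPointFree
      ((Cfsg.Agent.Lib.Helper15.BG103.cAut U (k : G) hkn : U ≃* U) : U →* U) := by
    intro y hy
    have h1 : ((Cfsg.Agent.Lib.Helper15.BG103.cAut U (k : G) hkn y : U) : G) = y :=
      congrArg Subtype.val hy
    rw [Cfsg.Agent.Lib.Helper15.BG103.cAut_apply] at h1
    have hmem : (y : G) ∈ U ⊓ Subgroup.centralizer ({(k : G)} : Set G) := by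
      refine Subgroup.mem_inf.mpr ⟨y.2, ?_⟩
      rw [Subgroup.mem_centralizer_iff]
      intro x hx
      rw [Set.mem_singleton_iff] at hx
      subst hx
      calc (k : G) * (y : G) = (k : G) * (y : G) * (k : G)⁻¹ * (k : G) := by group
        _ = (y : G) * (k : G) := by rw [h1]
    rw [hfree, Subgroup.mem_bot] at hmem
    exact Subtype.ext hmem
  have hdvd : orderOf (Cfsg.Agent.Lib.Helper15.BG103.cAut U (k : G) hkn) ∣ p := by
    rw [← hkG]
    exact Cfsg.Agent.Lib.Helper15.BG103.orderOf_cAut_dvd _ _ _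
  rcases (Nat.dvd_prime hp).mp hdvd with h1 | h1
  · have hφ1 : Cfsg.Agent.Lib.Helper15.BG103.cAut U (k : G) hkn = 1 := orderOf_eq_one_iff.mp h1
    have : Subsingleton U := by
      refine ⟨fun a b => ?_⟩
      have ha := hfpf a (by rw [hφ1]; rfl)
      have hb := hfpf b (by rw [hφ1]; rfl)
      rw [ha, hb]
    infer_instance
  · exact Cfsg.Agent.S0033.result _ hfpf p hp h1

end Cfsg.Agent.Lib.Helper64.BG147P
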