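import Mathlib
import Cfsg.Agent.S1432
import Cfsg.Agent.S1436
import Cfsg.Agent.Lib.Helper11.BG144Glue
import Cfsg.Agent.Lib.Helper81.BG144R
import Cfsg.Agent.Lib.Helper60.BG144F
import Cfsg.Agent.Lib.Helper14.BG1435P7b
import Cfsg.Agent.Lib.Helper64.BG1363H
import Cfsg.Agent.Lib.Helper71.BG11a
import Cfsg.Prelude.Def_OddOrderChar

/-!
KEYSTONE 153711  K-1537-I  `coprime_supportR` (pack K-1537 = S1537, Peterfalvi (8.4); architect helper2; parallel hand).
`|R(a)|` is prime to `|C_M(b)|` for `a ∈ M_σ#`, `b ∈ M̂_σ - 1`.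
-/

set_option autoImplicit false

namespace Cfsg.Agent.Lib.Helper64.BG1537

open Cfsg Subgroup

variable {G : Type*} [Group G] [Finite G]

/-- with `κ(M) = τ₂(M) = ∅`: a non-identity element of `C_M(y)`, `y ∈ M_σ#`, has a prime divisor of its order in `σ(M)` -/
theorem exists_sigma_prime_of_empty (hG : IsMinSimpleOddOrder G) {M : Subgroup G} (hM : IsCoatom M)
    (hk : kappa M = ∅) (ht : tau2 M = ∅) {y : G} (hy : y ∈ sigmaCore M) (hy1 : y ≠ 1)
    {c : G} (hcM : c ∈ M) (hcy : y * c = c * y) (hc1 : c ≠ 1) :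
    ∃ p : ℕ, p.Prime ∧ p ∣ orderOf c ∧ p ∈ sigma M := by
  by_contra hno
  push Not at hno
  have hmem : c ∈ M ⊓ centralizer ({y} : Set G) := by
    refine Subgroup.mem_inf.mpr ⟨hcM, ?_⟩
    rw [mem_centralizer_iff]
    intro h hh
    rw [Set.mem_singleton_iff] at hh
    subst hh
    exact hcy
  have ho : orderOf c ≠ 1 := fun h => hc1 (orderOf_eq_one_iff.mp h)
  obtain ⟨p, hp, hpd⟩ := Nat.exists_prime_and_dvd ho
  rcases Cfsg.Agent.S1432.result hG M hM y hy hy1 c hmem hc1 (fun p hp hpd => hno p hp hpd) with h | h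
  · have : p ∈ kappa M := h.1 p hp hpd
    rw [hk] at this
    exact this
  · have : p ∈ tau2 M := h.1 p hp hpd
    rw [ht] at this
    exact this

/-- **L-I** `|R(a)|` is prime to `|C_M(b)|` for `a ∈ M_σ#`, `b ∈ M̂_σ - 1`. -/
theorem coprime_supportR (hG : IsMinSimpleOddOrder G) {M : Subgroup G} (hM : IsCoatom M)
    {a b : G} (ha : a ∈ sigmaCore M) (ha1 : a ≠ 1) (hb : b ∈ sigmaHat M) (hb1 : b ≠ 1) :
    Nat.Coprime (Nat.card (supportR M a)) (Nat.card ↥(M ⊓ centralizer ({b} : Set G))) := by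
  by_cases hc : centralizer ({a} : Set G) ≤ M
  · rw [Cfsg.Agent.Lib.Helper81.BG144.supportR_eq_bot M a hc]
    simp
  obtain ⟨N, hN⟩ := Cfsg.Agent.Lib.Helper11.BG144.hB_main hG M hM a ha ha1 hc
  rw [Cfsg.Agent.Lib.Helper81.BG144.supportR_eq (Cfsg.Agent.Lib.Helper11.BG144.hC_main hG) hN]
  by_contra hncop
  obtain ⟨q, hq, hq1, hq2⟩ := Nat.Prime.not_coprime_iff_dvd.mp hncop
  have : Fact q.Prime := ⟨hq⟩
  -- `q ∈ σ(N)` and `q ∣ |M|`
  have hqN : q ∈ sigma N := by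
    apply Cfsg.Agent.Lib.Helper71.BG11.sigmaCore_pi hG hN.coatom hq
    exact hq1.trans (Subgroup.card_dvd_of_le inf_le_left)
  have hqM : q ∣ Nat.card M := hq2.trans (Subgroup.card_dvd_of_le inf_le_left)
  obtain ⟨hk, ht⟩ := (Cfsg.Agent.S1436.result hG M hM a ha ha1 hc N hN.coatom hN.cent_le).1 ⟨q, hqN, hqM⟩
  -- an element `c ∈ C_M(b)` of order `q`
  obtain ⟨c', hc'⟩ := exists_prime_orderOf_dvd_card' q hq2
  have hco : orderOf (c' : G) = q := by rw [Subgroup.orderOf_coe]; exact hc'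
  have hcM : (c' : G) ∈ M := (Subgroup.mem_inf.mp c'.2).1
  have hcb : b * (c' : G) = (c' : G) * b := by
    have h2 := (Subgroup.mem_inf.mp c'.2).2
    rw [mem_centralizer_iff] at h2
    exact h2 b (Set.mem_singleton b)
  have hc1 : (c' : G) ≠ 1 := by
    intro h
    rw [h, orderOf_one] at hco
    exact hq.one_lt.ne hco
  -- `b ∈ M_σ`
  obtain ⟨hbM, y, hy, hy1, hby⟩ := hb
  have hbσ : b ∈ sigmaCore M := by
    obtain ⟨b₁, b₂, hb12, hb1z, hb2z, hb1o, hb2o⟩ :=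
      Cfsg.Agent.Lib.Helper64.BG1363.exists_decomp b (Nat.card (sigmaCore M))
    have hb2M : b₂ ∈ M := (zpowers_le.mpr hbM) hb2z
    have hb2y : y * b₂ = b₂ * y := by
      obtain ⟨k, hk'⟩ := Subgroup.mem_zpowers_iff.mp hb2z
      have hcomm : Commute b y := hby
      rw [← hk']
      exact ((hcomm.zpow_left k).eq).symm
    have hb21 : b₂ = 1 := by
      by_contra hne
      obtain ⟨p, hp, hpd, hpσ⟩ := exists_sigma_prime_of_empty hG hM hk ht hy hy1 hb2M hb2y hne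
      have hpdσ : p ∣ Nat.card (sigmaCore M) :=
        Cfsg.Agent.Lib.Helper14.BG1435.dvd_card_sigmaCore_of_mem_sigma hG hM hpσ
      have h1 : p ∣ Nat.gcd (orderOf b₂) (Nat.card (sigmaCore M)) := Nat.dvd_gcd hpd hpdσ
      rw [Nat.Coprime] at hb2o
      rw [hb2o] at h1
      exact hp.one_lt.ne' (Nat.dvd_one.mp h1)
    have hbb1 : b = b₁ := by rw [hb12, hb21, mul_one]
    apply Cfsg.Agent.Lib.Helper64.BG1363.mem_sigmaCore_of_orderOf hG hM hbM
    intro p hp hpd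
    rw [hbb1] at hpd
    exact hb1o p hp hpd
  -- `q ∈ σ(M)`
  obtain ⟨p, hp, hpd, hpσ⟩ := exists_sigma_prime_of_empty hG hM hk ht hbσ hb1 hcM hcb hc1
  rw [hco] at hpd
  have hpq : p = q := (Nat.prime_dvd_prime_iff_eq hp hq).mp hpd
  rw [hpq] at hpσ
  exact Cfsg.Agent.Lib.Helper60.BG144.sigma_disjoint_of_supp hG hM hN hpσ hqN

end Cfsg.Agent.Lib.Helper64.BG1537
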