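import Mathlib

set_option autoImplicit false

namespace Cfsg.Agent.Lib.Helper64.BQ

/-- LEAF L7 (keystone 391107, architect helper53). Conjugate lifts have conjugate images. -/
theorem map_conj_map {G : Type*} [Group G] (M : Subgroup G) [M.Normal] (A0 : Subgroup G) (g : G) :
    (A0.map (MulAut.conj g).toMonoidHom).map (QuotientGroup.mk' M) =
      (A0.map (QuotientGroup.mk' M)).map (MulAut.conj (QuotientGroup.mk' M g)).toMonoidHom := by
  rw [Subgroup.map_map, Subgroup.map_map]
  congr 1

end Cfsg.Agent.Lib.Helper64.BQ
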