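import Mathlib

/-!
KEYSTONE 227201  K-CP-A  `exists_linearIndependent_mulVec` (mini-pack K-CP = S2272, architect helper73).
A non-scalar square matrix moves some line: there is `v` with `v, M v` linearly independent.
-/

set_option autoImplicit false

namespace Cfsg.Agent.Lib.Helper64.CP

open Matrix

variable {F : Type*} [Field F] {d : ℕ}

/-- if every vector is an eigenvector, the matrix is scalar -/
theorem eq_scalar_of_forall_eigen (M : Matrix (Fin d) (Fin d) F)
    (heig : ∀ v : Fin d → F, ∃ c : F, M *ᵥ v = c • v) :
    ∃ r : F, M = Matrix.scalar (Fin d) r := by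
  choose r hr using fun i : Fin d => heig (Pi.single i 1)
  -- entries
  have hentry : ∀ i j : Fin d, M i j = if i = j then r j else 0 := by
    intro i j
    have h := congrFun (hr j) i
    rw [Matrix.mulVec_single_one] at h
    simp only [Matrix.col_apply, Pi.smul_apply, smul_eq_mul, Pi.single_apply] at h
    rw [h]
    split_ifs <;> simp
  -- all eigenvalues agree
  have hreq : ∀ i j : Fin d, r i = r j := by
    intro i j
    by_cases hij : i = j
    · rw [hij]
    obtain ⟨c, hc⟩ := heig (Pi.single i 1 + Pi.single j 1)
    rw [Matrix.mulVec_add, hr i, hr j] at hc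
    have hi := congrFun hc i
    have hj := congrFun hc j
    have hji : j ≠ i := fun h => hij h.symm
    simp [hij, hji] at hi hj
    rw [hi, hj]
  rcases Nat.eq_zero_or_pos d with hd | hd
  · subst hd
    exact ⟨0, Subsingleton.elim _ _⟩
  · refine ⟨r ⟨0, hd⟩, ?_⟩
    ext i j
    rw [hentry i j, Matrix.scalar_apply, Matrix.diagonal_apply, hreq j ⟨0, hd⟩]

/-- KEYSTONE 227201  K-CP-A.  A non-scalar matrix `M` has `v` with `v, M v` linearly independent. -/
theorem exists_linearIndependent_mulVec (M : Matrix (Fin d) (Fin d) F)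
    (hM : ∀ r : F, M ≠ Matrix.scalar (Fin d) r) :
    ∃ v : Fin d → F, LinearIndependent F ![v, M *ᵥ v] := by
  by_contra hcon
  push Not at hcon
  obtain ⟨r, hr⟩ := eq_scalar_of_forall_eigen M (by
    intro v
    by_cases hv : v = 0
    · exact ⟨0, by rw [hv]; simp⟩
    · have h := hcon v
      rw [LinearIndependent.pair_iff' hv] at h
      push Not at h
      obtain ⟨a, ha⟩ := h
      exact ⟨a, ha.symm⟩)
  exact hM r hr

end Cfsg.Agent.Lib.Helper64.CP
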