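import Mathlib

/-!
KEYSTONE 227202  K-CP-B  `exists_sl_mulVec_single` (mini-pack K-CP = S2272, architect helper73; parallel hand).
`SL_d(F)`, `d ≥ 3`, sends two given standard basis vectors to any linearly independent pair.
-/

set_option autoImplicit false

namespace Cfsg.Agent.Lib.Helper64.CP

open Matrix

/-- an equivalence can be adjusted to take prescribed values at two points -/
theorem exists_equiv_two {α β : Type*} (e : α ≃ β) {i j : α} (hij : i ≠ j) {a b : β} (hab : a ≠ b) :
    ∃ e' : α ≃ β, e' i = a ∧ e' j = b := by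
  classical
  let e1 : α ≃ β := e.trans (Equiv.swap (e i) a)
  have h1 : e1 i = a := by simp [e1]
  have h1j : e1 j ≠ a := by
    intro h
    rw [← h1] at h
    exact hij (e1.injective h).symm
  let e2 : α ≃ β := e1.trans (Equiv.swap (e1 j) b)
  refine ⟨e2, ?_, ?_⟩
  · simp only [e2, Equiv.trans_apply]
    rw [show e1 i = a from h1]
    exact Equiv.swap_apply_of_ne_of_ne (Ne.symm h1j) hab
  · simp [e2]

variable {F : Type*} [Field F] {d : ℕ}

/-- a third index -/
theorem exists_third (hd : 3 ≤ d) (i j : Fin d) : ∃ k : Fin d, k ≠ i ∧ k ≠ j := by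
  by_contra hno
  push Not at hno
  have hsub : (Finset.univ : Finset (Fin d)) ⊆ {i, j} := by
    intro k _
    by_cases hk : k = i
    · simp [hk]
    · simp [hno k hk]
  have h1 : (Finset.univ : Finset (Fin d)).card ≤ 2 :=
    (Finset.card_le_card hsub).trans Finset.card_le_two
  rw [Finset.card_univ, Fintype.card_fin] at h1
  omega

/-- KEYSTONE 227202  K-CP-B. -/
theorem exists_sl_mulVec_single (hd : 3 ≤ d) (i j : Fin d) (hij : i ≠ j) (v w : Fin d → F)
    (h : LinearIndependent F ![v, w]) :
    ∃ P : SpecialLinearGroup (Fin d) F,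
      (P : Matrix (Fin d) (Fin d) F) *ᵥ Pi.single i 1 = v ∧
      (P : Matrix (Fin d) (Fin d) F) *ᵥ Pi.single j 1 = w := by
  classical
  have hs : LinearIndepOn F id (Set.range ![v, w]) := h.linearIndepOn_id
  let B := Module.Basis.extend hs
  have hvs : v ∈ Set.range ![v, w] := ⟨0, rfl⟩
  have hws : w ∈ Set.range ![v, w] := ⟨1, rfl⟩
  let v' : ↥(hs.extend (Set.subset_univ _)) := ⟨v, Module.Basis.subset_extend hs hvs⟩
  let w' : ↥(hs.extend (Set.subset_univ _)) := ⟨w, Module.Basis.subset_extend hs hws⟩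
  have hvw : v' ≠ w' := by
    intro hEq
    have h2 : v = w := congrArg Subtype.val hEq
    have h3 : (![v, w] : Fin 2 → (Fin d → F)) 0 = ![v, w] 1 := by simpa using h2
    exact absurd (h.injective h3) (by decide)
  let e0 : Fin d ≃ ↥(hs.extend (Set.subset_univ _)) := (Pi.basisFun F (Fin d)).indexEquiv B
  obtain ⟨e, hei, hej⟩ := exists_equiv_two e0 hij hvw
  let b' : Module.Basis (Fin d) F (Fin d → F) := B.reindex e.symm
  have hbi : b' i = v := by
    simp only [b', Module.Basis.reindex_apply, Equiv.symm_symm, hei, B, Module.Basis.coe_extend, v']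
  have hbj : b' j = w := by
    simp only [b', Module.Basis.reindex_apply, Equiv.symm_symm, hej, B, Module.Basis.coe_extend, w']
  obtain ⟨k, hki, hkj⟩ := exists_third hd i j
  let P0 : Matrix (Fin d) (Fin d) F := (Pi.basisFun F (Fin d)).toMatrix b'
  have hcol : ∀ c : Fin d, P0 *ᵥ Pi.single c 1 = b' c := by
    intro c
    rw [Matrix.mulVec_single_one]
    ext r
    simp [P0, Module.Basis.toMatrix_apply]
  have hdet : IsUnit P0.det := by
    have := (Pi.basisFun F (Fin d)).isUnit_det b'
    rwa [Module.Basis.det_apply] at this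
  let D : Matrix (Fin d) (Fin d) F := Matrix.diagonal (fun l => if l = k then (P0.det)⁻¹ else 1)
  have hD : D.det = (P0.det)⁻¹ := by
    simp only [D, Matrix.det_diagonal]
    rw [Finset.prod_ite_eq' Finset.univ k (fun _ => (P0.det)⁻¹)]
    simp
  have hDcol : ∀ c : Fin d, c ≠ k → D *ᵥ Pi.single c 1 = Pi.single c 1 := by
    intro c hc
    rw [Matrix.mulVec_single_one]
    ext r
    simp only [D, Matrix.col_apply, Matrix.diagonal_apply, Pi.single_apply]
    by_cases hrc : r = c
    · subst hrc; simp [hc]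
    · simp [hrc]
  refine ⟨⟨P0 * D, ?_⟩, ?_, ?_⟩
  · rw [Matrix.det_mul, hD, mul_inv_cancel₀ hdet.ne_zero]
  · show (P0 * D) *ᵥ Pi.single i 1 = v
    rw [← Matrix.mulVec_mulVec, hDcol i (Ne.symm hki), hcol i, hbi]
  · show (P0 * D) *ᵥ Pi.single j 1 = w
    rw [← Matrix.mulVec_mulVec, hDcol j (Ne.symm hkj), hcol j, hbj]

end Cfsg.Agent.Lib.Helper64.CP
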