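import Mathlib

set_option autoImplicit false
set_option linter.style.haveILetI false

namespace Cfsg.Agent.Lib.Helper64

open Polynomial

section CycField

variable {p : ℕ} [Fact p.Prime] {M : Type*} [AddCommGroup M] [Module (ZMod p) M] [Finite M]

/-- the minimal polynomial of an endomorphism without proper invariant subspaces is
irreducible -/
theorem minpoly_irreducible_of_irr [Nontrivial M] (f : Module.End (ZMod p) M)
    (hirr : ∀ W : Submodule (ZMod p) M, (∀ w ∈ W, f w ∈ W) → W = ⊥ ∨ W = ⊤) :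
    Irreducible (minpoly (ZMod p) f) := by
  have hint : IsIntegral (ZMod p) f := Algebra.IsIntegral.isIntegral f
  have hμ0 : minpoly (ZMod p) f ≠ 0 := minpoly.ne_zero hint
  have hcomm : ∀ a : (ZMod p)[X], aeval f a * f = f * aeval f a := by
    intro a
    have h1 : aeval f (a * X) = aeval f (X * a) := by rw [mul_comm]
    rwa [map_mul, map_mul, aeval_X] at h1
  have key : ∀ a b : (ZMod p)[X], minpoly (ZMod p) f = a * b → IsUnit a ∨ IsUnit b := by
    intro a b hab
    have h0 : aeval f a * aeval f b = 0 := by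
      rw [← map_mul, ← hab, minpoly.aeval]
    have hinv : ∀ w ∈ LinearMap.ker (aeval f a), f w ∈ LinearMap.ker (aeval f a) := by
      intro w hw
      rw [LinearMap.mem_ker] at hw ⊢
      have : (aeval f a * f) w = (f * aeval f a) w := by rw [hcomm]
      rw [Module.End.mul_apply, Module.End.mul_apply, hw, map_zero] at this
      exact this
    rcases hirr _ hinv with h | h
    · -- `aeval f a` injective, so `aeval f b = 0`
      left
      have hb : aeval f b = 0 := by
        apply LinearMap.ext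
        intro x
        have h1 : (aeval f a * aeval f b) x = 0 := by rw [h0]; rfl
        rw [Module.End.mul_apply] at h1
        have h2 : (aeval f b) x ∈ LinearMap.ker (aeval f a) := LinearMap.mem_ker.mpr h1
        rw [h] at h2
        simpa using h2
      obtain ⟨c, hc⟩ := minpoly.dvd (ZMod p) f hb
      have h3 : minpoly (ZMod p) f * 1 = minpoly (ZMod p) f * (a * c) := by
        conv_lhs => rw [mul_one, hab, hc]
        ring
      have h4 := mul_left_cancel₀ hμ0 h3
      exact IsUnit.of_mul_eq_one c h4.symm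
    · right
      have ha : aeval f a = 0 := LinearMap.ker_eq_top.mp h
      obtain ⟨c, hc⟩ := minpoly.dvd (ZMod p) f ha
      have h3 : minpoly (ZMod p) f * 1 = minpoly (ZMod p) f * (b * c) := by
        conv_lhs => rw [mul_one, hab, hc]
        ring
      have h4 := mul_left_cancel₀ hμ0 h3
      exact IsUnit.of_mul_eq_one c h4.symm
  rw [irreducible_iff]
  exact ⟨minpoly.not_isUnit (ZMod p) f, fun {a b} hab => key a b hab⟩

/-- An endomorphism `f` of a finite `ZMod p`-space `M` with `f ^ q = 1` and no proper invariant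
subspaces: (1) if `q ∣ p ^ i - 1` with `i > 0` then `dim M ≤ i`; (2) if `f` is conjugate to `f ^ s`
then `f ^ s` is a Frobenius power `f ^ (p ^ j)`. -/
theorem cyc_field [Nontrivial M] (f : Module.End (ZMod p) M) (q : ℕ) (hfq : f ^ q = 1)
    (hirr : ∀ W : Submodule (ZMod p) M, (∀ w ∈ W, f w ∈ W) → W = ⊥ ∨ W = ⊤)
    {d : ℕ} (hd : Nat.card M = p ^ d) :
    (∀ i, 0 < i → q ∣ p ^ i - 1 → d ≤ i) ∧
    (∀ (g : M ≃ₗ[ZMod p] M) (s : ℕ), g.toLinearMap ∘ₗ f ∘ₗ g.symm.toLinearMap = f ^ s →
      ∃ j, f ^ s = f ^ (p ^ j)) := by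
  classical
  have hp : p.Prime := Fact.out
  set μ := minpoly (ZMod p) f with hμ
  have hfact : Fact (Irreducible μ) := ⟨minpoly_irreducible_of_irr f hirr⟩
  -- the algebra map from `K = AdjoinRoot μ` to the endomorphism ring
  let φ : AdjoinRoot μ →ₐ[ZMod p] Module.End (ZMod p) M :=
    Ideal.Quotient.liftₐ (Ideal.span {μ}) (aeval f) (by
      intro a ha
      obtain ⟨c, rfl⟩ := Ideal.mem_span_singleton.mp ha
      rw [map_mul, hμ, minpoly.aeval, zero_mul])
  have hφmk : ∀ g : (ZMod p)[X], φ (AdjoinRoot.mk μ g) = aeval f g := fun g => rfl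
  have hφα : φ (AdjoinRoot.root μ) = f := by
    rw [AdjoinRoot.root, hφmk, aeval_X]
  have hφinj : Function.Injective φ := (φ : AdjoinRoot μ →+* Module.End (ZMod p) M).injective
  have hfinE : Finite (Module.End (ZMod p) M) :=
    Finite.of_injective (fun e : Module.End (ZMod p) M => (e : M → M)) DFunLike.coe_injective
  have hfinK : Finite (AdjoinRoot μ) := Finite.of_injective φ hφinj
  -- `K` has as many elements as `M`
  obtain ⟨v0, hv0⟩ := exists_ne (0 : M)
  have hcardK : Nat.card (AdjoinRoot μ) = p ^ d := by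
    rw [← hd]
    let ℓ : AdjoinRoot μ →ₗ[ZMod p] M :=
      { toFun := fun k => φ k v0
        map_add' := fun a b => by simp
        map_smul' := fun c a => by simp }
    have hℓ : ∀ k, ℓ k = φ k v0 := fun k => rfl
    have hinj : Function.Injective ℓ := by
      rw [← LinearMap.ker_eq_bot, LinearMap.ker_eq_bot']
      intro k hk
      by_contra hk0
      apply hv0
      have h1 : φ (k⁻¹ * k) v0 = v0 := by
        rw [inv_mul_cancel₀ hk0, map_one]; rfl
      rw [map_mul, Module.End.mul_apply] at h1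
      rw [hℓ] at hk
      rw [hk, map_zero] at h1
      exact h1.symm
    have hsurj : Function.Surjective ℓ := by
      rw [← LinearMap.range_eq_top]
      have hinv : ∀ w ∈ LinearMap.range ℓ, f w ∈ LinearMap.range ℓ := by
        rintro w ⟨k, rfl⟩
        refine ⟨AdjoinRoot.root μ * k, ?_⟩
        rw [hℓ, hℓ, map_mul, hφα, Module.End.mul_apply]
      rcases hirr _ hinv with h | h
      · exfalso
        apply hv0
        have : v0 ∈ LinearMap.range ℓ := ⟨1, by rw [hℓ, map_one]; rfl⟩
        rw [h] at this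
        simpa using this
      · exact h
    exact Nat.card_congr (Equiv.ofBijective ℓ ⟨hinj, hsurj⟩)
  have hfin : Module.finrank (ZMod p) (AdjoinRoot μ) = d := by
    have h1 := Module.natCard_eq_pow_finrank (K := ZMod p) (V := AdjoinRoot μ)
    rw [hcardK, Nat.card_zmod] at h1
    exact (Nat.pow_right_injective hp.two_le h1).symm
  -- the Frobenius endomorphism of `K`
  set Fr := FiniteField.frobeniusAlgHom (ZMod p) (AdjoinRoot μ) with hFr
  have hFrpow : ∀ (i : ℕ) (x : AdjoinRoot μ), (Fr ^ i) x = x ^ (p ^ i) := by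
    intro i x
    rw [AlgHom.coe_pow, hFr, FiniteField.coe_frobeniusAlgHom, pow_iterate, ZMod.card]
  have hord : orderOf Fr = d := by
    rw [hFr, FiniteField.orderOf_frobeniusAlgHom, hfin]
  have hαq : (AdjoinRoot.root μ) ^ q = 1 := by
    apply hφinj
    rw [map_pow, hφα, hfq, map_one]
  refine ⟨?_, ?_⟩
  · intro i hi hqi
    have h1 : (AdjoinRoot.root μ) ^ (p ^ i) = AdjoinRoot.root μ := by
      obtain ⟨c, hc⟩ := hqi
      have hpos : 1 ≤ p ^ i := Nat.one_le_pow _ _ hp.pos
      have h2 : p ^ i = q * c + 1 := by omega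
      rw [h2, pow_succ, pow_mul, hαq, one_pow, one_mul]
    have h2 : Fr ^ i = 1 := by
      apply AdjoinRoot.algHom_ext
      rw [hFrpow, h1]
      rfl
    have h3 := orderOf_dvd_of_pow_eq_one h2
    rw [hord] at h3
    exact Nat.le_of_dvd hi h3
  · intro g s hg
    have hσ : (g.conjAlgEquiv (ZMod p)) f = f ^ s := by
      rw [LinearEquiv.conjAlgEquiv_apply]; exact hg
    have h1 : aeval (f ^ s) μ = 0 := by
      rw [← hσ, aeval_algHom_apply, hμ, minpoly.aeval, map_zero]
    have h2 : aeval ((AdjoinRoot.root μ) ^ s) μ = 0 := by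
      apply hφinj
      rw [← aeval_algHom_apply, map_pow, hφα, h1, map_zero]
    let ψ : AdjoinRoot μ →ₐ[ZMod p] AdjoinRoot μ :=
      AdjoinRoot.liftAlgHom μ (Algebra.ofId (ZMod p) (AdjoinRoot μ)) ((AdjoinRoot.root μ) ^ s) (by
        rw [aeval_def] at h2
        exact h2)
    have hψ : ψ (AdjoinRoot.root μ) = (AdjoinRoot.root μ) ^ s := AdjoinRoot.liftAlgHom_root _ _ _ _
    obtain ⟨n, hn⟩ := (FiniteField.bijective_frobeniusAlgHom_pow (ZMod p) (AdjoinRoot μ)).2 ψ
    simp only at hn
    refine ⟨n.1, ?_⟩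
    have h3 : (AdjoinRoot.root μ) ^ s = (AdjoinRoot.root μ) ^ (p ^ n.1) := by
      rw [← hψ, ← hn, ← hFr, hFrpow]
    have h4 := congrArg φ h3
    rwa [map_pow, map_pow, hφα] at h4

/-- additive-map form of `cyc_field` -/
theorem add_field [Nontrivial M] (f : M →+ M) (q : ℕ) (hfq : ∀ x, (f^[q]) x = x)
    (hirr : ∀ W : AddSubgroup M, (∀ w ∈ W, f w ∈ W) → W = ⊥ ∨ W = ⊤)
    {d : ℕ} (hd : Nat.card M = p ^ d) :
    (∀ i, 0 < i → q ∣ p ^ i - 1 → d ≤ i) ∧
    (∀ (g g' : M →+ M) (s : ℕ), (∀ x, g (g' x) = x) → (∀ x, g' (g x) = x) →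
      (∀ x, g (f (g' x)) = (f^[s]) x) → ∃ j, ∀ x, (f^[s]) x = (f^[p ^ j]) x) := by
  set F : Module.End (ZMod p) M := f.toZModLinearMap p with hF
  have hFpow : ∀ (k : ℕ) (x : M), (F ^ k) x = (f^[k]) x := by
    intro k x
    rw [Module.End.pow_apply]
    rfl
  have hFq : F ^ q = 1 := by
    apply LinearMap.ext
    intro x
    rw [hFpow, hfq, Module.End.one_apply]
  have hirr' : ∀ W : Submodule (ZMod p) M, (∀ w ∈ W, F w ∈ W) → W = ⊥ ∨ W = ⊤ := by
    intro W hW
    rcases hirr W.toAddSubgroup (fun w hw => hW w hw) with h | h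
    · left
      rw [eq_bot_iff]
      intro x hx
      have : x ∈ W.toAddSubgroup := hx
      rw [h] at this
      exact this
    · right
      rw [eq_top_iff]
      intro x _
      have : x ∈ W.toAddSubgroup := by rw [h]; trivial
      exact this
  obtain ⟨h1, h2⟩ := cyc_field F q hFq hirr' hd
  refine ⟨h1, ?_⟩
  intro g g' s hgg' hg'g hconj
  let gL : M ≃ₗ[ZMod p] M :=
    { (g.toZModLinearMap p) with
      invFun := g'
      left_inv := hg'g
      right_inv := hgg' }
  have hgL : ∀ x, gL x = g x := fun x => rfl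
  have hgLs : ∀ x, gL.symm x = g' x := fun x => rfl
  have h3 : gL.toLinearMap ∘ₗ F ∘ₗ gL.symm.toLinearMap = F ^ s := by
    apply LinearMap.ext
    intro x
    rw [hFpow, ← hconj]
    rfl
  obtain ⟨j, hj⟩ := h2 gL s h3
  refine ⟨j, fun x => ?_⟩
  rw [← hFpow, ← hFpow, hj]

end CycField

/-- group form of `cyc_field`: `n` acts by conjugation on the elementary abelian `p`-group `V`
without proper invariant subgroups -/
theorem conj_field {G : Type*} [Group G] {p : ℕ} [Fact p.Prime] (V : Subgroup G) [Finite V]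
    (hVc : ∀ x ∈ V, ∀ y ∈ V, x * y = y * x) (hVp : ∀ x ∈ V, x ^ p = 1) (hV1 : V ≠ ⊥)
    {d : ℕ} (hd : Nat.card V = p ^ d)
    (n : G) (hn : n ∈ Subgroup.normalizer (V : Set G)) (q : ℕ) (hnq : n ^ q = 1)
    (hirr : ∀ W : Subgroup G, W ≤ V → (∀ w ∈ W, n * w * n⁻¹ ∈ W) → W = ⊥ ∨ W = V) :
    (∀ i, 0 < i → q ∣ p ^ i - 1 → d ≤ i) ∧
    (∀ (h : G) (s : ℕ), h ∈ Subgroup.normalizer (V : Set G) → h * n * h⁻¹ = n ^ s →
      ∃ j, ∀ v ∈ V, n ^ s * v * (n ^ s)⁻¹ = n ^ (p ^ j) * v * (n ^ (p ^ j))⁻¹) := by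
  classical
  letI : CommGroup V :=
    { (inferInstance : Group V) with
      mul_comm := fun a b => Subtype.ext (hVc a a.2 b b.2) }
  have hpx : ∀ x : Additive V, p • x = 0 := by
    intro x
    have : (Additive.toMul x) ^ p = 1 := Subtype.ext (by simpa using hVp _ (Additive.toMul x).2)
    exact congrArg Additive.ofMul this
  letI : Module (ZMod p) (Additive V) := AddCommGroup.zmodModule hpx
  haveI : Nontrivial (Additive V) := by
    have : Nontrivial V := (Subgroup.nontrivial_iff_ne_bot V).mpr hV1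
    exact Additive.ofMul.symm.nontrivial
  -- conjugation maps
  have hNmem : ∀ x : G, x ∈ Subgroup.normalizer (V : Set G) → ∀ v : V,
      x * (v : G) * x⁻¹ ∈ V := fun x hx v => (Subgroup.mem_normalizer_iff.mp hx v).mp v.2
  let cM : Subgroup.normalizer (V : Set G) → (V →* V) := fun x =>
    { toFun := fun v => ⟨(x : G) * v * (x : G)⁻¹, hNmem x x.2 v⟩
      map_one' := by ext; simp
      map_mul' := fun a b => by ext; simp }
  have hcM : ∀ (x : Subgroup.normalizer (V : Set G)) (v : V),
      ((cM x v : V) : G) = (x : G) * v * (x : G)⁻¹ := fun x v => rfl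
  let cA : Subgroup.normalizer (V : Set G) → (Additive V →+ Additive V) := fun x =>
    MonoidHom.toAdditive (cM x)
  have hcA : ∀ (x : Subgroup.normalizer (V : Set G)) (v : Additive V),
      cA x v = Additive.ofMul (cM x (Additive.toMul v)) := fun x v => rfl
  have hcAmul : ∀ (x y : Subgroup.normalizer (V : Set G)) (v : Additive V),
      cA (x * y) v = cA x (cA y v) := by
    intro x y v
    rw [hcA, hcA, hcA]
    congr 1
    ext
    simp [hcM, mul_assoc]
  have hcA1 : ∀ v : Additive V, cA 1 v = v := by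
    intro v
    rw [hcA]
    have : cM 1 (Additive.toMul v) = Additive.toMul v := by ext; simp [hcM]
    rw [this]; rfl
  have hcApow : ∀ (x : Subgroup.normalizer (V : Set G)) (k : ℕ) (v : Additive V),
      ((cA x)^[k]) v = cA (x ^ k) v := by
    intro x k v
    induction k with
    | zero => rw [Function.iterate_zero, id, pow_zero, hcA1]
    | succ k ih => rw [Function.iterate_succ_apply', ih, pow_succ', hcAmul]
  set nn : Subgroup.normalizer (V : Set G) := ⟨n, hn⟩ with hnn
  have hfq : ∀ x, ((cA nn)^[q]) x = x := by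
    intro x
    rw [hcApow]
    have : nn ^ q = 1 := Subtype.ext (by simpa using hnq)
    rw [this, hcA1]
  have hirr' : ∀ W : AddSubgroup (Additive V), (∀ w ∈ W, cA nn w ∈ W) → W = ⊥ ∨ W = ⊤ := by
    intro W hW
    let W' : Subgroup G :=
      { carrier := {x | ∃ hx : x ∈ V, Additive.ofMul (⟨x, hx⟩ : V) ∈ W}
        one_mem' := ⟨V.one_mem, W.zero_mem⟩
        mul_mem' := by
          rintro a b ⟨ha, haW⟩ ⟨hb, hbW⟩
          exact ⟨V.mul_mem ha hb, W.add_mem haW hbW⟩
        inv_mem' := by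
          rintro a ⟨ha, haW⟩
          exact ⟨V.inv_mem ha, W.neg_mem haW⟩ }
    have hW'mem : ∀ x, x ∈ W' ↔ ∃ hx : x ∈ V, Additive.ofMul (⟨x, hx⟩ : V) ∈ W := fun x => Iff.rfl
    have hW'V : W' ≤ V := fun x hx => hx.1
    have hW'inv : ∀ w ∈ W', n * w * n⁻¹ ∈ W' := by
      rintro w ⟨hw, hwW⟩
      exact ⟨hNmem n hn ⟨w, hw⟩, hW _ hwW⟩
    rcases hirr W' hW'V hW'inv with h | h
    · left
      rw [eq_bot_iff]
      intro x hx
      have h1 : ((Additive.toMul x : V) : G) ∈ W' := ⟨(Additive.toMul x).2, hx⟩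
      rw [h, Subgroup.mem_bot] at h1
      rw [AddSubgroup.mem_bot]
      have : Additive.toMul x = 1 := Subtype.ext h1
      exact congrArg Additive.ofMul this
    · right
      rw [eq_top_iff]
      intro x _
      have h1 : ((Additive.toMul x : V) : G) ∈ W' := by rw [h]; exact (Additive.toMul x).2
      obtain ⟨_, h2⟩ := h1
      exact h2
  have hd' : Nat.card (Additive V) = p ^ d := hd
  obtain ⟨h1, h2⟩ := add_field (cA nn) q hfq hirr' hd'
  refine ⟨h1, ?_⟩
  intro h s hh hconj
  have hh' : h⁻¹ ∈ Subgroup.normalizer (V : Set G) := Subgroup.inv_mem _ hh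
  obtain ⟨j, hj⟩ := h2 (cA ⟨h, hh⟩) (cA ⟨h⁻¹, hh'⟩) s
    (fun x => by
      rw [← hcAmul]
      have : (⟨h, hh⟩ * ⟨h⁻¹, hh'⟩ : Subgroup.normalizer (V : Set G)) = 1 :=
        Subtype.ext (by simp)
      rw [this, hcA1])
    (fun x => by
      rw [← hcAmul]
      have : (⟨h⁻¹, hh'⟩ * ⟨h, hh⟩ : Subgroup.normalizer (V : Set G)) = 1 :=
        Subtype.ext (by simp)
      rw [this, hcA1])
    (fun x => by
      rw [← hcAmul, ← hcAmul, hcApow]
      have : (⟨h, hh⟩ * nn * ⟨h⁻¹, hh'⟩ : Subgroup.normalizer (V : Set G)) = nn ^ s :=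
        Subtype.ext (by simp [hnn, ← hconj, mul_assoc])
      rw [this])
  refine ⟨j, fun v hv => ?_⟩
  have h3 := hj (Additive.ofMul ⟨v, hv⟩)
  rw [hcApow, hcApow, hcA, hcA] at h3
  have h4 := congrArg (fun t : Additive V => ((Additive.toMul t : V) : G)) h3
  simpa [hcM, hnn] using h4

end Cfsg.Agent.Lib.Helper64
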