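import Mathlib
import Cfsg.Agent.Lib.Helper64.Derangement

set_option autoImplicit false

namespace Cfsg.Agent.Lib.Helper64

open MulAction

section OrbitMod

/-- If a group acts on a finite set with a fixed point `x₀` and every other orbit has size
divisible by `k`, then `k ∣ |X| - 1`. -/
theorem card_sub_one_dvd {H X : Type*} [Group H] [MulAction H X] [Finite X] (k : ℕ) (x₀ : X)
    (hfix : ∀ h : H, h • x₀ = x₀) (hdiv : ∀ y : X, y ≠ x₀ → k ∣ Nat.card (orbit H y)) :
    k ∣ Nat.card X - 1 := by
  classical
  have := Fintype.ofFinite X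
  have : Fintype (orbitRel.Quotient H X) := Fintype.ofFinite _
  have e := selfEquivSigmaOrbits H X
  have h1 : Nat.card X = ∑ q : orbitRel.Quotient H X, Nat.card (orbit H q.out) := by
    rw [Nat.card_congr e, Nat.card_sigma]
  have horb : orbit H x₀ = {x₀} := by
    ext y
    constructor
    · rintro ⟨h, rfl⟩
      exact hfix h
    · rintro rfl
      exact mem_orbit_self _
  set q₀ : orbitRel.Quotient H X := Quotient.mk'' x₀ with hq₀
  have hout : orbit H q₀.out = orbit H x₀ := by
    apply orbit_eq_iff.mpr
    have : (Quotient.mk'' q₀.out : orbitRel.Quotient H X) = Quotient.mk'' x₀ := Quotient.out_eq' q₀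
    exact Quotient.exact' this
  rw [h1, ← Finset.add_sum_erase _ _ (Finset.mem_univ q₀)]
  have hone : Nat.card (orbit H q₀.out) = 1 := by
    rw [hout, horb]
    simp
  rw [hone, Nat.add_sub_cancel_left]
  apply Finset.dvd_sum
  intro q hq
  apply hdiv
  intro hq'
  apply (Finset.mem_erase.mp hq).1
  rw [hq₀, ← hq']
  exact (Quotient.out_eq' q).symm

end OrbitMod

section DerIndex

variable {G X : Type*} [Group G] [MulAction G X]

/-- an element outside `D` fixing `α` fixes nothing else -/
theorem der_mem_of_fix_two [Finite G] [Finite X] [IsPretransitive G X] (D : Subgroup G)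
    (hD : ∀ g : G, (∀ x : X, g • x ≠ x) → g ∈ D) {α β : X} (hαβ : β ≠ α) {g : G}
    (hα : g • α = α) (hβ : g • β = β) : g ∈ D := by
  have : Nonempty X := ⟨α⟩
  by_contra hg
  have h1 := (der_count D hD).2 g hg
  rw [Nat.card_eq_one_iff_unique] at h1
  obtain ⟨hs, _⟩ := h1
  have := hs.elim (⟨α, hα⟩ : fixedBy X g) ⟨β, hβ⟩
  exact hαβ (Subtype.ext_iff.mp this).symm

theorem relIndex_stabilizer_eq_index [Finite G] [Finite X] [IsPretransitive G X] (D : Subgroup G)
    (hD : ∀ g : G, (∀ x : X, g • x ≠ x) → g ∈ D) (α : X) :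
    D.relIndex (stabilizer G α) = D.index := by
  have : Nonempty X := ⟨α⟩
  have hDt : IsPretransitive D X := by
    rw [MulAction.pretransitive_iff_subsingleton_quotient]
    exact (Nat.card_eq_one_iff_unique.mp (der_count D hD).1).1
  have h1 : (stabilizer G α).relIndex D * D.index = (D ⊓ stabilizer G α).index := by
    rw [← Subgroup.inf_relIndex_left, Subgroup.relIndex_mul_index inf_le_left]
  have h2 : D.relIndex (stabilizer G α) * (stabilizer G α).index = (D ⊓ stabilizer G α).index := by
    rw [← Subgroup.inf_relIndex_right, Subgroup.relIndex_mul_index inf_le_right]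
  have h3 : (stabilizer G α).index = Nat.card X := index_stabilizer_of_transitive G α
  have h4 : (stabilizer G α).relIndex D = Nat.card X := by
    have : (stabilizer G α).subgroupOf D = stabilizer D α := by
      ext; rfl
    rw [Subgroup.relIndex, this, index_stabilizer_of_transitive]
  have hpos : 0 < Nat.card X := Nat.card_pos
  rw [h3] at h2
  rw [h4] at h1
  have : D.relIndex (stabilizer G α) * Nat.card X = D.index * Nat.card X := by
    rw [h2, ← h1, mul_comm]
  exact Nat.eq_of_mul_eq_mul_right hpos this

/-- every nontrivial suborbit has size divisible by the index of `D` -/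
theorem der_index_dvd_suborbit [Finite G] [Finite X] [IsPretransitive G X] (D : Subgroup G)
    (hD : ∀ g : G, (∀ x : X, g • x ≠ x) → g ∈ D) {α β : X} (hαβ : β ≠ α) :
    D.index ∣ Nat.card (orbit (stabilizer G α) β) := by
  rw [Nat.card_coe_set_eq, ← index_stabilizer, ← relIndex_stabilizer_eq_index D hD α,
    Subgroup.relIndex]
  apply Subgroup.index_dvd_of_le
  intro g hg
  rw [Subgroup.mem_subgroupOf]
  rw [mem_stabilizer_iff] at hg
  exact der_mem_of_fix_two D hD hαβ g.2 hg

theorem der_index_dvd_card_sub_one [Finite G] [Finite X] [IsPretransitive G X] (D : Subgroup G)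
    (hD : ∀ g : G, (∀ x : X, g • x ≠ x) → g ∈ D) (α : X) :
    D.index ∣ Nat.card X - 1 :=
  card_sub_one_dvd (H := stabilizer G α) D.index α (fun h => h.2)
    (fun _ hy => der_index_dvd_suborbit D hD hy)


/-- If the index of `D` is `n - 1` then the degree `n` is a prime power. -/
theorem der_index_eq_imp_primePow [Finite G] [Finite X] [FaithfulSMul G X] [IsPretransitive G X]
    (D : Subgroup G)
    (hD : ∀ g : G, (∀ x : X, g • x ≠ x) → g ∈ D) (hX : 2 ≤ Nat.card X)
    (hidx : D.index = Nat.card X - 1) : IsPrimePow (Nat.card X) := by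
  classical
  have hne : Nonempty X := by
    by_contra h
    rw [not_nonempty_iff] at h
    rw [Nat.card_of_isEmpty] at hX
    omega
  have hDt : IsPretransitive D X := by
    rw [MulAction.pretransitive_iff_subsingleton_quotient]
    exact (Nat.card_eq_one_iff_unique.mp (der_count D hD).1).1
  -- Step 1: suborbits are everything but the point
  have hcompl : ∀ α : X, ({x : X | x ≠ α} : Set X).ncard = Nat.card X - 1 := by
    intro α
    have : ({x : X | x ≠ α} : Set X) = ({α} : Set X)ᶜ := by ext; simp
    rw [this, Set.ncard_compl, Set.ncard_singleton]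
  have horb : ∀ α β : X, β ≠ α → orbit (stabilizer G α) β = {x : X | x ≠ α} := by
    intro α β hβ
    have hsub : orbit (stabilizer G α) β ⊆ {x : X | x ≠ α} := by
      rintro _ ⟨h, rfl⟩ hh
      apply hβ
      have h2 : (h : G) • α = α := h.2
      have h3 : (h : G) • β = α := hh
      exact smul_left_cancel (h : G) (h3.trans h2.symm)
    apply Set.eq_of_subset_of_ncard_le hsub
    have hdvd := der_index_dvd_suborbit D hD hβ
    rw [Nat.card_coe_set_eq, hidx] at hdvd
    rw [hcompl]
    apply Nat.le_of_dvd _ hdvd
    rw [Set.ncard_pos]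
    exact ⟨β, mem_orbit_self β⟩
  -- Step 2 & 3: D ⊓ G_α = ⊥
  have hDα : ∀ α : X, ∀ g : G, g ∈ D → g • α = α → g = 1 := by
    intro α g hgD hgα
    apply FaithfulSMul.eq_of_smul_eq_smul (α := X)
    intro β
    rw [one_smul]
    by_cases hβ : β = α
    · rw [hβ]; exact hgα
    -- stabilizer of β in G_α has the same index as D ∩ G_α
    have h1 : (stabilizer (stabilizer G α) β).index = Nat.card X - 1 := by
      rw [index_stabilizer, horb α β hβ, hcompl]
    have h2 : (D.subgroupOf (stabilizer G α)).index = Nat.card X - 1 := by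
      have := relIndex_stabilizer_eq_index D hD α
      rw [Subgroup.relIndex] at this
      rw [this, hidx]
    have hle : stabilizer (stabilizer G α) β ≤ D.subgroupOf (stabilizer G α) := by
      intro g hg
      rw [Subgroup.mem_subgroupOf]
      rw [mem_stabilizer_iff] at hg
      exact der_mem_of_fix_two D hD hβ g.2 hg
    have h3 := Subgroup.relIndex_mul_index hle
    rw [h1, h2] at h3
    have hpos : 0 < Nat.card X - 1 := by omega
    have h4 : (stabilizer (stabilizer G α) β).relIndex (D.subgroupOf (stabilizer G α)) = 1 := by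
      have : (stabilizer (stabilizer G α) β).relIndex (D.subgroupOf (stabilizer G α))
          * (Nat.card X - 1) = 1 * (Nat.card X - 1) := by rw [h3, one_mul]
      exact Nat.eq_of_mul_eq_mul_right hpos this
    rw [Subgroup.relIndex_eq_one] at h4
    have hmem : (⟨g, hgα⟩ : stabilizer G α) ∈ D.subgroupOf (stabilizer G α) := by
      rw [Subgroup.mem_subgroupOf]; exact hgD
    have := h4 hmem
    rw [mem_stabilizer_iff] at this
    exact this
  -- Step 4: non-identity elements of D are derangements
  have hder : ∀ d : G, d ∈ D → d ≠ 1 → ∀ x : X, d • x ≠ x :=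
    fun d hd hd1 x hx => hd1 (hDα x d hd hx)
  -- Step 5: any two non-identity elements of D have the same order
  have hord : ∀ d d' : G, d ∈ D → d' ∈ D → d ≠ 1 → d' ≠ 1 → orderOf d = orderOf d' := by
    intro d d' hd hd' hd1 hd'1
    obtain ⟨α⟩ := hne
    have h1 : d • α ≠ α := hder d hd hd1 α
    have h2 : d' • α ≠ α := hder d' hd' hd'1 α
    have h3 : d' • α ∈ orbit (stabilizer G α) (d • α) := by
      rw [horb α _ h1]; exact h2
    obtain ⟨h, hh⟩ := h3
    have hh' : (h : G) • d • α = d' • α := hh
    have hhα : (h : G) • α = α := h.2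
    have hhα' : (h : G)⁻¹ • α = α := by
      rw [inv_smul_eq_iff, hhα]
    have heD : (h : G) * d * (h : G)⁻¹ ∈ D := by
      apply hD
      intro x hx
      apply hder d hd hd1 ((h : G)⁻¹ • x)
      rw [mul_smul, mul_smul] at hx
      rw [eq_inv_smul_iff]
      exact hx
    have hfix : (d'⁻¹ * ((h : G) * d * (h : G)⁻¹)) • α = α := by
      rw [mul_smul, mul_smul, mul_smul, hhα', hh', inv_smul_smul]
    have := hDα α _ (D.mul_mem (D.inv_mem hd') heD) hfix
    have hconj : (h : G) * d * (h : G)⁻¹ = d' := by
      have := congrArg (fun t => d' * t) this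
      simpa using this
    have hs : SemiconjBy (h : G) d d' := by
      rw [SemiconjBy, ← hconj]; group
    exact hs.orderOf_eq
  -- Step 6: |D| = n
  have hcardD : Nat.card D = Nat.card X := by
    obtain ⟨α⟩ := hne
    have h1 : (stabilizer D α).index = Nat.card X := index_stabilizer_of_transitive D α
    have h2 : stabilizer D α = ⊥ := by
      rw [eq_bot_iff]
      intro g hg
      rw [mem_stabilizer_iff] at hg
      rw [Subgroup.mem_bot]
      exact Subtype.ext (hDα α g g.2 hg)
    rw [h2, Subgroup.index_bot] at h1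
    exact h1
  -- Step 7
  obtain ⟨p, hp, hpn⟩ := Nat.exists_prime_and_dvd (show Nat.card X ≠ 1 by omega)
  have : Fact p.Prime := ⟨hp⟩
  rw [← hcardD] at hpn
  obtain ⟨x, hx⟩ := exists_prime_orderOf_dvd_card' p hpn
  have hx1 : (x : G) ≠ 1 := by
    intro h
    have : x = 1 := Subtype.ext h
    rw [this, orderOf_one] at hx
    exact hp.ne_one hx.symm
  have hxo : orderOf (x : G) = p := by rw [Subgroup.orderOf_coe, hx]
  have hpg : IsPGroup p D := by
    intro d
    refine ⟨1, ?_⟩
    rw [pow_one]
    by_cases hd1 : (d : G) = 1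
    · have : d = 1 := Subtype.ext hd1
      rw [this, one_pow]
    · have := hord d x d.2 x.2 hd1 hx1
      rw [hxo] at this
      apply Subtype.ext
      rw [Subgroup.coe_pow, ← this, pow_orderOf_eq_one]
      rfl
  obtain ⟨m, hm⟩ := IsPGroup.iff_card.mp hpg
  rw [isPrimePow_nat_iff]
  refine ⟨p, m, hp, ?_, ?_⟩
  · rcases Nat.eq_zero_or_pos m with h0 | h0
    · rw [h0, pow_zero, hcardD] at hm; omega
    · exact h0
  · rw [← hcardD, hm]

end DerIndex

end Cfsg.Agent.Lib.Helper64
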