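import Mathlib

set_option autoImplicit false

namespace Cfsg.Agent.Lib.Helper64

open MulAction
open scoped Pointwise

section Hamming

variable {ι Q : Type*}

/-- adjacency in the Hamming graph: the two words differ in exactly one coordinate -/
def hadj (x y : ι → Q) : Prop := ∃ i, x i ≠ y i ∧ ∀ j, j ≠ i → x j = y j

/-- the automorphism group of the Hamming graph -/
def hammingAut (ι Q : Type*) : Subgroup (Equiv.Perm (ι → Q)) where
  carrier := {σ | ∀ x y, hadj (σ x) (σ y) ↔ hadj x y}
  one_mem' := fun _ _ => Iff.rfl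
  mul_mem' := by
    intro σ τ hσ hτ x y
    rw [Equiv.Perm.mul_apply, Equiv.Perm.mul_apply, hσ, hτ]
  inv_mem' := by
    intro σ hσ x y
    rw [← hσ]
    simp

theorem mem_hammingAut {σ : Equiv.Perm (ι → Q)} :
    σ ∈ hammingAut ι Q ↔ ∀ x y, hadj (σ x) (σ y) ↔ hadj x y := Iff.rfl

/-- coordinatewise permutations -/
def coordMap (τ : ι → Equiv.Perm Q) : Equiv.Perm (ι → Q) where
  toFun x i := τ i (x i)
  invFun x i := (τ i).symm (x i)
  left_inv x := by funext i; simp
  right_inv x := by funext i; simp

@[simp] theorem coordMap_apply (τ : ι → Equiv.Perm Q) (x : ι → Q) (i : ι) :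
    coordMap τ x i = τ i (x i) := rfl

/-- permuting the coordinates -/
def coordPerm (π : Equiv.Perm ι) : Equiv.Perm (ι → Q) where
  toFun x i := x (π i)
  invFun x i := x (π.symm i)
  left_inv x := by funext i; simp
  right_inv x := by funext i; simp

@[simp] theorem coordPerm_apply (π : Equiv.Perm ι) (x : ι → Q) (i : ι) :
    coordPerm (Q := Q) π x i = x (π i) := rfl

theorem mem_hammingAut_of_coordwise {σ : Equiv.Perm (ι → Q)}
    (h : ∀ x y i, (σ x) i = (σ y) i ↔ x i = y i) : σ ∈ hammingAut ι Q := by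
  intro x y
  constructor
  · rintro ⟨i, hi, hj⟩
    exact ⟨i, fun h' => hi ((h x y i).mpr h'), fun j hji => (h x y j).mp (hj j hji)⟩
  · rintro ⟨i, hi, hj⟩
    exact ⟨i, fun h' => hi ((h x y i).mp h'), fun j hji => (h x y j).mpr (hj j hji)⟩

theorem coordMap_mem (τ : ι → Equiv.Perm Q) : coordMap τ ∈ hammingAut ι Q :=
  mem_hammingAut_of_coordwise fun x y i => by simp

theorem coordPerm_mem (π : Equiv.Perm ι) : coordPerm π ∈ hammingAut ι Q := by
  intro x y
  constructor
  · rintro ⟨i, hi, hj⟩
    refine ⟨π i, hi, fun j hji => ?_⟩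
    have := hj (π.symm j) (fun h' => hji (by rw [← h', Equiv.apply_symm_apply]))
    simpa using this
  · rintro ⟨i, hi, hj⟩
    refine ⟨π.symm i, by simpa using hi, fun j hji => ?_⟩
    exact hj (π j) (fun h' => hji (by rw [← h', Equiv.symm_apply_apply]))

theorem exists_perm_two [DecidableEq Q] {u u' v v' : Q} (hu : u ≠ u') (hv : v ≠ v') :
    ∃ φ : Equiv.Perm Q, φ u = v ∧ φ u' = v' := by
  set φ₁ := Equiv.swap u v with hφ₁
  set w := φ₁ u' with hw
  have hwv : w ≠ v := by
    intro h
    have : φ₁ u' = φ₁ u := by rw [← hw, h, hφ₁, Equiv.swap_apply_left]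
    exact hu (φ₁.injective this).symm
  refine ⟨Equiv.swap w v' * φ₁, ?_, ?_⟩
  · rw [Equiv.Perm.mul_apply, hφ₁, Equiv.swap_apply_left]
    exact Equiv.swap_apply_of_ne_of_ne hwv.symm hv
  · rw [Equiv.Perm.mul_apply, ← hw, Equiv.swap_apply_left]

theorem block_closed {B : Set (ι → Q)} (hB : IsBlock (hammingAut ι Q) B)
    {g : Equiv.Perm (ι → Q)} (hg : g ∈ hammingAut ι Q) {a : ι → Q} (ha : a ∈ B) (hga : g a ∈ B) :
    ∀ b ∈ B, g b ∈ B := by
  intro b hb
  have h1 : (⟨g, hg⟩ : hammingAut ι Q) • B = B :=
    (isBlock_iff_smul_eq_of_mem.mp hB) (g := ⟨g, hg⟩) ha hga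
  have h2 : (⟨g, hg⟩ : hammingAut ι Q) • b ∈ (⟨g, hg⟩ : hammingAut ι Q) • B :=
    Set.smul_mem_smul_set hb
  rw [h1] at h2
  exact h2


section Blocks

variable [DecidableEq ι] [DecidableEq Q]

theorem exists_adj_in_block [Fintype Q] (hQ : 3 ≤ Fintype.card Q)
    {B : Set (ι → Q)} (hB : IsBlock (hammingAut ι Q) B) {a b : ι → Q} (ha : a ∈ B) (hb : b ∈ B)
    (hab : a ≠ b) : ∃ x ∈ B, ∃ y ∈ B, hadj x y := by
  obtain ⟨i₀, hi₀⟩ : ∃ i, a i ≠ b i := Function.ne_iff.mp hab
  obtain ⟨q, hq1, hq2⟩ : ∃ q, q ≠ a i₀ ∧ q ≠ b i₀ := by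
    have hlt : ({a i₀, b i₀} : Finset Q).card < (Finset.univ : Finset Q).card := by
      rw [Finset.card_univ]
      have := Finset.card_le_two (a := a i₀) (b := b i₀)
      omega
    obtain ⟨q, _, hq⟩ := Finset.exists_mem_notMem_of_card_lt_card hlt
    simp only [Finset.mem_insert, Finset.mem_singleton, not_or] at hq
    exact ⟨q, hq.1, hq.2⟩
  set τ : ι → Equiv.Perm Q := Function.update (fun _ => 1) i₀ (Equiv.swap (b i₀) q) with hτ
  have hτa : coordMap τ a = a := by
    funext i
    by_cases h : i = i₀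
    · subst h
      simp only [coordMap_apply, hτ, Function.update_self]
      exact Equiv.swap_apply_of_ne_of_ne hi₀ hq1.symm
    · simp [hτ, Function.update_of_ne h]
  have hmem := block_closed hB (coordMap_mem τ) ha (by rw [hτa]; exact ha) b hb
  refine ⟨b, hb, coordMap τ b, hmem, i₀, ?_, ?_⟩
  · simp only [coordMap_apply, hτ, Function.update_self, Equiv.swap_apply_left]
    exact hq2.symm
  · intro j hj
    simp [hτ, Function.update_of_ne hj]

theorem nbr_in_block {B : Set (ι → Q)} (hB : IsBlock (hammingAut ι Q) B) {a a' : ι → Q}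
    (ha : a ∈ B) (ha' : a' ∈ B) (haa' : hadj a a') {c : ι → Q} (hc : hadj a c) : c ∈ B := by
  obtain ⟨i₀, hi₀, hi₀'⟩ := haa'
  obtain ⟨j₀, hj₀, hj₀'⟩ := hc
  by_cases hij : j₀ = i₀
  · subst hij
    set τ : ι → Equiv.Perm Q := Function.update (fun _ => 1) j₀ (Equiv.swap (a' j₀) (c j₀)) with hτ
    have hτa : coordMap τ a = a := by
      funext i
      by_cases h : i = j₀
      · subst h
        simp only [coordMap_apply, hτ, Function.update_self]
        exact Equiv.swap_apply_of_ne_of_ne hi₀ hj₀
      · simp [hτ, Function.update_of_ne h]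
    have hτa' : coordMap τ a' = c := by
      funext i
      by_cases h : i = j₀
      · subst h
        simp only [coordMap_apply, hτ, Function.update_self, Equiv.swap_apply_left]
      · simp only [coordMap_apply, hτ, Function.update_of_ne h, Equiv.Perm.one_apply]
        rw [← hi₀' i h, hj₀' i h]
    have := block_closed hB (coordMap_mem τ) ha (by rw [hτa]; exact ha) a' ha'
    rwa [hτa'] at this
  · obtain ⟨φ, hφ1, hφ2⟩ := exists_perm_two (u := a i₀) (u' := a' i₀) (v := a j₀) (v' := c j₀) hi₀ hj₀
    set ψ : Equiv.Perm Q := Equiv.swap (a j₀) (a i₀) with hψ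
    set τ : ι → Equiv.Perm Q := Function.update (Function.update (fun _ => 1) j₀ φ) i₀ ψ with hτ
    have hτi : τ i₀ = ψ := by rw [hτ, Function.update_self]
    have hτj : τ j₀ = φ := by rw [hτ, Function.update_of_ne hij, Function.update_self]
    have hτl : ∀ l, l ≠ i₀ → l ≠ j₀ → τ l = 1 := by
      intro l h1 h2
      rw [hτ, Function.update_of_ne h1, Function.update_of_ne h2]
    set g : Equiv.Perm (ι → Q) := coordMap τ * coordPerm (Equiv.swap i₀ j₀) with hg
    have hgmem : g ∈ hammingAut ι Q := mul_mem (coordMap_mem τ) (coordPerm_mem _)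
    have hgapp : ∀ (x : ι → Q) (l : ι), g x l = τ l (x (Equiv.swap i₀ j₀ l)) := fun x l => rfl
    have hga : g a = a := by
      funext l
      rw [hgapp]
      by_cases hl1 : l = i₀
      · subst hl1
        rw [hτi, Equiv.swap_apply_left, hψ, Equiv.swap_apply_left]
      · by_cases hl2 : l = j₀
        · subst hl2
          rw [hτj, Equiv.swap_apply_right, hφ1]
        · rw [hτl l hl1 hl2, Equiv.swap_apply_of_ne_of_ne hl1 hl2, Equiv.Perm.one_apply]
    have hga' : g a' = c := by
      funext l
      rw [hgapp]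
      by_cases hl1 : l = i₀
      · subst hl1
        rw [hτi, Equiv.swap_apply_left, ← hi₀' j₀ hij, hψ, Equiv.swap_apply_left]
        exact hj₀' l (Ne.symm hij)
      · by_cases hl2 : l = j₀
        · subst hl2
          rw [hτj, Equiv.swap_apply_right, hφ2]
        · rw [hτl l hl1 hl2, Equiv.swap_apply_of_ne_of_ne hl1 hl2, Equiv.Perm.one_apply,
            ← hi₀' l hl1, hj₀' l hl2]
    have := block_closed hB hgmem ha (by rw [hga]; exact ha) a' ha'
    rwa [hga'] at this

theorem nbr_in_block' {B : Set (ι → Q)} (hB : IsBlock (hammingAut ι Q) B) {a a' : ι → Q}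
    (ha : a ∈ B) (ha' : a' ∈ B) (haa' : hadj a a') {x : ι → Q} (hx : x ∈ B) {c : ι → Q}
    (hc : hadj x c) : c ∈ B := by
  set g : Equiv.Perm (ι → Q) := coordMap (fun i => Equiv.swap (a i) (x i)) with hg
  have hga : g a = x := funext fun i => Equiv.swap_apply_left _ _
  have hgmem : g ∈ hammingAut ι Q := coordMap_mem _
  have hclosed := block_closed hB hgmem ha (by rw [hga]; exact hx)
  have h1 : g a' ∈ B := hclosed a' ha'
  have h2 : hadj x (g a') := by
    rw [← hga]
    exact (hgmem a a').mpr haa'
  exact nbr_in_block hB hx h1 h2 hc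

theorem block_eq_univ [Fintype ι] {B : Set (ι → Q)} (hB : IsBlock (hammingAut ι Q) B)
    {a a' : ι → Q} (ha : a ∈ B) (ha' : a' ∈ B) (haa' : hadj a a') : B = Set.univ := by
  ext y
  simp only [Set.mem_univ, iff_true]
  have key : ∀ S : Finset ι, (fun i => if i ∈ S then y i else a i) ∈ B := by
    intro S
    induction S using Finset.induction_on with
    | empty => simpa using ha
    | insert i S hi ih =>
      by_cases hyi : y i = a i
      · have : (fun j => if j ∈ insert i S then y j else a j)
            = (fun j => if j ∈ S then y j else a j) := by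
          funext j
          by_cases hj : j = i
          · subst hj; simp [hi, hyi]
          · simp [Finset.mem_insert, hj]
        rw [this]; exact ih
      · apply nbr_in_block' hB ha ha' haa' ih
        refine ⟨i, ?_, ?_⟩
        · simp only [hi, if_false, Finset.mem_insert, true_or, if_true]
          exact fun h => hyi h.symm
        · intro j hj
          simp [Finset.mem_insert, hj]
  have := key Finset.univ
  simpa using this

theorem hammingAut_isPreprimitive [Fintype ι] [Fintype Q] (hQ : 3 ≤ Fintype.card Q) :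
    IsPreprimitive (hammingAut ι Q) (ι → Q) where
  toIsPretransitive := ⟨fun x y => ⟨⟨coordMap (fun i => Equiv.swap (x i) (y i)), coordMap_mem _⟩,
    funext fun i => Equiv.swap_apply_left _ _⟩⟩
  isTrivialBlock_of_isBlock := by
    intro B hB
    by_cases hs : B.Subsingleton
    · exact Or.inl hs
    · right
      rw [Set.not_subsingleton_iff] at hs
      obtain ⟨a, ha, b, hb, hab⟩ := hs
      obtain ⟨x, hx, y, hy, hxy⟩ := exists_adj_in_block hQ hB ha hb hab
      exact block_eq_univ hB hx hy hxy

theorem hammingAut_not_two_transitive {i₀ j₀ : ι} (hij : i₀ ≠ j₀) {q₀ q₁ : Q} (hq : q₀ ≠ q₁) :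
    ¬ IsMultiplyPretransitive (hammingAut ι Q) (ι → Q) 2 := by
  intro h
  rw [is_two_pretransitive_iff] at h
  set a : ι → Q := fun _ => q₀ with ha
  set b : ι → Q := Function.update a i₀ q₁ with hb
  set c : ι → Q := Function.update b j₀ q₁ with hc
  have hab : a ≠ b := by
    intro h0
    have := congrFun h0 i₀
    rw [hb, Function.update_self] at this
    exact hq this
  have hac : a ≠ c := by
    intro h0
    have := congrFun h0 j₀
    rw [hc, Function.update_self] at this
    exact hq this
  obtain ⟨g, hga, hgb⟩ := h hab hac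
  have hadjab : hadj a b := ⟨i₀, by rw [hb, Function.update_self]; exact hq,
    fun j hj => by rw [hb, Function.update_of_ne hj]⟩
  have hnadj : ¬ hadj a c := by
    rintro ⟨i, _, hi'⟩
    by_cases h1 : i₀ = i
    · subst h1
      have := hi' j₀ (Ne.symm hij)
      rw [hc, Function.update_self] at this
      exact hq this
    · have := hi' i₀ h1
      rw [hc, Function.update_of_ne hij, hb, Function.update_self] at this
      exact hq this
  have h0 := (g.2 a b).mpr hadjab
  have h1 : (g : Equiv.Perm (ι → Q)) a = a := hga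
  have h2 : (g : Equiv.Perm (ι → Q)) b = c := hgb
  rw [h1, h2] at h0
  exact hnadj h0

end Blocks

end Hamming

end Cfsg.Agent.Lib.Helper64
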