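import Mathlib

set_option autoImplicit false

namespace Cfsg.Agent.Lib.Helper64.IPA

universe u

theorem exists_between_index {G : Type u} [Group G] [Finite G] (K N : Subgroup G) [K.Normal] (hKN : K ≤ N)
    {r : ℕ} (hr : r.Prime) (hidx : ∃ a : ℕ, 0 < a ∧ K.relIndex N = r ^ a) :
    ∃ H : Subgroup G, K ≤ H ∧ H ≤ N ∧ H.relIndex N = r := by
  obtain ⟨a, ha, hKa⟩ := hidx
  have hrF : Fact r.Prime := ⟨hr⟩
  -- the quotient `Q = N / (K ∩ N)` has order `r ^ a`
  have hQcard : Nat.card (↥N ⧸ K.subgroupOf N) = r ^ a := by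
    rw [← Subgroup.index_eq_card]; exact hKa
  obtain ⟨a', rfl⟩ : ∃ a', a = a' + 1 := ⟨a - 1, by omega⟩
  have hdvd : r ^ a' ∣ Nat.card (↥N ⧸ K.subgroupOf N) := by
    rw [hQcard]; exact pow_dvd_pow r (Nat.le_succ a')
  obtain ⟨Hbar, hHbar⟩ := Sylow.exists_subgroup_card_pow_prime r hdvd
  have hHbar_idx : Hbar.index = r := by
    have h1 := Hbar.card_mul_index
    rw [hHbar, hQcard, pow_succ] at h1
    exact Nat.eq_of_mul_eq_mul_left (pow_pos hr.pos a') h1
  let H' : Subgroup ↥N := Hbar.comap (QuotientGroup.mk' (K.subgroupOf N))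
  have hH'idx : H'.index = r := by
    rw [Subgroup.index_comap_of_surjective Hbar (QuotientGroup.mk'_surjective _)]
    exact hHbar_idx
  have hKH' : K.subgroupOf N ≤ H' := by
    intro x hx
    show QuotientGroup.mk' (K.subgroupOf N) x ∈ Hbar
    have : QuotientGroup.mk' (K.subgroupOf N) x = 1 := by
      rw [QuotientGroup.mk'_apply, QuotientGroup.eq_one_iff]; exact hx
    rw [this]; exact Hbar.one_mem
  refine ⟨H'.map N.subtype, ?_, Subgroup.map_subtype_le H', ?_⟩
  · intro k hk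
    refine ⟨⟨k, hKN hk⟩, hKH' ?_, rfl⟩
    show (⟨k, hKN hk⟩ : ↥N) ∈ K.subgroupOf N
    rw [Subgroup.mem_subgroupOf]; exact hk
  · have : (H'.map N.subtype).subgroupOf N = H' := by
      unfold Subgroup.subgroupOf
      exact Subgroup.comap_map_eq_self_of_injective N.subtype_injective H'
    unfold Subgroup.relIndex
    rw [this]; exact hH'idx

end Cfsg.Agent.Lib.Helper64.IPA
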