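import Mathlib

set_option autoImplicit false

namespace Cfsg.Agent.Lib.Helper64

section Extend

variable {K V : Type*} [Field K] [AddCommGroup V] [Module K V] [FiniteDimensional K V]

/-- An isomorphism between two subspaces of a finite-dimensional space extends to an automorphism. -/
theorem exists_linearEquiv_extend (U W : Submodule K V) (e : U ≃ₗ[K] W) :
    ∃ A : V ≃ₗ[K] V, ∀ u : U, A (u : V) = (e u : V) := by
  obtain ⟨U', hU⟩ := Submodule.exists_isCompl U
  obtain ⟨W', hW⟩ := Submodule.exists_isCompl W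
  have h1 := Submodule.finrank_add_eq_of_isCompl hU
  have h2 := Submodule.finrank_add_eq_of_isCompl hW
  have h3 : Module.finrank K U = Module.finrank K W := e.finrank_eq
  have h4 : Module.finrank K U' = Module.finrank K W' := by omega
  obtain ⟨e'⟩ := FiniteDimensional.nonempty_linearEquiv_of_finrank_eq h4
  refine ⟨(Submodule.prodEquivOfIsCompl U U' hU).symm ≪≫ₗ (e.prodCongr e') ≪≫ₗ
    Submodule.prodEquivOfIsCompl W W' hW, ?_⟩
  intro u
  simp

/-- Two linear maps with the same kernel differ by an automorphism of the (finite-dimensional)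
target. -/
theorem exists_linearEquiv_of_ker_eq {M : Type*} [AddCommGroup M] [Module K M]
    (f g : M →ₗ[K] V) (h : LinearMap.ker f = LinearMap.ker g) :
    ∃ A : V ≃ₗ[K] V, ∀ m : M, A (f m) = g m := by
  let e : LinearMap.range f ≃ₗ[K] LinearMap.range g :=
    (LinearMap.quotKerEquivRange f).symm ≪≫ₗ Submodule.quotEquivOfEq _ _ h ≪≫ₗ
      LinearMap.quotKerEquivRange g
  obtain ⟨A, hA⟩ := exists_linearEquiv_extend _ _ e
  refine ⟨A, fun m => ?_⟩
  have := hA ⟨f m, LinearMap.mem_range_self f m⟩
  rw [this]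
  simp only [e, LinearEquiv.trans_apply]
  rw [LinearMap.quotKerEquivRange_symm_apply_image, Submodule.mkQ_apply,
    Submodule.quotEquivOfEq_mk, LinearMap.quotKerEquivRange_apply_mk]

end Extend

end Cfsg.Agent.Lib.Helper64

namespace Cfsg.Agent.Lib.Helper64

section DetOne

variable {K V : Type*} [Field K] [AddCommGroup V] [Module K V] [FiniteDimensional K V]

/-- Given an automorphism `A` and a proper subspace `W`, there is an automorphism of determinant
one that agrees with `A` on `W`. -/
theorem exists_det_one_agree (W : Submodule K V) (hW : W < ⊤) (A : V ≃ₗ[K] V) :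
    ∃ B : V ≃ₗ[K] V, LinearMap.det (B : V →ₗ[K] V) = 1 ∧ ∀ w ∈ W, B w = A w := by
  obtain ⟨f, hf0, hfW⟩ := Submodule.exists_dual_map_eq_bot_of_lt_top hW inferInstance
  have hfW' : ∀ w ∈ W, f w = 0 := by
    intro w hw
    have : f w ∈ W.map f := Submodule.mem_map_of_mem hw
    rw [hfW] at this
    exact (Submodule.mem_bot K).mp this
  obtain ⟨z, hz⟩ : ∃ z, f z ≠ 0 := by
    by_contra h
    push Not at h
    exact hf0 (LinearMap.ext h)
  set z' := (f z)⁻¹ • z with hz'
  have hfz' : f z' = 1 := by
    rw [hz', map_smul, smul_eq_mul, inv_mul_cancel₀ hz]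
  set δ := LinearMap.det (A : V →ₗ[K] V) with hδ
  have hδ0 : δ ≠ 0 := IsUnit.ne_zero A.isUnit_det'
  set D := LinearMap.transvection f ((δ⁻¹ - 1) • z') with hD
  have hdetD : LinearMap.det D = δ⁻¹ := by
    rw [hD, LinearMap.transvection.det, map_smul, hfz', smul_eq_mul, mul_one]
    ring
  set B' : V →ₗ[K] V := (A : V →ₗ[K] V) ∘ₗ D with hB'
  have hdetB' : LinearMap.det B' = 1 := by
    rw [hB', LinearMap.det_comp, hdetD, ← hδ, mul_inv_cancel₀ hδ0]
  have hne : LinearMap.det B' ≠ 0 := by rw [hdetB']; exact one_ne_zero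
  refine ⟨LinearMap.equivOfDetNeZero B' hne, ?_, ?_⟩
  · rw [LinearEquiv.coe_ofIsUnitDet]
    exact hdetB'
  · intro w hw
    have : (LinearMap.equivOfDetNeZero B' hne) w = B' w := by
      have := congrArg (fun g : V →ₗ[K] V => g w)
        (LinearEquiv.coe_ofIsUnitDet (f := B') (v := Module.finBasis K V)
          (v' := Module.finBasis K V) (by
            rw [LinearMap.det_toMatrix]; exact isUnit_iff_ne_zero.2 hne))
      exact this
    rw [this, hB', LinearMap.comp_apply, hD, LinearMap.transvection.apply, hfW' w hw, zero_smul,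
      add_zero]
    rfl

end DetOne

end Cfsg.Agent.Lib.Helper64
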