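import Mathlib

set_option autoImplicit false

namespace Cfsg.Agent.Lib.Helper64

open Polynomial

section McConnel

variable {p : ℕ} [Fact p.Prime]

/-- power sums over a subgroup of the units -/
theorem powersum_subgroup (A : Subgroup (ZMod p)ˣ) [Fintype A] (i : ℕ) (hi : i ≤ Fintype.card A) :
    ∑ a : A, ((a : (ZMod p)ˣ) : ZMod p) ^ i
      = if i = 0 ∨ i = Fintype.card A then (Fintype.card A : ZMod p) else 0 := by
  by_cases h0 : i = 0
  · subst h0
    simp
  by_cases hm : i = Fintype.card A
  · simp only [hm, or_true, if_true]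
    have : ∀ a : A, ((a : (ZMod p)ˣ) : ZMod p) ^ Fintype.card A = 1 := by
      intro a
      rw [← Units.val_pow_eq_pow_val, ← Subgroup.coe_pow, pow_card_eq_one]
      simp
    simp [this]
  · simp only [h0, hm, or_self, if_false]
    exact FiniteField.sum_subgroup_pow_eq_zero h0 (lt_of_le_of_ne hi hm)

theorem choose_ne_zero_zmod {d j : ℕ} (hd : d < p) (hj : j ≤ d) : ((d.choose j : ℕ) : ZMod p) ≠ 0 := by
  have hp : p.Prime := Fact.out
  rw [Ne, ZMod.natCast_eq_zero_iff]
  intro h
  have h1 : p ∣ d.factorial := by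
    rw [← Nat.choose_mul_factorial_mul_factorial hj]
    exact Dvd.dvd.mul_right (Dvd.dvd.mul_right h _) _
  rw [hp.dvd_factorial] at h1
  omega

/-- kernel lemma: a polynomial of degree `< p` whose `A`-average equals `m` times itself has
degree `< m`. -/
theorem natDegree_lt_of_average (A : Subgroup (ZMod p)ˣ) [Fintype A] (P : (ZMod p)[X])
    (hP : P.natDegree < p) (hmp : Fintype.card A < p)
    (h : ∀ x : ZMod p, ∑ a : A, P.eval (x + ((a : (ZMod p)ˣ) : ZMod p))
      = (Fintype.card A : ZMod p) * P.eval x) :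
    P.natDegree < Fintype.card A := by
  classical
  by_contra hge
  push Not at hge
  set m := Fintype.card A with hm
  set d := P.natDegree with hd
  have hmpos : 0 < m := Fintype.card_pos
  set Q : (ZMod p)[X] := ∑ a : A, taylor ((a : (ZMod p)ˣ) : ZMod p) P - C (m : ZMod p) * P with hQ
  have hQdeg : Q.natDegree ≤ d := by
    apply (natDegree_sub_le _ _).trans
    apply max_le
    · apply natDegree_sum_le_of_forall_le
      intro a _
      rw [natDegree_taylor]
    · exact natDegree_C_mul_le _ _
  have hQeval : ∀ x : ZMod p, Q.eval x = 0 := by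
    intro x
    rw [hQ, eval_sub, eval_finsetSum, eval_mul, eval_C]
    simp only [taylor_eval]
    rw [h x, sub_self]
  have hQ0 : Q = 0 := by
    apply eq_zero_of_natDegree_lt_card_of_eval_eq_zero Q Function.injective_id hQeval
    rw [ZMod.card]
    omega
  -- coefficient at d - m
  set n := d - m with hn
  have hcoef : Q.coeff n = ((d.choose n : ℕ) : ZMod p) * P.coeff d * (m : ZMod p) := by
    rw [hQ, coeff_sub, finsetSum_coeff, coeff_C_mul]
    have h1 : ∀ a : A, (taylor ((a : (ZMod p)ˣ) : ZMod p) P).coeff n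
        = ∑ i ∈ Finset.range (d + 1), ((i + n).choose n : ZMod p) * P.coeff (i + n)
            * ((a : (ZMod p)ˣ) : ZMod p) ^ i := by
      intro a
      rw [taylor_coeff, eval_eq_sum_range' (n := d + 1)]
      · refine Finset.sum_congr rfl fun i _ => ?_
        rw [hasseDeriv_coeff]
      · have : (hasseDeriv n P).natDegree ≤ d := by
          apply (natDegree_hasseDeriv_le P n).trans
          omega
        omega
    simp_rw [h1]
    rw [Finset.sum_comm]
    simp_rw [← Finset.mul_sum]
    have h2 : ∀ i ∈ Finset.range (d + 1), ((i + n).choose n : ZMod p) * P.coeff (i + n)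
        * ∑ a : A, ((a : (ZMod p)ˣ) : ZMod p) ^ i
        = if i = 0 ∨ i = m then ((i + n).choose n : ZMod p) * P.coeff (i + n) * (m : ZMod p)
          else 0 := by
      intro i _
      by_cases him : i ≤ m
      · rw [powersum_subgroup A i him, ← hm]
        split_ifs <;> simp
      · have : P.coeff (i + n) = 0 := by
          apply coeff_eq_zero_of_natDegree_lt
          omega
        rw [this]
        have : ¬ (i = 0 ∨ i = m) := by omega
        simp [this]
    rw [Finset.sum_congr rfl h2]
    rw [Finset.sum_ite, Finset.sum_const_zero, add_zero]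
    have hfilter : (Finset.range (d + 1)).filter (fun i => i = 0 ∨ i = m) = {0, m} := by
      ext i
      simp only [Finset.mem_filter, Finset.mem_range, Finset.mem_insert, Finset.mem_singleton]
      constructor
      · rintro ⟨_, h⟩; exact h
      · rintro (rfl | rfl)
        · exact ⟨by omega, Or.inl rfl⟩
        · exact ⟨by omega, Or.inr rfl⟩
    rw [hfilter, Finset.sum_pair (by omega)]
    have hmn : m + n = d := by omega
    simp only [zero_add, Nat.choose_self, Nat.cast_one, one_mul, hmn]
    ring
  rw [hQ0, coeff_zero] at hcoef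
  have hc1 : ((d.choose n : ℕ) : ZMod p) ≠ 0 := choose_ne_zero_zmod (by omega) (by omega)
  have hc2 : P.coeff d ≠ 0 := by
    rw [hd]
    intro h0
    rw [coeff_natDegree, leadingCoeff_eq_zero] at h0
    rw [h0] at hd
    simp at hd
    omega
  have hc3 : (m : ZMod p) ≠ 0 := by
    rw [Ne, ZMod.natCast_eq_zero_iff]
    intro hdvd
    have := Nat.le_of_dvd hmpos hdvd
    omega
  exact mul_ne_zero (mul_ne_zero hc1 hc2) hc3 hcoef.symm


/-- the neighbours `x + A` of `x` are mapped bijectively to the neighbours of `f x` -/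
theorem sum_neighbors (A : Subgroup (ZMod p)ˣ) [Fintype A] (f : ZMod p → ZMod p)
    (hinj : Function.Injective f)
    (hf : ∀ x y, x ≠ y → ∃ a ∈ A, f x - f y = ((a : (ZMod p)ˣ) : ZMod p) * (x - y))
    (h : ZMod p → ZMod p) (x : ZMod p) :
    ∑ a : A, h (f (x + ((a : (ZMod p)ˣ) : ZMod p))) = ∑ a : A, h (f x + ((a : (ZMod p)ˣ) : ZMod p)) := by
  have key : ∀ a : A, ∃ b : A, f (x + ((a : (ZMod p)ˣ) : ZMod p)) = f x + ((b : (ZMod p)ˣ) : ZMod p) := by
    intro a
    have hne : x + ((a : (ZMod p)ˣ) : ZMod p) ≠ x := by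
      intro h0
      have : ((a : (ZMod p)ˣ) : ZMod p) = 0 := by
        have := congrArg (fun t => t - x) h0
        simpa using this
      exact Units.ne_zero _ this
    obtain ⟨c, hc, hcf⟩ := hf _ _ hne
    refine ⟨⟨c, hc⟩ * a, ?_⟩
    rw [add_sub_cancel_left] at hcf
    rw [← sub_eq_iff_eq_add', hcf]
    simp
  choose ψ hψ using key
  have hψinj : Function.Injective ψ := by
    intro a b hab
    have h1 : f (x + ((a : (ZMod p)ˣ) : ZMod p)) = f (x + ((b : (ZMod p)ˣ) : ZMod p)) := by
      rw [hψ, hψ, hab]
    have h2 := add_left_cancel (hinj h1)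
    exact Subtype.ext (Units.ext h2)
  have hbij : Function.Bijective ψ := Finite.injective_iff_bijective.mp hψinj
  rw [← hbij.sum_comp (fun a : A => h (f x + ((a : (ZMod p)ˣ) : ZMod p)))]
  simp_rw [hψ]

theorem sum_pow_neighbors (A : Subgroup (ZMod p)ˣ) [Fintype A] (f : ZMod p → ZMod p)
    (hinj : Function.Injective f)
    (hf : ∀ x y, x ≠ y → ∃ a ∈ A, f x - f y = ((a : (ZMod p)ˣ) : ZMod p) * (x - y))
    (k : ℕ) (hk : k < Fintype.card A) (x : ZMod p) :
    ∑ a : A, f (x + ((a : (ZMod p)ˣ) : ZMod p)) ^ k = (Fintype.card A : ZMod p) * f x ^ k := by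
  rw [sum_neighbors A f hinj hf (fun t => t ^ k) x]
  simp_rw [add_pow]
  rw [Finset.sum_comm]
  have : ∀ j ∈ Finset.range (k + 1),
      ∑ a : A, f x ^ j * ((a : (ZMod p)ˣ) : ZMod p) ^ (k - j) * ((k.choose j : ℕ) : ZMod p)
      = if j = k then f x ^ k * (Fintype.card A : ZMod p) else 0 := by
    intro j hj
    rw [Finset.mem_range] at hj
    have e1 : ∑ a : A, f x ^ j * ((a : (ZMod p)ˣ) : ZMod p) ^ (k - j) * ((k.choose j : ℕ) : ZMod p)
        = f x ^ j * ((k.choose j : ℕ) : ZMod p) * ∑ a : A, ((a : (ZMod p)ˣ) : ZMod p) ^ (k - j) := by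
      rw [Finset.mul_sum]
      refine Finset.sum_congr rfl fun a _ => ?_
      ring
    rw [e1, powersum_subgroup A (k - j) (by omega)]
    by_cases hjk : j = k
    · subst hjk
      simp
    · have : ¬ (k - j = 0 ∨ k - j = Fintype.card A) := by omega
      simp [this, hjk]
  rw [Finset.sum_congr rfl this, Finset.sum_ite_eq' (Finset.range (k + 1)) k]
  simp [mul_comm]

/-- McConnel's theorem over a prime field. -/
theorem mcconnel (A : Subgroup (ZMod p)ˣ) (hA : A ≠ ⊤) (f : ZMod p → ZMod p)
    (hinj : Function.Injective f)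
    (hf : ∀ x y, x ≠ y → ∃ a ∈ A, f x - f y = ((a : (ZMod p)ˣ) : ZMod p) * (x - y)) :
    ∃ a ∈ A, ∃ b : ZMod p, ∀ x, f x = ((a : (ZMod p)ˣ) : ZMod p) * x + b := by
  classical
  have hp : p.Prime := Fact.out
  have : Fintype A := Fintype.ofFinite A
  set m := Fintype.card A with hm
  have hmpos : 0 < m := Fintype.card_pos
  have h01 : (1 : ZMod p) ≠ 0 := one_ne_zero
  -- 2 m ≤ p - 1
  have h2m : 2 * m ≤ p - 1 := by
    have h1 : m ∣ p - 1 := by
      rw [← ZMod.card_units p, hm, ← Nat.card_eq_fintype_card, ← Nat.card_eq_fintype_card]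
      exact Subgroup.card_subgroup_dvd_card A
    have h2 : m ≠ p - 1 := by
      intro h
      apply hA
      rw [← Subgroup.card_eq_iff_eq_top, Nat.card_eq_fintype_card, Nat.card_eq_fintype_card,
        ZMod.card_units p, ← h]
    obtain ⟨c, hc⟩ := h1
    have hp1 : 0 < p - 1 := by have := hp.two_le; omega
    rcases c with _ | _ | c
    · omega
    · omega
    · rw [hc]; nlinarith
  by_cases hm1 : m = 1
  · -- A trivial
    have hone : ∀ a ∈ A, a = 1 := by
      intro a ha
      have : Subsingleton A := Fintype.card_le_one_iff_subsingleton.mp (by omega)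
      have := Subsingleton.elim (⟨a, ha⟩ : A) 1
      exact congrArg Subtype.val this
    refine ⟨1, A.one_mem, f 0, fun x => ?_⟩
    by_cases hx : x = 0
    · subst hx; simp
    · obtain ⟨a, ha, hfa⟩ := hf x 0 hx
      rw [hone a ha] at hfa
      rw [sub_eq_iff_eq_add] at hfa
      rw [hfa]; simp
  have hm2 : 2 ≤ m := by omega
  -- interpolation polynomial
  set P : (ZMod p)[X] := Lagrange.interpolate Finset.univ id f with hP
  have hPeval : ∀ x : ZMod p, P.eval x = f x := by
    intro x
    exact Lagrange.eval_interpolate_at_node (v := id) f Function.injective_id.injOn (Finset.mem_univ x)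
  have hP0 : P ≠ 0 := by
    intro h0
    have e0 := hPeval 0
    have e1 := hPeval 1
    rw [h0, eval_zero] at e0 e1
    exact h01 (hinj (e1.symm.trans e0))
  have hPdeg : P.natDegree < p := by
    have := Lagrange.degree_interpolate_lt (s := Finset.univ) (v := id) f
      Function.injective_id.injOn
    rw [Finset.card_univ, ZMod.card] at this
    exact (natDegree_lt_iff_degree_lt hP0).mpr this
  set e := P.natDegree with he
  -- key degree restriction
  have hstar : ∀ k, k < m → e * k < p → e * k < m := by
    intro k hk hek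
    have hdeg : (P ^ k).natDegree = e * k := by
      rw [natDegree_pow, mul_comm]
    have := natDegree_lt_of_average A (P ^ k) (by rw [hdeg]; exact hek) (by omega) (by
      intro x
      simp only [eval_pow, hPeval]
      exact sum_pow_neighbors A f hinj hf k hk x)
    rw [hdeg] at this
    exact this
  have he1 : e < m := by
    have := hstar 1 (by omega) (by omega)
    omega
  have hepos : 1 ≤ e := by
    by_contra h
    have h0 : e = 0 := by omega
    have hc := eq_C_of_natDegree_eq_zero h0
    have e0 := hPeval 0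
    have e1 := hPeval 1
    rw [hc, eval_C] at e0 e1
    exact h01 (hinj (e1.symm.trans e0))
  have hele : e ≤ 1 := by
    by_contra hgt
    push Not at hgt
    set q := (m - 1) / e with hq
    set r := (m - 1) % e with hr
    have hdm : e * q + r = m - 1 := Nat.div_add_mod (m - 1) e
    have hrlt : r < e := Nat.mod_lt _ (by omega)
    have h2q : 2 * q ≤ e * q := Nat.mul_le_mul_right q hgt
    have hk0 : e * (q + 1) = e * q + e := by ring
    have := hstar (q + 1) (by omega) (by omega)
    omega
  have heq1 : e = 1 := by omega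
  obtain ⟨a, b, hab⟩ := exists_eq_X_add_C_of_natDegree_le_one (p := P) (by omega)
  have hfx : ∀ x, f x = a * x + b := by
    intro x
    rw [← hPeval x, hab]
    simp
  obtain ⟨c, hc, hcf⟩ := hf 1 0 h01
  have hac : a = ((c : (ZMod p)ˣ) : ZMod p) := by
    rw [hfx 1, hfx 0] at hcf
    simpa using hcf
  refine ⟨c, hc, b, fun x => ?_⟩
  rw [hfx x, hac]

end McConnel

end Cfsg.Agent.Lib.Helper64
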