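import Mathlib
import Cfsg.Agent.Lib.Helper64.Miller1

set_option autoImplicit false

namespace Cfsg.Agent.Lib.Helper64

open MulAction Equiv Equiv.Perm Subgroup
open scoped Pointwise

variable {α : Type*} [Fintype α] [DecidableEq α]

/-- Witt's lemma: if `G` is `t`-transitive and `U` is a Sylow `p`-subgroup of the pointwise
stabiliser `K` of `t` points, then the normaliser of `U` is `t`-transitive on the fixed points of
`U`. -/
theorem witt (G : Subgroup (Perm α)) {t : ℕ} (hG : IsMultiplyPretransitive G α t)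
    {p : ℕ} [hp : Fact p.Prime] (x₀ : Fin t ↪ α) (K U : Subgroup (Perm α))
    (hK : ∀ g, g ∈ K ↔ g ∈ G ∧ ∀ i, g (x₀ i) = x₀ i)
    (hUK : U ≤ K) (hU : IsPGroup p U) (hidx : ¬ p ∣ (U.subgroupOf K).index)
    (y : Fin t ↪ α) (hy : ∀ u ∈ U, ∀ i, u (y i) = y i) :
    ∃ n ∈ G, n ∈ Subgroup.normalizer (U : Set (Perm α)) ∧ ∀ i, n (x₀ i) = y i := by
  classical
  obtain ⟨⟨g, hgG⟩, hg⟩ := hG.exists_smul_eq x₀ y
  have hgx : ∀ i, g (x₀ i) = y i := by
    intro i
    have := congrArg (fun e : Fin t ↪ α => e i) hg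
    exact this
  -- the conjugate of `U` by `g⁻¹`
  have hconjK : ∀ u ∈ U, g⁻¹ * u * g ∈ K := by
    intro u hu
    rw [hK]
    refine ⟨G.mul_mem (G.mul_mem (G.inv_mem hgG) ((hK u).mp (hUK hu)).1) hgG, ?_⟩
    intro i
    simp only [Perm.mul_apply, hgx, hy u hu i]
    rw [← hgx i, perm_inv_apply]
  let P₀ : Sylow p K := (hU.comap_subtype (K := K)).toSylow hidx
  -- the conjugate as a subgroup
  let U' : Subgroup (Perm α) := U.map (MulAut.conj g⁻¹).toMonoidHom
  have hU'mem : ∀ v, v ∈ U' ↔ ∃ u ∈ U, v = g⁻¹ * u * g := by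
    intro v
    simp only [U', Subgroup.mem_map, MulEquiv.coe_toMonoidHom, MulAut.conj_apply, inv_inv]
    constructor
    · rintro ⟨u, hu, rfl⟩; exact ⟨u, hu, rfl⟩
    · rintro ⟨u, hu, rfl⟩; exact ⟨u, hu, rfl⟩
  have hU'p : IsPGroup p U' := hU.map _
  obtain ⟨Q, hQ⟩ := (hU'p.comap_subtype (K := K)).exists_le_sylow
  obtain ⟨k, hk⟩ := MulAction.exists_smul_eq K P₀ Q
  refine ⟨g * k, G.mul_mem hgG ((hK k).mp k.2).1, ?_, ?_⟩
  · -- normalizer
    have hinv : (g * (k : Perm α))⁻¹ ∈ Subgroup.normalizer (U : Set (Perm α)) := by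
      apply Subgroup.mem_normalizer_fintype
      intro u hu
      have hu' : g⁻¹ * u * g ∈ U' := (hU'mem _).mpr ⟨u, hu, rfl⟩
      have h1 : (⟨g⁻¹ * u * g, hconjK u hu⟩ : K) ∈ (Q : Subgroup K) := hQ hu'
      rw [← hk] at h1
      rw [Sylow.smul_def, Sylow.pointwise_smul_def] at h1
      have h2 := Subgroup.mem_pointwise_smul_iff_inv_smul_mem.mp h1
      have h3 : ((k : Perm α)⁻¹ * (g⁻¹ * u * g) * k) ∈ U := by
        have : (MulAut.conj k)⁻¹ • (⟨g⁻¹ * u * g, hconjK u hu⟩ : K) ∈ (P₀ : Subgroup K) := h2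
        have h4 : ((MulAut.conj k)⁻¹ • (⟨g⁻¹ * u * g, hconjK u hu⟩ : K) : K) =
            k⁻¹ * ⟨g⁻¹ * u * g, hconjK u hu⟩ * k := by
          simp [MulAut.smul_def]
        rw [h4] at this
        exact this
      have h5 : (g * (k : Perm α))⁻¹ * u * (g * (k : Perm α))⁻¹⁻¹ =
          (k : Perm α)⁻¹ * (g⁻¹ * u * g) * k := by
        group
      rw [SetLike.mem_coe, h5]
      exact h3
    have := Subgroup.inv_mem _ hinv
    simpa using this
  · intro i
    have hki : (k : Perm α) (x₀ i) = x₀ i := ((hK k).mp k.2).2 i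
    rw [Perm.mul_apply, hki, hgx]

end Cfsg.Agent.Lib.Helper64
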