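import Mathlib
import Cfsg.Agent.Lib.Helper64.Miller1

set_option autoImplicit false

namespace Cfsg.Agent.Lib.Helper64

open MulAction Equiv Equiv.Perm Subgroup
open scoped Pointwise

variable {α : Type*} [Fintype α] [DecidableEq α]

/-- orbit-stabiliser for a subgroup of `Perm α`, with the stabiliser written as an intersection -/
theorem card_eq_stab_mul_orbit (H : Subgroup (Perm α)) (ω : α) :
    Nat.card H = Nat.card (H ⊓ stabilizer (Perm α) ω : Subgroup (Perm α)) * (orbit H ω).ncard := by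
  have h1 : (H ⊓ stabilizer (Perm α) ω).subgroupOf H = stabilizer H ω := by
    ext ⟨g, hg⟩
    simp only [Subgroup.mem_subgroupOf, Subgroup.mem_inf, mem_stabilizer_iff]
    constructor
    · rintro ⟨-, h⟩; exact h
    · intro h; exact ⟨hg, h⟩
  have h2 : Nat.card ((H ⊓ stabilizer (Perm α) ω).subgroupOf H) =
      Nat.card (H ⊓ stabilizer (Perm α) ω : Subgroup (Perm α)) :=
    Nat.card_congr (Subgroup.subgroupOfEquivOfLe inf_le_left).toEquiv
  rw [← h2, h1, ← index_stabilizer, Subgroup.card_mul_index]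

/-- the orbits of a Sylow `p`-subgroup on an orbit of length `m * p` with `m < p` have length `p`,
and its point stabilisers are Sylow subgroups of the point stabilisers -/
theorem sylow_orbit (H P : Subgroup (Perm α)) {p : ℕ} [hp : Fact p.Prime] (hPH : P ≤ H)
    (hP : IsPGroup p P) (hidx : ¬ p ∣ (P.subgroupOf H).index) (ω : α) {m : ℕ} (hm : m < p)
    (horb : (orbit H ω).ncard = m * p) :
    (orbit P ω).ncard = p ∧
      ¬ p ∣ ((P ⊓ stabilizer (Perm α) ω).subgroupOf (H ⊓ stabilizer (Perm α) ω)).index := by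
  classical
  set S := stabilizer (Perm α) ω with hS
  -- cardinalities
  have hc1 : Nat.card H = Nat.card P * (P.subgroupOf H).index := by
    rw [← Subgroup.card_mul_index (P.subgroupOf H),
      Nat.card_congr (Subgroup.subgroupOfEquivOfLe hPH).toEquiv]
  have hc2 := card_eq_stab_mul_orbit H ω
  have hc3 := card_eq_stab_mul_orbit P ω
  have hle : P ⊓ S ≤ H ⊓ S := inf_le_inf_right S hPH
  have hc4 : Nat.card (H ⊓ S : Subgroup (Perm α)) =
      Nat.card (P ⊓ S : Subgroup (Perm α)) * ((P ⊓ S).subgroupOf (H ⊓ S)).index := by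
    rw [← Subgroup.card_mul_index ((P ⊓ S).subgroupOf (H ⊓ S)),
      Nat.card_congr (Subgroup.subgroupOfEquivOfLe hle).toEquiv]
  obtain ⟨e, he⟩ := hP.card_orbit ω
  rw [Nat.card_coe_set_eq] at he
  set c := (P.subgroupOf H).index with hcdef
  set d := ((P ⊓ S).subgroupOf (H ⊓ S)).index with hddef
  set b := Nat.card (P ⊓ S : Subgroup (Perm α)) with hbdef
  have hbpos : 0 < b := Nat.card_pos
  -- `p ^ e * c = m * p * d`
  have hkey : p ^ e * c = m * p * d := by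
    have h1 : b * (p ^ e * c) = b * (m * p * d) := by
      calc b * (p ^ e * c) = (b * p ^ e) * c := by ring
        _ = Nat.card P * c := by rw [hc3, he]
        _ = Nat.card H := hc1.symm
        _ = Nat.card (H ⊓ S : Subgroup (Perm α)) * (m * p) := by rw [hc2, horb]
        _ = b * d * (m * p) := by rw [hc4]
        _ = b * (m * p * d) := by ring
    exact Nat.eq_of_mul_eq_mul_left hbpos h1
  -- `p ^ e ≤ m * p < p ^ 2`
  have hsub : orbit P ω ⊆ orbit H ω := by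
    rintro _ ⟨⟨g, hg⟩, rfl⟩
    exact ⟨⟨g, hPH hg⟩, rfl⟩
  have hle2 : p ^ e ≤ m * p := by
    rw [← he, ← horb]
    exact Set.ncard_le_ncard hsub (Set.toFinite _)
  have hp2 : 2 ≤ p := hp.out.two_le
  have hlt : p ^ e < p ^ 2 := by
    calc p ^ e ≤ m * p := hle2
      _ < p * p := Nat.mul_lt_mul_of_pos_right hm (by omega)
      _ = p ^ 2 := by ring
  have he1 : e < 2 := (Nat.pow_lt_pow_iff_right (by omega)).mp hlt
  have he0 : e ≠ 0 := by
    rintro rfl
    apply hidx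
    rw [pow_zero, one_mul] at hkey
    rw [hkey]
    exact ⟨m * d, by ring⟩
  have he' : e = 1 := by omega
  subst he'
  rw [pow_one] at he hkey
  refine ⟨he, ?_⟩
  intro hdvd
  apply hidx
  have h2 : c = m * d := by
    have : p * c = p * (m * d) := by rw [hkey]; ring
    exact Nat.eq_of_mul_eq_mul_left (by omega) this
  rw [h2]
  exact Dvd.dvd.mul_left hdvd m

end Cfsg.Agent.Lib.Helper64

namespace Cfsg.Agent.Lib.Helper64

open MulAction Equiv Equiv.Perm Subgroup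
open scoped Pointwise

variable {α : Type*} [Fintype α] [DecidableEq α]

/-- in a `p`-group with an orbit of length `p`, an element fixing a point of the orbit fixes the
whole orbit -/
theorem pgroup_fix_orbit (R : Subgroup (Perm α)) {p : ℕ} [hp : Fact p.Prime] (hR : IsPGroup p R)
    (y : α) (horb : (orbit R y).ncard = p) (s : Perm α) (hs : s ∈ R) (z : α)
    (hz : z ∈ orbit R y) (hsz : s z = z) : ∀ z' ∈ orbit R y, s z' = z' := by
  classical
  have horbz : orbit R z = orbit R y := orbit_eq_iff.mpr hz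
  have hidx : (stabilizer R z).index = p := by
    rw [index_stabilizer, horbz, horb]
  have hnorm : (stabilizer R z).Normal := by
    apply Subgroup.normal_of_index_eq_minFac_card
    rw [hidx]
    obtain ⟨n, hn⟩ := IsPGroup.iff_card.mp hR
    have hn0 : n ≠ 0 := by
      rintro rfl
      rw [pow_zero] at hn
      have h1 := Subgroup.index_dvd_card (stabilizer R z)
      rw [hidx, hn] at h1
      exact hp.out.one_lt.ne' (Nat.dvd_one.mp h1)
    rw [hn, Nat.Prime.pow_minFac hp.out hn0]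
  intro z' hz'
  rw [← horbz] at hz'
  obtain ⟨r, rfl⟩ := hz'
  have h1 : (⟨s, hs⟩ : R) ∈ stabilizer R z := hsz
  have h2 := hnorm.conj_mem _ h1 r⁻¹
  have h3 : (r⁻¹ * ⟨s, hs⟩ * r⁻¹⁻¹ : R) • z = z := h2
  have h4 : ((r : Perm α)⁻¹ * s * r) z = z := by
    have : ((r⁻¹ * ⟨s, hs⟩ * r⁻¹⁻¹ : R) : Perm α) = (r : Perm α)⁻¹ * s * r := by
      simp
    rw [← this]
    exact h3
  have h5 : s ((r : Perm α) z) = (r : Perm α) z := by
    have := congrArg (fun w => (r : Perm α) w) h4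
    simpa [Perm.mul_apply] using this
  exact h5

/-- in a `p`-group with an orbit of length `p` on which a subgroup `Q` is still transitive, every
element acts on the orbit like an element of `Q` -/
theorem pgroup_orbit_eq (R Q : Subgroup (Perm α)) {p : ℕ} [hp : Fact p.Prime] (hR : IsPGroup p R)
    (hQR : Q ≤ R) (y : α) (horb : (orbit R y).ncard = p) (horbQ : (orbit Q y).ncard = p) :
    orbit Q y = orbit R y := by
  apply Set.eq_of_subset_of_ncard_le
  · rintro _ ⟨⟨q, hq⟩, rfl⟩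
    exact ⟨⟨q, hQR hq⟩, rfl⟩
  · rw [horb, horbQ]
  · exact Set.toFinite _

theorem pgroup_act_like (R Q : Subgroup (Perm α)) {p : ℕ} [hp : Fact p.Prime] (hR : IsPGroup p R)
    (hQR : Q ≤ R) (y : α) (horb : (orbit R y).ncard = p) (horbQ : (orbit Q y).ncard = p)
    (a : Perm α) (ha : a ∈ R) : ∃ q ∈ Q, ∀ z ∈ orbit R y, a z = q z := by
  have heq := pgroup_orbit_eq R Q hR hQR y horb horbQ
  have h1 : a y ∈ orbit Q y := by
    rw [heq]
    exact ⟨⟨a, ha⟩, rfl⟩
  obtain ⟨⟨q, hq⟩, hqy⟩ := h1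
  have hqy' : q y = a y := hqy
  refine ⟨q, hq, ?_⟩
  have hs : q⁻¹ * a ∈ R := R.mul_mem (R.inv_mem (hQR hq)) ha
  have hsy : (q⁻¹ * a) y = y := by
    rw [Perm.mul_apply, ← hqy', perm_inv_apply]
  have := pgroup_fix_orbit R hR y horb (q⁻¹ * a) hs y (mem_orbit_self y) hsy
  intro z hz
  have h2 := this z hz
  rw [Perm.mul_apply, Perm.inv_eq_iff_eq] at h2
  exact h2

/-- a `p`-group acts on an orbit of length `p` as an abelian group -/
theorem pgroup_comm_on_orbit (Q : Subgroup (Perm α)) {p : ℕ} [hp : Fact p.Prime]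
    (hQ : IsPGroup p Q) (y : α) (horb : (orbit Q y).ncard = p) (q₁ q₂ : Perm α) (h₁ : q₁ ∈ Q)
    (h₂ : q₂ ∈ Q) : ∀ z ∈ orbit Q y, q₁ (q₂ z) = q₂ (q₁ z) := by
  classical
  -- an element moving `y`
  obtain ⟨q₀, hq₀, hq₀y⟩ : ∃ q₀ ∈ Q, q₀ y ≠ y := by
    by_contra hcon
    push Not at hcon
    have : orbit Q y = {y} := by
      ext w
      constructor
      · rintro ⟨⟨q, hq⟩, rfl⟩
        exact hcon q hq
      · rintro rfl
        exact mem_orbit_self _
    rw [this, Set.ncard_singleton] at horb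
    exact hp.out.one_lt.ne horb
  set Z : Subgroup (Perm α) := Subgroup.zpowers q₀ with hZ
  have hZQ : Z ≤ Q := by
    rw [hZ, Subgroup.zpowers_le]; exact hq₀
  have hZp : IsPGroup p Z := hQ.to_le hZQ
  have hsub : orbit Z y ⊆ orbit Q y := by
    rintro _ ⟨⟨q, hq⟩, rfl⟩
    exact ⟨⟨q, hZQ hq⟩, rfl⟩
  have horbZ : (orbit Z y).ncard = p := by
    obtain ⟨e, he⟩ := hZp.card_orbit y
    rw [Nat.card_coe_set_eq] at he
    have hle : p ^ e ≤ p := by
      rw [← he, ← horb]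
      exact Set.ncard_le_ncard hsub (Set.toFinite _)
    have he0 : e ≠ 0 := by
      rintro rfl
      rw [pow_zero] at he
      obtain ⟨w, hw⟩ := Set.ncard_eq_one.mp he
      have h1 : y ∈ orbit Z y := mem_orbit_self y
      have h2 : q₀ y ∈ orbit Z y := ⟨⟨q₀, Subgroup.mem_zpowers q₀⟩, rfl⟩
      rw [hw, Set.mem_singleton_iff] at h1 h2
      exact hq₀y (h2.trans h1.symm)
    have he1 : e ≤ 1 := by
      by_contra hcon
      push Not at hcon
      have : p ^ 2 ≤ p ^ e := Nat.pow_le_pow_right hp.out.pos hcon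
      have h2 : p < p ^ 2 := by
        have := hp.out.one_lt
        nlinarith
      omega
    have : e = 1 := by omega
    rw [he, this, pow_one]
  have key : ∀ q ∈ Q, ∃ i : ℤ, ∀ z ∈ orbit Q y, q z = (q₀ ^ i) z := by
    intro q hq
    obtain ⟨u, hu, huz⟩ := pgroup_act_like Q Z hQ hZQ y horb horbZ q hq
    obtain ⟨i, rfl⟩ := Subgroup.mem_zpowers_iff.mp hu
    exact ⟨i, huz⟩
  obtain ⟨i, hi⟩ := key q₁ h₁
  obtain ⟨j, hj⟩ := key q₂ h₂
  intro z hz
  have hz1 : q₁ z ∈ orbit Q y := by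
    obtain ⟨r, rfl⟩ := hz
    exact ⟨⟨q₁, h₁⟩ * r, rfl⟩
  have hz2 : q₂ z ∈ orbit Q y := by
    obtain ⟨r, rfl⟩ := hz
    exact ⟨⟨q₂, h₂⟩ * r, rfl⟩
  rw [hi _ hz2, hj z hz, hj _ hz1, hi z hz]
  exact Perm.zpow_apply_comm q₀ i j

end Cfsg.Agent.Lib.Helper64

namespace Cfsg.Agent.Lib.Helper64

open MulAction Equiv Equiv.Perm Subgroup
open scoped Pointwise

variable {α : Type*} [Fintype α] [DecidableEq α]

/-- two elements of two `p`-groups containing a common subgroup `Q`, all three with the same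
orbit of length `p` through `y`, have a commutator fixing `y` -/
theorem pgroup_commutator_fix (Q R₁ R₂ : Subgroup (Perm α)) {p : ℕ} [hp : Fact p.Prime]
    (hR₁ : IsPGroup p R₁) (hR₂ : IsPGroup p R₂) (hQ₁ : Q ≤ R₁) (hQ₂ : Q ≤ R₂) (y : α)
    (horbQ : (orbit Q y).ncard = p) (horb₁ : (orbit R₁ y).ncard = p)
    (horb₂ : (orbit R₂ y).ncard = p) (a₁ a₂ : Perm α) (ha₁ : a₁ ∈ R₁) (ha₂ : a₂ ∈ R₂) :
    (a₁ * a₂ * a₁⁻¹ * a₂⁻¹) y = y := by
  have hQp : IsPGroup p Q := hR₁.to_le hQ₁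
  have heq₁ := pgroup_orbit_eq R₁ Q hR₁ hQ₁ y horb₁ horbQ
  have heq₂ := pgroup_orbit_eq R₂ Q hR₂ hQ₂ y horb₂ horbQ
  obtain ⟨q₁, hq₁, h₁⟩ := pgroup_act_like R₁ Q hR₁ hQ₁ y horb₁ horbQ a₁ ha₁
  obtain ⟨q₂, hq₂, h₂⟩ := pgroup_act_like R₂ Q hR₂ hQ₂ y horb₂ horbQ a₂ ha₂
  rw [← heq₁] at h₁
  rw [← heq₂] at h₂
  -- the orbit is stable under elements of `Q`
  have hstab : ∀ q ∈ Q, ∀ z ∈ orbit Q y, q z ∈ orbit Q y := by
    intro q hq z hz
    obtain ⟨r, rfl⟩ := hz
    exact ⟨⟨q, hq⟩ * r, rfl⟩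
  have hinv₁ : ∀ z ∈ orbit Q y, a₁⁻¹ z = q₁⁻¹ z := by
    intro z hz
    rw [Perm.inv_eq_iff_eq, h₁ _ (hstab _ (Q.inv_mem hq₁) z hz), perm_apply_inv]
  have hinv₂ : ∀ z ∈ orbit Q y, a₂⁻¹ z = q₂⁻¹ z := by
    intro z hz
    rw [Perm.inv_eq_iff_eq, h₂ _ (hstab _ (Q.inv_mem hq₂) z hz), perm_apply_inv]
  have hy : y ∈ orbit Q y := mem_orbit_self y
  have hz1 : q₂⁻¹ y ∈ orbit Q y := hstab _ (Q.inv_mem hq₂) y hy
  have hz2 : q₁⁻¹ (q₂⁻¹ y) ∈ orbit Q y := hstab _ (Q.inv_mem hq₁) _ hz1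
  have hz3 : q₂ (q₁⁻¹ (q₂⁻¹ y)) ∈ orbit Q y := hstab _ hq₂ _ hz2
  simp only [Perm.mul_apply]
  rw [hinv₂ y hy, hinv₁ _ hz1, h₂ _ hz2, h₁ _ hz3]
  rw [pgroup_comm_on_orbit Q hQp y horbQ q₁ q₂ hq₁ hq₂ _ hz2, perm_apply_inv, perm_apply_inv]

end Cfsg.Agent.Lib.Helper64
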