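import Mathlib
import Cfsg.Agent.Lib.Helper64.Miller1

set_option autoImplicit false
set_option linter.unusedSimpArgs false

namespace Cfsg.Agent.Lib.Helper64

open MulAction Equiv Equiv.Perm Subgroup
open scoped commutatorElement

variable {β : Type*} [Fintype β] [DecidableEq β]

/-- the alternating group lies in the commutator subgroup of the symmetric group -/
theorem alt_le_commutator_perm : alternatingGroup β ≤ commutator (Perm β) := by
  rw [← closure_three_cycles_eq_alternating, Subgroup.closure_le]
  intro σ hσ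
  have h3 : IsThreeCycle σ := hσ
  have hconj : IsConj σ σ⁻¹ := by
    rw [isConj_iff_cycleType_eq, cycleType_inv]
  obtain ⟨τ, hτ⟩ := isConj_iff.mp hconj
  have hσ3 : σ ^ 3 = 1 := by
    rw [← h3.orderOf]; exact pow_orderOf_eq_one σ
  have h1 : σ = ⁅τ, σ⁆ := by
    rw [commutatorElement_def, hτ]
    have : σ⁻¹ * σ⁻¹ * σ ^ 3 = σ := by
      rw [pow_succ, pow_two]; group
    rw [hσ3, mul_one] at this
    exact this.symm
  rw [SetLike.mem_coe, h1, _root_.commutator_def]
  exact Subgroup.commutator_mem_commutator (Subgroup.mem_top _) (Subgroup.mem_top _)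

/-- a double transposition is an involution -/
theorem swap_mul_swap_sq {a b c d : β} (hab : a ≠ b) (hcd : c ≠ d) (hac : a ≠ c) (had : a ≠ d)
    (hbc : b ≠ c) (hbd : b ≠ d) :
    (swap a b * swap c d) * (swap a b * swap c d) = 1 ∧ swap a b * swap c d ≠ 1 := by
  constructor
  · ext x
    simp only [Perm.mul_apply, Perm.one_apply]
    grind
  · intro h
    have := congrArg (fun f : Perm β => f a) h
    simp only [Perm.mul_apply, Perm.one_apply] at this
    grind

/-- a nontrivial normal subgroup of the symmetric group contains an element whose `p`-th power is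
not trivial -/
theorem normal_perm_exists (M : Subgroup (Perm β)) [hM : M.Normal] (hM1 : M ≠ ⊥) {p : ℕ}
    (hp : p.Prime) (hp2 : p ≠ 2)
    (hcard : 4 ≤ Fintype.card β ∨ (3 ≤ Fintype.card β ∧ p ≠ 3)) :
    ∃ y ∈ M, y ^ p ≠ 1 := by
  classical
  have hodd : Odd p := hp.odd_of_ne_two hp2
  -- involutions are fine
  have hinv : ∀ v ∈ M, v * v = 1 → v ≠ 1 → ∃ y ∈ M, y ^ p ≠ 1 := by
    intro v hv hvv hv1
    refine ⟨v, hv, ?_⟩
    obtain ⟨m, rfl⟩ := hodd
    rw [pow_succ, pow_mul, pow_two, hvv, one_pow, one_mul]
    exact hv1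
  have h3card : 3 ≤ Fintype.card β := by
    rcases hcard with h | h
    · omega
    · exact h.1
  -- from a three cycle
  have h3c : ∀ x y z : β, x ≠ y → x ≠ z → y ≠ z → swap x y * swap x z ∈ M →
      ∃ y ∈ M, y ^ p ≠ 1 := by
    intro x y z hxy hxz hyz hs
    by_cases hp3 : p = 3
    · -- need a fourth point
      have h4 : 4 ≤ Fintype.card β := by
        rcases hcard with h | h
        · exact h
        · exact absurd hp3 h.2
      obtain ⟨d, hd⟩ : ∃ d, d ∉ ({x, y, z} : Finset β) := by
        by_contra hcon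
        push Not at hcon
        have : ({x, y, z} : Finset β) = Finset.univ := Finset.eq_univ_iff_forall.mpr hcon
        have h5 : Finset.card ({x, y, z} : Finset β) ≤ 3 := Finset.card_le_three
        rw [this, Finset.card_univ] at h5
        omega
      simp only [Finset.mem_insert, Finset.mem_singleton, not_or] at hd
      obtain ⟨hdx, hdy, hdz⟩ := hd
      -- the conjugate by `swap x d`
      have hs' : swap x d * (swap x y * swap x z) * (swap x d)⁻¹ ∈ M := hM.conj_mem _ hs _
      have hprod : swap x y * swap x z * (swap x d * (swap x y * swap x z) * (swap x d)⁻¹) =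
          swap x z * swap y d := by
        have hdx' : d ≠ x := hdx
        have hdy' : d ≠ y := hdy
        have hdz' : d ≠ z := hdz
        ext w
        simp only [Perm.mul_apply, swap_inv]
        by_cases h1 : w = x
        · subst h1
          simp [swap_apply_of_ne_of_ne, hxy, hxz, hyz, hdx', hdy', hdz', hxy.symm, hxz.symm,
            hyz.symm, hdx'.symm, hdy'.symm, hdz'.symm]
        by_cases h2 : w = y
        · subst h2
          simp [swap_apply_of_ne_of_ne, hxy, hxz, hyz, hdx', hdy', hdz', hxy.symm, hxz.symm,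
            hyz.symm, hdx'.symm, hdy'.symm, hdz'.symm]
        by_cases h3 : w = z
        · subst h3
          simp [swap_apply_of_ne_of_ne, hxy, hxz, hyz, hdx', hdy', hdz', hxy.symm, hxz.symm,
            hyz.symm, hdx'.symm, hdy'.symm, hdz'.symm]
        by_cases h4 : w = d
        · subst h4
          simp [swap_apply_of_ne_of_ne, hxy, hxz, hyz, hdx', hdy', hdz', hxy.symm, hxz.symm,
            hyz.symm, hdx'.symm, hdy'.symm, hdz'.symm]
        · simp [swap_apply_of_ne_of_ne, h1, h2, h3, h4]
      obtain ⟨h1, h2⟩ := swap_mul_swap_sq hxz (Ne.symm hdy) hxy (Ne.symm hdx) (Ne.symm hyz)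
        (Ne.symm hdz)
      apply hinv (swap x z * swap y d) _ h1 h2
      rw [← hprod]
      exact M.mul_mem hs hs'
    · refine ⟨_, hs, ?_⟩
      intro h
      have h3 := (isThreeCycle_swap_mul_swap_same hxy hxz hyz).orderOf
      have := orderOf_dvd_of_pow_eq_one h
      rw [h3] at this
      exact hp3 ((Nat.prime_dvd_prime_iff_eq Nat.prime_three hp).mp this).symm
  -- a nontrivial element
  obtain ⟨w, hw1⟩ := (Subgroup.ne_bot_iff_exists_ne_one).mp hM1
  have hw1' : (w : Perm β) ≠ 1 := fun h => hw1 (Subtype.ext h)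
  obtain ⟨a, ha⟩ : ∃ a, (w : Perm β) a ≠ a := by
    by_contra hcon
    push Not at hcon
    exact hw1' (Perm.ext hcon)
  set b := (w : Perm β) a with hb
  obtain ⟨c, hc⟩ : ∃ c, c ∉ ({a, b} : Finset β) := by
    by_contra hcon
    push Not at hcon
    have : ({a, b} : Finset β) = Finset.univ := Finset.eq_univ_iff_forall.mpr hcon
    have h5 : Finset.card ({a, b} : Finset β) ≤ 2 := Finset.card_le_two
    rw [this, Finset.card_univ] at h5
    omega
  simp only [Finset.mem_insert, Finset.mem_singleton, not_or] at hc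
  obtain ⟨hca, hcb⟩ := hc
  set e := (w : Perm β) c with he
  have heb : e ≠ b := fun h => hca ((w : Perm β).injective h)
  have hv : (w : Perm β) * (swap a c * (w : Perm β)⁻¹ * (swap a c)⁻¹) ∈ M :=
    M.mul_mem w.2 (hM.conj_mem _ (M.inv_mem w.2) _)
  have hveq : (w : Perm β) * (swap a c * (w : Perm β)⁻¹ * (swap a c)⁻¹) = swap b e * swap a c := by
    rw [hb, he, swap_apply_apply, swap_inv]
    group
  rw [hveq] at hv
  by_cases hea : e = a
  · rw [hea, swap_comm b a] at hv
    exact h3c a b c (Ne.symm ha) (Ne.symm hca) (Ne.symm hcb) hv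
  by_cases hec : e = c
  · rw [hec, swap_comm b c, swap_comm a c] at hv
    exact h3c c b a hcb hca ha hv
  · obtain ⟨h1, h2⟩ := swap_mul_swap_sq (Ne.symm heb) (Ne.symm hca) ha (Ne.symm hcb) hea hec
    exact hinv _ hv h1 h2

end Cfsg.Agent.Lib.Helper64
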