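import Mathlib
import Cfsg.Agent.Lib.Helper64.Miller1
import Cfsg.Agent.Lib.Helper64.Miller2
import Cfsg.Agent.Lib.Helper64.Miller3

set_option autoImplicit false

namespace Cfsg.Agent.Lib.Helper64

open MulAction Equiv Equiv.Perm Subgroup
open scoped Pointwise

variable {α : Type*} [Fintype α] [DecidableEq α]

/-- the elements of `G` fixing `Δ` pointwise -/
def fixG (G : Subgroup (Perm α)) (Δ : Finset α) : Subgroup (Perm α) where
  carrier := {g | g ∈ G ∧ ∀ d ∈ Δ, g d = d}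
  mul_mem' := by
    rintro a b ⟨ha, ha'⟩ ⟨hb, hb'⟩
    refine ⟨G.mul_mem ha hb, fun d hd => ?_⟩
    rw [Perm.mul_apply, hb' d hd, ha' d hd]
  one_mem' := ⟨G.one_mem, fun d _ => rfl⟩
  inv_mem' := by
    rintro a ⟨ha, ha'⟩
    refine ⟨G.inv_mem ha, fun d hd => ?_⟩
    rw [Perm.inv_eq_iff_eq, ha' d hd]

theorem mem_fixG {G : Subgroup (Perm α)} {Δ : Finset α} {g : Perm α} :
    g ∈ fixG G Δ ↔ g ∈ G ∧ ∀ d ∈ Δ, g d = d := Iff.rfl

/-- the commutator computation: `t` acts on the invariant set `S` as the three cycle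
`u → w → v → u`, and `g` fixes `v` and `w` -/
theorem comm_trick (g t : Perm α) (S : Finset α) (hgS : ∀ x ∈ S, g⁻¹ x ∈ S) (u v w : α)
    (huS : u ∈ S) (huv : u ≠ v) (huw : u ≠ w) (hvw : v ≠ w)
    (htu : t u = w) (htw : t w = v) (htv : t v = u)
    (ht : ∀ x ∈ S, x ≠ u → x ≠ v → x ≠ w → t x = x)
    (hgv : g v = v) (hgw : g w = w) (hgu : g u ≠ u) :
    (g * (t * g * t⁻¹) * g⁻¹ * (t * g * t⁻¹)⁻¹) u = w ∧
    ∀ x ∈ S, x ≠ u → x ≠ w → x ≠ g u → x ≠ g (g u) →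
      (g * (t * g * t⁻¹) * g⁻¹ * (t * g * t⁻¹)⁻¹) x = x := by
  have hti_u : t⁻¹ u = v := by rw [Perm.inv_eq_iff_eq, htv]
  have hti_w : t⁻¹ w = u := by rw [Perm.inv_eq_iff_eq, htu]
  have hti_v : t⁻¹ v = w := by rw [Perm.inv_eq_iff_eq, htw]
  have hti : ∀ x ∈ S, x ≠ u → x ≠ v → x ≠ w → t⁻¹ x = x := by
    intro x hx h1 h2 h3
    rw [Perm.inv_eq_iff_eq, ht x hx h1 h2 h3]
  have hgiv : g⁻¹ v = v := by rw [Perm.inv_eq_iff_eq, hgv]
  have hgiw : g⁻¹ w = w := by rw [Perm.inv_eq_iff_eq, hgw]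
  have hexp : ∀ x, (g * (t * g * t⁻¹) * g⁻¹ * (t * g * t⁻¹)⁻¹) x =
      g (t (g (t⁻¹ (g⁻¹ (t (g⁻¹ (t⁻¹ x))))))) := by
    intro x
    simp only [mul_inv_rev, inv_inv, Perm.mul_apply]
  -- facts about `g⁻¹ x` for `x ∈ S`
  have hpre : ∀ x ∈ S, x ≠ g u → x ≠ v → x ≠ w →
      g⁻¹ x ≠ u ∧ g⁻¹ x ≠ v ∧ g⁻¹ x ≠ w := by
    intro x _ h1 h2 h3
    refine ⟨?_, ?_, ?_⟩
    · intro h
      apply h1
      rw [← h, perm_apply_inv]
    · intro h
      apply h2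
      rw [Perm.inv_eq_iff_eq, hgv] at h
      exact h
    · intro h
      apply h3
      rw [Perm.inv_eq_iff_eq, hgw] at h
      exact h
  constructor
  · rw [hexp, hti_u, hgiv, htv]
    have h1 : g⁻¹ u ∈ S := hgS u huS
    obtain ⟨h2, h3, h4⟩ := hpre u huS (Ne.symm hgu) huv huw
    rw [hti _ h1 h2 h3 h4, perm_apply_inv, htu, hgw]
  · intro x hxS hxu hxw hxgu hxggu
    rw [hexp]
    by_cases hxv : x = v
    · subst hxv
      rw [hti_v, hgiw, htw, hgiv, hti_v, hgw, htw, hgv]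
    · rw [hti x hxS hxu hxv hxw]
      have h1 : g⁻¹ x ∈ S := hgS x hxS
      obtain ⟨h2, h3, h4⟩ := hpre x hxS hxgu hxv hxw
      rw [ht _ h1 h2 h3 h4]
      have h5 : g⁻¹ (g⁻¹ x) ∈ S := hgS _ h1
      have h6 : g⁻¹ x ≠ g u := by
        intro h
        apply hxggu
        rw [← h, perm_apply_inv]
      obtain ⟨h7, h8, h9⟩ := hpre _ h1 h6 h3 h4
      rw [hti _ h5 h7 h8 h9, perm_apply_inv, ht _ h1 h2 h3 h4, perm_apply_inv]

end Cfsg.Agent.Lib.Helper64
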