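import Mathlib
import Cfsg.Agent.Lib.Helper64.Miller5

set_option autoImplicit false

namespace Cfsg.Agent.Lib.Helper64

open MulAction Equiv Equiv.Perm Subgroup
open scoped Pointwise

universe u

variable {α : Type u} [Fintype α] [DecidableEq α]

/-- a subgroup `Q` of a `p`-group `P` moving a point of a `P`-orbit of length `p` is transitive on
that orbit -/
theorem sub_pgroup_orbit (Q P : Subgroup (Perm α)) {p : ℕ} [hp : Fact p.Prime] (hQP : Q ≤ P)
    (hQp : IsPGroup p Q) (x : α) (hP : (orbit P x).ncard = p) (hmove : ∃ q ∈ Q, q x ≠ x) :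
    (orbit Q x).ncard = p := by
  obtain ⟨q₀, hq₀, hq₀x⟩ := hmove
  have hsub : orbit Q x ⊆ orbit P x := by
    rintro _ ⟨⟨q, hq⟩, rfl⟩
    exact ⟨⟨q, hQP hq⟩, rfl⟩
  obtain ⟨e, he⟩ := hQp.card_orbit x
  rw [Nat.card_coe_set_eq] at he
  have hle : p ^ e ≤ p := by
    rw [← he, ← hP]
    exact Set.ncard_le_ncard hsub (Set.toFinite _)
  have he0 : e ≠ 0 := by
    rintro rfl
    rw [pow_zero] at he
    obtain ⟨w, hw⟩ := Set.ncard_eq_one.mp he
    have h1 : x ∈ orbit Q x := mem_orbit_self x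
    have h2 : q₀ x ∈ orbit Q x := ⟨⟨q₀, hq₀⟩, rfl⟩
    rw [hw, Set.mem_singleton_iff] at h1 h2
    exact hq₀x (h2.trans h1.symm)
  have he1 : e ≤ 1 := by
    by_contra hcon
    push Not at hcon
    have : p ^ 2 ≤ p ^ e := Nat.pow_le_pow_right hp.out.pos hcon
    have h2 : p < p ^ 2 := by
      have := hp.out.one_lt
      nlinarith
    omega
  have : e = 1 := by omega
  rw [he, this, pow_one]

/-- the inductive step when the stabiliser of a further point in the Sylow subgroup is not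
trivial -/
theorem miller_step_b (G : Subgroup (Perm α)) {k p r : ℕ} [hp : Fact p.Prime]
    (hG : IsMultiplyPretransitive G α (r + 1)) (hcard : Fintype.card α = k * p + r)
    (hkp : k < p) (hkr : k < r) (hr3 : 3 ≤ r) (hp3 : 3 ≤ p)
    (x₀ : Fin (r + 1) ↪ α) (Δ : Finset α)
    (hΔ : ∀ x, x ∈ Δ ↔ ∃ i : Fin r, x₀ (Fin.castSucc i) = x)
    (P : Subgroup (Perm α)) (hPH : P ≤ fixG G Δ) (hPp : IsPGroup p P)
    (hPorb : ∀ ω, ω ∉ Δ → (orbit P ω).ncard = p ∧
      ¬ p ∣ ((P ⊓ stabilizer (Perm α) ω).subgroupOf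
        (fixG G Δ ⊓ stabilizer (Perm α) ω)).index)
    (hQ : P ⊓ stabilizer (Perm α) (x₀ (Fin.last r)) ≠ ⊥)
    (IH : ∀ (β : Type u) [Fintype β] [DecidableEq β] (G' : Subgroup (Perm β)) (j : ℕ),
      Fintype.card β = j * p + r → 1 ≤ j → j < k → IsMultiplyPretransitive G' β (r + 1) →
      alternatingGroup β ≤ G') :
    alternatingGroup α ≤ G := by
  classical
  set ω₀ := x₀ (Fin.last r) with hω₀def
  set H := fixG G Δ with hHdef
  set Q := P ⊓ stabilizer (Perm α) ω₀ with hQdef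
  set K := H ⊓ stabilizer (Perm α) ω₀ with hKdef
  have hω₀Δ : ω₀ ∉ Δ := by
    rw [hΔ]
    rintro ⟨i, hi⟩
    have := x₀.injective hi
    exact (Fin.castSucc_lt_last i).ne this
  have hn : r + 1 ≤ Fintype.card α := by
    have := Fintype.card_le_of_embedding x₀
    simpa using this
  -- the stabiliser of the base tuple
  have hK : ∀ g, g ∈ K ↔ g ∈ G ∧ ∀ i, g (x₀ i) = x₀ i := by
    intro g
    rw [hKdef, Subgroup.mem_inf, hHdef, mem_fixG, mem_stabilizer_iff]
    constructor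
    · rintro ⟨⟨hg, hd⟩, hω⟩
      refine ⟨hg, fun i => ?_⟩
      rcases Fin.eq_castSucc_or_eq_last i with ⟨j, rfl⟩ | rfl
      · exact hd _ ((hΔ _).mpr ⟨j, rfl⟩)
      · exact hω
    · rintro ⟨hg, hi⟩
      refine ⟨⟨hg, fun d hd => ?_⟩, hi (Fin.last r)⟩
      obtain ⟨j, rfl⟩ := (hΔ d).mp hd
      exact hi _
  have hQK : Q ≤ K := inf_le_inf_right _ hPH
  have hQP : Q ≤ P := inf_le_left
  have hQp : IsPGroup p Q := hPp.to_le hQP
  have hQidx := (hPorb ω₀ hω₀Δ).2
  -- the fixed points of `Q`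
  set S : Finset α := Finset.univ.filter (fun x => ∀ q ∈ Q, q x = x) with hSdef
  have hSmem : ∀ x, x ∈ S ↔ ∀ q ∈ Q, q x = x := by
    intro x
    simp [hSdef]
  have hΔS : Δ ⊆ S := by
    intro d hd
    rw [hSmem]
    intro q hq
    exact (mem_fixG.mp (hPH hq.1)).2 d hd
  have hω₀S : ω₀ ∈ S := by
    rw [hSmem]
    intro q hq
    exact hq.2
  -- the normaliser of `Q`
  set A : Subgroup (Perm α) := G ⊓ Subgroup.normalizer (Q : Set (Perm α)) with hAdef
  have hAS : ∀ a ∈ A, ∀ x, x ∈ S → a x ∈ S := by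
    intro a ha x hx
    rw [hSmem] at hx ⊢
    intro q hq
    have h1 : a⁻¹ * q * a⁻¹⁻¹ ∈ Q :=
      (Subgroup.mem_normalizer_iff.mp (Subgroup.inv_mem _ ha.2) q).mp hq
    have h2 := hx _ h1
    simp only [inv_inv, Perm.mul_apply] at h2
    rw [Perm.inv_eq_iff_eq] at h2
    exact h2
  have hAS' : ∀ a ∈ A, ∀ x, a x ∈ S ↔ x ∈ S := by
    intro a ha x
    refine ⟨fun h => ?_, hAS a ha x⟩
    have := hAS a⁻¹ (A.inv_mem ha) _ h
    rwa [perm_inv_apply] at this
  let res : A →* Perm S :=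
    { toFun := fun a => (a : Perm α).subtypePerm (hAS' a a.2)
      map_one' := by ext x; rfl
      map_mul' := fun a b => by ext x; rfl }
  have hres : ∀ (a : A) (x : S), ((res a x : S) : α) = (a : Perm α) x := fun a x => rfl
  set G' : Subgroup (Perm S) := res.range with hG'def
  -- transitivity of the normaliser on the fixed points
  have hwitt : ∀ z : Fin (r + 1) ↪ S, ∃ n ∈ A, ∀ i, n (x₀ i) = z i := by
    intro z
    obtain ⟨n, hnG, hnN, hn⟩ := witt G hG x₀ K Q hK hQK hQp hQidx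
      (z.trans (Function.Embedding.subtype _)) (by
        intro u hu i
        exact (hSmem _).mp (z i).2 u hu)
    exact ⟨n, ⟨hnG, hnN⟩, hn⟩
  have hG' : IsMultiplyPretransitive G' S (r + 1) := by
    rw [MulAction.isMultiplyPretransitive_iff]
    intro x y
    obtain ⟨n₁, hn₁, h₁⟩ := hwitt x
    obtain ⟨n₂, hn₂, h₂⟩ := hwitt y
    refine ⟨⟨res ⟨n₂ * n₁⁻¹, A.mul_mem hn₂ (A.inv_mem hn₁)⟩, ⟨_, rfl⟩⟩, ?_⟩
    ext i
    show ((res ⟨n₂ * n₁⁻¹, _⟩ (x i) : S) : α) = (y i : α)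
    rw [hres]
    simp only [Perm.mul_apply]
    rw [← h₁ i, perm_inv_apply, h₂ i]
  -- the number of fixed points
  have hΔcard : Δ.card = r := by
    have : Δ = Finset.univ.map (Fin.castSuccEmb.trans x₀) := by
      ext x
      rw [hΔ]
      simp
    rw [this, Finset.card_map, Finset.card_univ, Fintype.card_fin]
  have hScard1 : r + 1 ≤ S.card := by
    have h1 : insert ω₀ Δ ⊆ S := Finset.insert_subset hω₀S hΔS
    have h2 := Finset.card_le_card h1
    rw [Finset.card_insert_of_notMem hω₀Δ, hΔcard] at h2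
    exact h2
  have hScard2 : S.card < Fintype.card α := by
    obtain ⟨q, hq1⟩ := (Subgroup.ne_bot_iff_exists_ne_one).mp hQ
    have hq1' : (q : Perm α) ≠ 1 := fun h => hq1 (Subtype.ext h)
    obtain ⟨x, hx⟩ : ∃ x, (q : Perm α) x ≠ x := by
      by_contra hcon
      push Not at hcon
      exact hq1' (Perm.ext hcon)
    have hxS : x ∉ S := by
      rw [hSmem]
      intro h
      exact hx (h q q.2)
    rw [← Finset.card_univ]
    apply Finset.card_lt_card
    rw [Finset.ssubset_univ_iff]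
    intro h
    rw [h] at hxS
    exact hxS (Finset.mem_univ x)
  have hmod : Fintype.card α ≡ S.card [MOD p] := by
    have h1 := hQp.card_modEq_card_fixedPoints α
    rw [Nat.card_eq_fintype_card] at h1
    have h2 : Nat.card (fixedPoints Q α) = S.card := by
      have : (fixedPoints Q α) = (S : Set α) := by
        ext x
        simp only [mem_fixedPoints, Finset.mem_coe, hSmem, Subtype.forall]
        rfl
      rw [this, Nat.card_coe_set_eq, Set.ncard_coe_finset]
    rw [h2] at h1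
    exact h1
  obtain ⟨j, hj⟩ : ∃ j, S.card = j * p + r := by
    have h1 : r ≡ S.card [MOD p] := by
      have : k * p + r ≡ r [MOD p] := by
        have : k * p + r ≡ 0 + r [MOD p] :=
          Nat.ModEq.add_right r ((Nat.modEq_zero_iff_dvd).mpr (Dvd.intro_left k rfl))
        simpa using this
      exact this.symm.trans (hcard ▸ hmod)
    have h2 : p ∣ S.card - r := (Nat.modEq_iff_dvd' (by omega)).mp h1
    obtain ⟨j, hj⟩ := h2
    exact ⟨j, by rw [mul_comm]; omega⟩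
  have hj1 : 1 ≤ j := by
    by_contra hcon
    push Not at hcon
    have : j = 0 := by omega
    rw [this] at hj
    omega
  have hjk : j < k := by
    by_contra hcon
    push Not at hcon
    have : k * p ≤ j * p := Nat.mul_le_mul_right p hcon
    omega
  -- the induction hypothesis
  have halt : alternatingGroup S ≤ G' :=
    IH S G' j (by rw [Fintype.card_coe, hj]) hj1 hjk hG'
  -- three points
  set u := ω₀ with hudef
  set v := x₀ (Fin.castSucc (⟨0, by omega⟩ : Fin r)) with hvdef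
  set w := x₀ (Fin.castSucc (⟨1, by omega⟩ : Fin r)) with hwdef
  have hvΔ : v ∈ Δ := (hΔ v).mpr ⟨_, rfl⟩
  have hwΔ : w ∈ Δ := (hΔ w).mpr ⟨_, rfl⟩
  have huv : u ≠ v := fun h => hω₀Δ (h ▸ hvΔ)
  have huw : u ≠ w := fun h => hω₀Δ (h ▸ hwΔ)
  have hvw : v ≠ w := by
    intro h
    have := x₀.injective h
    simp [Fin.ext_iff] at this
  have hvS : v ∈ S := hΔS hvΔ
  have hwS : w ∈ S := hΔS hwΔ
  -- the three cycle
  have huv' : (⟨u, hω₀S⟩ : S) ≠ ⟨v, hvS⟩ := fun h => huv (congrArg Subtype.val h)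
  have huw' : (⟨u, hω₀S⟩ : S) ≠ ⟨w, hwS⟩ := fun h => huw (congrArg Subtype.val h)
  have hvw' : (⟨v, hvS⟩ : S) ≠ ⟨w, hwS⟩ := fun h => hvw (congrArg Subtype.val h)
  have hc3 := isThreeCycle_swap_mul_swap_same huv' huw' hvw'
  obtain ⟨t, ht⟩ := halt hc3.mem_alternatingGroup
  have htval : ∀ x : S, (t : Perm α) x = ((swap (⟨u, hω₀S⟩ : S) ⟨v, hvS⟩ *
      swap (⟨u, hω₀S⟩ : S) ⟨w, hwS⟩) x : S) := by
    intro x
    rw [← ht]
    rfl
  have htu : (t : Perm α) u = w := by
    have := htval ⟨u, hω₀S⟩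
    rw [Perm.mul_apply, swap_apply_left, swap_apply_of_ne_of_ne (Ne.symm huw') (Ne.symm hvw')]
      at this
    exact this
  have htw : (t : Perm α) w = v := by
    have := htval ⟨w, hwS⟩
    rw [Perm.mul_apply, swap_apply_right, swap_apply_left] at this
    exact this
  have htv : (t : Perm α) v = u := by
    have := htval ⟨v, hvS⟩
    rw [Perm.mul_apply, swap_apply_of_ne_of_ne (Ne.symm huv') hvw', swap_apply_right] at this
    exact this
  have htx : ∀ x ∈ S, x ≠ u → x ≠ v → x ≠ w → (t : Perm α) x = x := by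
    intro x hx h1 h2 h3
    have := htval ⟨x, hx⟩
    have e1 : (⟨x, hx⟩ : S) ≠ ⟨u, hω₀S⟩ := fun h => h1 (congrArg Subtype.val h)
    have e2 : (⟨x, hx⟩ : S) ≠ ⟨v, hvS⟩ := fun h => h2 (congrArg Subtype.val h)
    have e3 : (⟨x, hx⟩ : S) ≠ ⟨w, hwS⟩ := fun h => h3 (congrArg Subtype.val h)
    rw [Perm.mul_apply, swap_apply_of_ne_of_ne e1 e3, swap_apply_of_ne_of_ne e1 e2] at this
    exact this
  -- an element of `P` moving `u`
  obtain ⟨g, hgP, hgu⟩ : ∃ g ∈ P, g u ≠ u := by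
    by_contra hcon
    push Not at hcon
    have : orbit P u = {u} := by
      ext y
      constructor
      · rintro ⟨⟨a, ha⟩, rfl⟩
        exact hcon a ha
      · rintro rfl
        exact mem_orbit_self _
    have h1 := (hPorb u hω₀Δ).1
    rw [this, Set.ncard_singleton] at h1
    exact hp.out.one_lt.ne h1
  have hgH := mem_fixG.mp (hPH hgP)
  have hgv : g v = v := hgH.2 v hvΔ
  have hgw : g w = w := hgH.2 w hwΔ
  -- `Q` is normalised by `P`
  have hQnorm : ∀ a ∈ P, ∀ q ∈ Q, a * q * a⁻¹ ∈ Q := by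
    intro a ha q hq
    refine ⟨P.mul_mem (P.mul_mem ha hq.1) (P.inv_mem ha), ?_⟩
    show (a * q * a⁻¹) ω₀ = ω₀
    have h1 : a⁻¹ ω₀ ∈ orbit P ω₀ := ⟨⟨a⁻¹, P.inv_mem ha⟩, rfl⟩
    have h2 := pgroup_fix_orbit P hPp ω₀ (hPorb ω₀ hω₀Δ).1 q hq.1 ω₀ (mem_orbit_self _) hq.2
      _ h1
    simp only [Perm.mul_apply, h2, perm_apply_inv]
  have hgS : ∀ x ∈ S, g⁻¹ x ∈ S := by
    intro x hx
    rw [hSmem] at hx ⊢
    intro q hq
    have h1 := hx _ (hQnorm g hgP q hq)
    simp only [Perm.mul_apply] at h1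
    rw [← Perm.eq_inv_iff_eq] at h1
    exact h1
  -- the commutator
  set g' : Perm α := (t : Perm α) * g * (t : Perm α)⁻¹ with hg'def
  set ρ : Perm α := g * g' * g⁻¹ * g'⁻¹ with hρdef
  have hgG : g ∈ G := hgH.1
  have htG : (t : Perm α) ∈ G := t.2.1
  have hg'G : g' ∈ G := G.mul_mem (G.mul_mem htG hgG) (G.inv_mem htG)
  have hρG : ρ ∈ G := G.mul_mem (G.mul_mem (G.mul_mem hgG hg'G) (G.inv_mem hgG)) (G.inv_mem hg'G)
  obtain ⟨hρu', hρS'⟩ := comm_trick g (t : Perm α) S hgS u v w hω₀S huv huw hvw htu htw htv htx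
    hgv hgw hgu
  have hρu : ρ u = w := hρu'
  have hρS : ∀ x ∈ S, x ≠ u → x ≠ w → x ≠ g u → x ≠ g (g u) → ρ x = x := hρS'
  -- outside the fixed points
  have hρout : ∀ x, x ∉ S → ρ x = x := by
    intro x hxS
    have hxΔ : x ∉ Δ := fun h => hxS (hΔS h)
    have hmove : ∃ q ∈ Q, q x ≠ x := by
      by_contra hcon
      push Not at hcon
      exact hxS ((hSmem x).mpr hcon)
    have horbP := (hPorb x hxΔ).1
    have horbQ := sub_pgroup_orbit Q P hQP hQp x horbP hmove
    -- the conjugate of `P`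
    set P' : Subgroup (Perm α) := P.map (MulAut.conj (t : Perm α)).toMonoidHom with hP'def
    have hP'mem : ∀ b, b ∈ P' ↔ ∃ a ∈ P, b = (t : Perm α) * a * (t : Perm α)⁻¹ := by
      intro b
      simp only [hP'def, Subgroup.mem_map, MulEquiv.coe_toMonoidHom, MulAut.conj_apply]
      constructor
      · rintro ⟨a, ha, rfl⟩; exact ⟨a, ha, rfl⟩
      · rintro ⟨a, ha, rfl⟩; exact ⟨a, ha, rfl⟩
    have hP'p : IsPGroup p P' := hPp.map _
    have hQP' : Q ≤ P' := by
      intro q hq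
      rw [hP'mem]
      refine ⟨(t : Perm α)⁻¹ * q * (t : Perm α)⁻¹⁻¹, ?_, by group⟩
      exact hQP ((Subgroup.mem_normalizer_iff.mp (Subgroup.inv_mem _ t.2.2) q).mp hq)
    have htx' : (t : Perm α)⁻¹ x ∉ Δ := by
      intro h
      apply hxS
      have := hAS t t.2 _ (hΔS h)
      rwa [perm_apply_inv] at this
    have horbP' : (orbit P' x).ncard = p := by
      have : orbit P' x = (fun y => (t : Perm α) y) '' orbit P ((t : Perm α)⁻¹ x) := by
        ext y
        constructor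
        · rintro ⟨⟨b, hb⟩, rfl⟩
          obtain ⟨a, ha, rfl⟩ := (hP'mem b).mp hb
          exact ⟨a ((t : Perm α)⁻¹ x), ⟨⟨a, ha⟩, rfl⟩, rfl⟩
        · rintro ⟨_, ⟨⟨a, ha⟩, rfl⟩, rfl⟩
          exact ⟨⟨(t : Perm α) * a * (t : Perm α)⁻¹, (hP'mem _).mpr ⟨a, ha, rfl⟩⟩, rfl⟩
      rw [this, Set.ncard_image_of_injective _ (t : Perm α).injective]
      exact (hPorb _ htx').1
    have hg'P' : g' ∈ P' := (hP'mem _).mpr ⟨g, hgP, rfl⟩
    exact pgroup_commutator_fix Q P P' hPp hP'p hQP hQP' x horbQ horbP horbP' g g' hgP hg'P'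
  -- conclusion
  have hρ1 : ρ ≠ 1 := by
    intro h
    rw [h] at hρu
    exact huw hρu
  set T : Finset α := {u, w, g u, g (g u)} with hTdef
  have hT : ∀ x, ρ x ≠ x → x ∈ T := by
    intro x hx
    by_contra hxT
    simp only [hTdef, Finset.mem_insert, Finset.mem_singleton, not_or] at hxT
    obtain ⟨h1, h2, h3, h4⟩ := hxT
    by_cases hxS : x ∈ S
    · exact hx (hρS x hxS h1 h2 h3 h4)
    · exact hx (hρout x hxS)
  have hTcard : T.card ≤ 4 := Finset.card_le_four
  have hk1 : 1 ≤ k := by omega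
  have hbig : 9 ≤ Fintype.card α := by
    rw [hcard]
    have : 2 * 3 ≤ k * p := by
      have hk2 : 2 ≤ k := by omega
      exact Nat.mul_le_mul hk2 hp3
    omega
  exact alt_le_of_small_support G hG (by omega) hn ρ hρG hρ1 T hT (by omega) (by omega)

end Cfsg.Agent.Lib.Helper64
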