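import Mathlib
import Cfsg.Agent.Lib.Helper64.Miller4
import Cfsg.Agent.Lib.Helper64.Miller6

set_option autoImplicit false

namespace Cfsg.Agent.Lib.Helper64

open MulAction Equiv Equiv.Perm Subgroup
open scoped Pointwise

universe u

/-- commutators of elements normalising a subgroup of prime order centralise it -/
theorem comm_centralizes_prime {Γ : Type*} [Group Γ] (P : Subgroup Γ) {p : ℕ} [hp : Fact p.Prime]
    (hP : Nat.card P = p) (a b : Γ) (ha : a ∈ Subgroup.normalizer (P : Set Γ))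
    (hb : b ∈ Subgroup.normalizer (P : Set Γ)) (u : Γ) (hu : u ∈ P) :
    u * (a * b * a⁻¹ * b⁻¹) = (a * b * a⁻¹ * b⁻¹) * u := by
  classical
  have hfin : Finite P := Nat.finite_of_card_ne_zero (by rw [hP]; exact hp.out.ne_zero)
  have hnt : Nontrivial P := by
    rw [← Finite.one_lt_card_iff_nontrivial, hP]
    exact hp.out.one_lt
  obtain ⟨g, hg1⟩ := exists_ne (1 : P)
  have hgen : ∀ v ∈ P, ∃ m : ℤ, (g : Γ) ^ m = v := by
    intro v hv
    have := mem_zpowers_of_prime_card hP hg1 (g' := ⟨v, hv⟩)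
    obtain ⟨m, hm⟩ := Subgroup.mem_zpowers_iff.mp this
    exact ⟨m, by simpa using congrArg Subtype.val hm⟩
  have hconj : ∀ a : Γ, ∀ i : ℤ, (a⁻¹ * (g : Γ) * a) ^ i = a⁻¹ * (g : Γ) ^ i * a := by
    intro a i
    have := conj_zpow (a := a⁻¹) (b := (g : Γ)) (i := i)
    simpa using this
  have hai : a⁻¹ * (g : Γ) * a ∈ P := by
    have := (Subgroup.mem_normalizer_iff.mp (Subgroup.inv_mem _ ha) g).mp g.2
    simpa using this
  have hbi : b⁻¹ * (g : Γ) * b ∈ P := by
    have := (Subgroup.mem_normalizer_iff.mp (Subgroup.inv_mem _ hb) g).mp g.2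
    simpa using this
  obtain ⟨i, hi⟩ := hgen _ hai
  obtain ⟨j, hj⟩ := hgen _ hbi
  have key : a⁻¹ * b⁻¹ * (g : Γ) * b * a = b⁻¹ * a⁻¹ * (g : Γ) * a * b := by
    have e1 : a⁻¹ * b⁻¹ * (g : Γ) * b * a = (g : Γ) ^ (i * j) := by
      calc a⁻¹ * b⁻¹ * (g : Γ) * b * a = a⁻¹ * (b⁻¹ * (g : Γ) * b) * a := by group
        _ = a⁻¹ * (g : Γ) ^ j * a := by rw [hj]
        _ = (a⁻¹ * (g : Γ) * a) ^ j := (hconj a j).symm
        _ = ((g : Γ) ^ i) ^ j := by rw [hi]
        _ = (g : Γ) ^ (i * j) := (zpow_mul _ i j).symm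
    have e2 : b⁻¹ * a⁻¹ * (g : Γ) * a * b = (g : Γ) ^ (i * j) := by
      calc b⁻¹ * a⁻¹ * (g : Γ) * a * b = b⁻¹ * (a⁻¹ * (g : Γ) * a) * b := by group
        _ = b⁻¹ * (g : Γ) ^ i * b := by rw [hi]
        _ = (b⁻¹ * (g : Γ) * b) ^ i := (hconj b i).symm
        _ = ((g : Γ) ^ j) ^ i := by rw [hj]
        _ = (g : Γ) ^ (i * j) := by rw [← zpow_mul, mul_comm]
    rw [e1, e2]
  have hcg : Commute (a * b * a⁻¹ * b⁻¹) (g : Γ) := by
    show a * b * a⁻¹ * b⁻¹ * (g : Γ) = (g : Γ) * (a * b * a⁻¹ * b⁻¹)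
    calc a * b * a⁻¹ * b⁻¹ * (g : Γ) = a * b * (a⁻¹ * b⁻¹ * (g : Γ) * b * a) * a⁻¹ * b⁻¹ := by
          group
      _ = a * b * (b⁻¹ * a⁻¹ * (g : Γ) * a * b) * a⁻¹ * b⁻¹ := by rw [key]
      _ = (g : Γ) * (a * b * a⁻¹ * b⁻¹) := by group
  obtain ⟨m, rfl⟩ := hgen u hu
  exact ((hcg.zpow_right m).eq).symm

variable {α : Type u} [Fintype α] [DecidableEq α]

omit [Fintype α] [DecidableEq α] in
theorem pow_apply_of_commute (c v : Perm α) (hcv : c * v = v * c) (ω : α) (h : c ω = v ω)
    (m : ℕ) : (c ^ m) ω = (v ^ m) ω := by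
  induction m with
  | zero => simp
  | succ m ih =>
    rw [pow_succ, pow_succ', Perm.mul_apply, Perm.mul_apply, h]
    have hc : (c ^ m) * v = v * (c ^ m) := (Commute.pow_left hcv m).eq
    have h1 : (c ^ m) (v ω) = v ((c ^ m) ω) := by
      have := congrArg (fun f : Perm α => f ω) hc
      simpa [Perm.mul_apply] using this
    rw [h1, ih]

/-- the inductive step when the Sylow subgroup acts semiregularly off the base -/
theorem miller_step_a (G : Subgroup (Perm α)) {k p r : ℕ} [hp : Fact p.Prime]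
    (hG : IsMultiplyPretransitive G α (r + 1)) (hcard : Fintype.card α = k * p + r)
    (hkp : k < p) (hkr : k < r) (hk2 : 2 ≤ k) (hexc : 4 ≤ r ∨ p ≠ 3)
    (x₀ : Fin (r + 1) ↪ α) (Δ : Finset α)
    (hΔ : ∀ x, x ∈ Δ ↔ ∃ i : Fin r, x₀ (Fin.castSucc i) = x)
    (P : Subgroup (Perm α)) (hPH : P ≤ fixG G Δ) (hPp : IsPGroup p P)
    (hPidx : ¬ p ∣ (P.subgroupOf (fixG G Δ)).index)
    (hPorb : ∀ ω, ω ∉ Δ → (orbit P ω).ncard = p)
    (hQ : P ⊓ stabilizer (Perm α) (x₀ (Fin.last r)) = ⊥) :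
    alternatingGroup α ≤ G := by
  classical
  have hr3 : 3 ≤ r := by omega
  have hp3 : 3 ≤ p := by omega
  set ω₀ := x₀ (Fin.last r) with hω₀def
  set H := fixG G Δ with hHdef
  have hω₀Δ : ω₀ ∉ Δ := by
    rw [hΔ]
    rintro ⟨i, hi⟩
    have := x₀.injective hi
    exact (Fin.castSucc_lt_last i).ne this
  have hn : r + 1 ≤ Fintype.card α := by
    have := Fintype.card_le_of_embedding x₀
    simpa using this
  have hΔcard : Δ.card = r := by
    have : Δ = Finset.univ.map (Fin.castSuccEmb.trans x₀) := by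
      ext x
      rw [hΔ]
      simp
    rw [this, Finset.card_map, Finset.card_univ, Fintype.card_fin]
  -- the order of `P`
  have hPcard : Nat.card P = p := by
    rw [card_eq_stab_mul_orbit P ω₀, hQ, Subgroup.card_bot, one_mul, hPorb ω₀ hω₀Δ]
  -- a generator
  obtain ⟨g, hgP, hgω₀⟩ : ∃ g ∈ P, g ω₀ ≠ ω₀ := by
    by_contra hcon
    push Not at hcon
    have : orbit P ω₀ = {ω₀} := by
      ext y
      constructor
      · rintro ⟨⟨a, ha⟩, rfl⟩
        exact hcon a ha
      · rintro rfl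
        exact mem_orbit_self _
    have h1 := hPorb ω₀ hω₀Δ
    rw [this, Set.ncard_singleton] at h1
    exact hp.out.one_lt.ne h1
  have hg1 : g ≠ 1 := fun h => hgω₀ (by rw [h]; rfl)
  have hgen : ∀ v ∈ P, ∃ m : ℤ, g ^ m = v := by
    intro v hv
    have h1 : (⟨g, hgP⟩ : P) ≠ 1 := fun h => hg1 (congrArg Subtype.val h)
    have := mem_zpowers_of_prime_card hPcard h1 (g' := ⟨v, hv⟩)
    obtain ⟨m, hm⟩ := Subgroup.mem_zpowers_iff.mp this
    exact ⟨m, by simpa using congrArg Subtype.val hm⟩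
  have hgmove : ∀ ω, ω ∉ Δ → g ω ≠ ω := by
    intro ω hω hfix
    have : orbit P ω = {ω} := by
      ext y
      constructor
      · rintro ⟨⟨a, ha⟩, rfl⟩
        obtain ⟨m, rfl⟩ := hgen a ha
        exact zpow_apply_eq_self_of_apply_eq_self hfix m
      · rintro rfl
        exact mem_orbit_self _
    have h1 := hPorb ω hω
    rw [this, Set.ncard_singleton] at h1
    exact hp.out.one_lt.ne h1
  have hgfix : ∀ d ∈ Δ, g d = d := (mem_fixG.mp (hPH hgP)).2
  have hPpow : ∀ v ∈ P, v ^ p = 1 := by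
    intro v hv
    have := pow_card_eq_one' (G := P) (x := ⟨v, hv⟩)
    rw [hPcard] at this
    exact congrArg Subtype.val this
  have hord : orderOf g = p := orderOf_eq_prime (hPpow g hgP) hg1
  have hsupp : g.support = Δᶜ := by
    ext x
    rw [Perm.mem_support, Finset.mem_compl]
    constructor
    · intro h hx
      exact h (hgfix x hx)
    · intro h
      exact hgmove x h
  have hcyc : g.cycleFactorsFinset.card = k := by
    obtain ⟨m, hm⟩ := cycleType_prime_order (σ := g) (by rw [hord]; exact hp.out)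
    have h1 := sum_cycleType g
    rw [hm, Multiset.sum_replicate, hsupp, Finset.card_compl, hcard, hΔcard, hord,
      smul_eq_mul] at h1
    have h2 : Multiset.card g.cycleType = m + 1 := by rw [hm, Multiset.card_replicate]
    rw [cycleType_def, Multiset.card_map] at h2
    have h3 : (m + 1) * p = k * p := by omega
    have h4 := Nat.eq_of_mul_eq_mul_right hp.out.pos h3
    have h5 : g.cycleFactorsFinset.card = m + 1 := h2
    omega
  -- the fixed points of `P`
  have hΔfix : ∀ x, x ∈ Δ ↔ ∀ v ∈ P, v x = x := by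
    intro x
    constructor
    · intro hx v hv
      exact (mem_fixG.mp (hPH hv)).2 x hx
    · intro h
      by_contra hx
      exact hgmove x hx (h g hgP)
  set N : Subgroup (Perm α) := G ⊓ Subgroup.normalizer (P : Set (Perm α)) with hNdef
  have hNΔ : ∀ a ∈ N, ∀ x, x ∈ Δ → a x ∈ Δ := by
    intro a ha x hx
    rw [hΔfix] at hx ⊢
    intro q hq
    have h1 : a⁻¹ * q * a⁻¹⁻¹ ∈ P :=
      (Subgroup.mem_normalizer_iff.mp (Subgroup.inv_mem _ ha.2) q).mp hq
    have h2 := hx _ h1
    simp only [inv_inv, Perm.mul_apply] at h2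
    rw [Perm.inv_eq_iff_eq] at h2
    exact h2
  have hNΔ' : ∀ a ∈ N, ∀ x, a x ∈ Δ ↔ x ∈ Δ := by
    intro a ha x
    refine ⟨fun h => ?_, hNΔ a ha x⟩
    have := hNΔ a⁻¹ (N.inv_mem ha) _ h
    rwa [perm_inv_apply] at this
  let res : N →* Perm Δ :=
    { toFun := fun a => (a : Perm α).subtypePerm (hNΔ' a a.2)
      map_one' := by ext x; rfl
      map_mul' := fun a b => by ext x; rfl }
  have hres : ∀ (a : N) (x : Δ), ((res a x : Δ) : α) = (a : Perm α) x := fun a x => rfl
  -- surjectivity of the restriction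
  have hGr : IsMultiplyPretransitive G α r :=
    isMultiplyPretransitive_of_le (n := r + 1) (by omega) (by
      rw [Nat.card_eq_fintype_card]; exact hn)
  set x₁ : Fin r ↪ α := Fin.castSuccEmb.trans x₀ with hx₁def
  have hx₁ : ∀ i, x₁ i = x₀ (Fin.castSucc i) := fun i => rfl
  have hx₁Δ : ∀ i, x₁ i ∈ Δ := fun i => (hΔ _).mpr ⟨i, rfl⟩
  have hHmem : ∀ g', g' ∈ H ↔ g' ∈ G ∧ ∀ i, g' (x₁ i) = x₁ i := by
    intro g'
    rw [hHdef, mem_fixG]
    constructor
    · rintro ⟨h1, h2⟩
      exact ⟨h1, fun i => h2 _ (hx₁Δ i)⟩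
    · rintro ⟨h1, h2⟩
      refine ⟨h1, fun d hd => ?_⟩
      obtain ⟨i, rfl⟩ := (hΔ d).mp hd
      exact h2 i
  have hsurj : Function.Surjective res := by
    intro π
    let y : Fin r ↪ α := ⟨fun i => (π ⟨x₁ i, hx₁Δ i⟩ : Δ), by
      intro i j hij
      have := π.injective (Subtype.ext hij)
      exact x₁.injective (congrArg Subtype.val this)⟩
    obtain ⟨n, hnG, hnN, hny⟩ := witt G hGr x₁ H P hHmem hPH hPp hPidx y (by
      intro v hv i
      exact (hΔfix _).mp (π _).2 v hv)
    refine ⟨⟨n, hnG, hnN⟩, ?_⟩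
    ext d
    obtain ⟨i, hi⟩ := (hΔ d).mp d.2
    rw [hres]
    have hd : d = ⟨x₁ i, hx₁Δ i⟩ := Subtype.ext hi.symm
    rw [hd]
    exact hny i
  -- the centraliser of `P` in `N`
  set Cn : Subgroup N := (Subgroup.centralizer (P : Set (Perm α))).subgroupOf N with hCndef
  have hCnmem : ∀ c : N, c ∈ Cn ↔ ∀ v ∈ P, v * (c : Perm α) = (c : Perm α) * v := by
    intro c
    rfl
  have hcommCn : commutator N ≤ Cn := by
    rw [_root_.commutator_def, Subgroup.commutator_le]
    intro a _ b _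
    rw [hCnmem]
    intro v hv
    have := comm_centralizes_prime P hPcard (a : Perm α) (b : Perm α) a.2.2 b.2.2 v hv
    simpa [commutatorElement_def] using this
  have haltCn : alternatingGroup Δ ≤ Cn.map res := by
    calc alternatingGroup Δ ≤ commutator (Perm Δ) := alt_le_commutator_perm
      _ = (commutator N).map res := by
        rw [_root_.commutator_def, _root_.commutator_def, Subgroup.map_commutator,
          Subgroup.map_top_of_surjective res hsurj]
      _ ≤ Cn.map res := Subgroup.map_mono hcommCn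
  -- the kernel of the action on the orbits
  let C0 : Subgroup N :=
    { carrier := {c | c ∈ Cn ∧ ∀ ω, ω ∉ Δ → (c : Perm α) ω ∈ orbit P ω}
      mul_mem' := by
        rintro c₁ c₂ ⟨h1, h1'⟩ ⟨h2, h2'⟩
        refine ⟨Cn.mul_mem h1 h2, fun ω hω => ?_⟩
        have h3 : (c₂ : Perm α) ω ∉ Δ := fun h => hω ((hNΔ' c₂ c₂.2 ω).mp h)
        have h4 := h1' _ h3
        rw [orbit_eq_iff.mpr (h2' ω hω)] at h4
        exact h4
      one_mem' := ⟨Cn.one_mem, fun ω _ => mem_orbit_self ω⟩
      inv_mem' := by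
        rintro c ⟨h1, h1'⟩
        refine ⟨Cn.inv_mem h1, fun ω hω => ?_⟩
        have h3 : (c : Perm α)⁻¹ ω ∉ Δ := by
          intro h
          apply hω
          have := hNΔ c c.2 _ h
          rwa [perm_apply_inv] at this
        have h4 := h1' _ h3
        rw [perm_apply_inv] at h4
        exact (mem_orbit_symm).mp h4 }
  have hC0mem : ∀ c : N, c ∈ C0 ↔ c ∈ Cn ∧ ∀ ω, ω ∉ Δ → (c : Perm α) ω ∈ orbit P ω :=
    fun c => Iff.rfl
  have hC0normal : C0.Normal := by
    constructor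
    intro c hc n
    rw [hC0mem] at hc ⊢
    refine ⟨?_, ?_⟩
    · rw [hCnmem]
      intro v hv
      have h1 : (n : Perm α)⁻¹ * v * (n : Perm α)⁻¹⁻¹ ∈ P :=
        (Subgroup.mem_normalizer_iff.mp (Subgroup.inv_mem _ n.2.2) v).mp hv
      have h2 := (hCnmem c).mp hc.1 _ h1
      show v * ((n : Perm α) * (c : Perm α) * (n : Perm α)⁻¹) =
        ((n : Perm α) * (c : Perm α) * (n : Perm α)⁻¹) * v
      calc v * ((n : Perm α) * (c : Perm α) * (n : Perm α)⁻¹)
          = (n : Perm α) * (((n : Perm α)⁻¹ * v * (n : Perm α)⁻¹⁻¹) * (c : Perm α)) *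
              (n : Perm α)⁻¹ := by group
        _ = (n : Perm α) * ((c : Perm α) * ((n : Perm α)⁻¹ * v * (n : Perm α)⁻¹⁻¹)) *
              (n : Perm α)⁻¹ := by rw [h2]
        _ = ((n : Perm α) * (c : Perm α) * (n : Perm α)⁻¹) * v := by group
    · intro ω hω
      have hω' : (n : Perm α)⁻¹ ω ∉ Δ := by
        intro h
        apply hω
        have := hNΔ n n.2 _ h
        rwa [perm_apply_inv] at this
      obtain ⟨⟨v, hv⟩, hv'⟩ := hc.2 _ hω'
      have hv'' : v ((n : Perm α)⁻¹ ω) = (c : Perm α) ((n : Perm α)⁻¹ ω) := hv'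
      refine ⟨⟨(n : Perm α) * v * (n : Perm α)⁻¹,
        (Subgroup.mem_normalizer_iff.mp n.2.2 v).mp hv⟩, ?_⟩
      show ((n : Perm α) * v * (n : Perm α)⁻¹) ω =
        ((n : Perm α) * (c : Perm α) * (n : Perm α)⁻¹) ω
      simp only [Perm.mul_apply, hv'']
  -- the action on the cycles of `g`
  let ψ : Cn →* Subgroup.centralizer ({g} : Set (Perm α)) :=
    { toFun := fun c => ⟨((c : N) : Perm α),
        Subgroup.centralizer_le (Set.singleton_subset_iff.mpr hgP) c.2⟩
      map_one' := rfl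
      map_mul' := fun _ _ => rfl }
  let φ : Cn →* Perm g.cycleFactorsFinset := (OnCycleFactors.toPermHom g).comp ψ
  have hφker : ∀ c : Cn, c ∈ φ.ker → (c : N) ∈ C0 := by
    intro c hc
    rw [hC0mem]
    refine ⟨c.2, fun ω hω => ?_⟩
    have h1 : ψ c ∈ (OnCycleFactors.toPermHom g).ker := hc
    rw [OnCycleFactors.mem_ker_toPermHom_iff] at h1
    have hωs : ω ∈ g.support := Perm.mem_support.mpr (hgmove ω hω)
    have h2 : Commute ((c : N) : Perm α) (g.cycleOf ω) :=
      h1 _ (cycleOf_mem_cycleFactorsFinset_iff.mpr hωs)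
    have h3 : (g.cycleOf ω) (((c : N) : Perm α) ω) = ((c : N) : Perm α) (g.cycleOf ω ω) := by
      have := congrArg (fun f : Perm α => f ω) h2.eq
      simpa [Perm.mul_apply] using this.symm
    have h4 : ((c : N) : Perm α) ω ∈ (g.cycleOf ω).support := by
      rw [Perm.mem_support, h3, cycleOf_apply_self]
      intro h
      exact hgmove ω hω (((c : N) : Perm α).injective h)
    rw [mem_support_cycleOf_iff] at h4
    obtain ⟨i, hi⟩ := h4.1
    exact ⟨⟨g ^ i, P.zpow_mem hgP i⟩, hi⟩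
  -- the image of the kernel
  set L : Subgroup (Perm Δ) := C0.map res with hLdef
  have hLn : L.Normal := hC0normal.map res hsurj
  have hL1 : L ≠ ⊥ := by
    intro hL
    let resC : Cn →* Perm Δ := res.comp Cn.subtype
    have hker : φ.ker ≤ resC.ker := by
      intro c hc
      have h1 : res (c : N) ∈ L := Subgroup.mem_map_of_mem res (hφker c hc)
      rw [hL, Subgroup.mem_bot] at h1
      exact h1
    have h1 : alternatingGroup Δ ≤ resC.range := by
      intro x hx
      obtain ⟨c, hc, rfl⟩ := haltCn hx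
      exact ⟨⟨c, hc⟩, rfl⟩
    have hntΔ : Nontrivial Δ := by
      rw [← Fintype.one_lt_card_iff_nontrivial, Fintype.card_coe, hΔcard]
      omega
    have c1 : 2 * Nat.card (alternatingGroup Δ) = r.factorial := by
      rw [two_mul_nat_card_alternatingGroup, Nat.card_perm, Nat.card_eq_fintype_card,
        Fintype.card_coe, hΔcard]
    have c2 : Nat.card (alternatingGroup Δ) ≤ Nat.card resC.range := Subgroup.card_le_of_le h1
    have c3 : Nat.card resC.range = resC.ker.index := (Subgroup.index_ker resC).symm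
    have c4 : resC.ker.index ≤ φ.ker.index :=
      Nat.le_of_dvd (Nat.pos_of_ne_zero Subgroup.index_ne_zero_of_finite)
        (Subgroup.index_dvd_of_le hker)
    have c5 : φ.ker.index = Nat.card φ.range := Subgroup.index_ker φ
    have c6 : Nat.card φ.range ≤ Nat.card (Perm g.cycleFactorsFinset) :=
      Nat.card_le_card_of_injective _ Subtype.val_injective
    have c7 : Nat.card (Perm g.cycleFactorsFinset) = k.factorial := by
      rw [Nat.card_perm, Nat.card_eq_fintype_card, Fintype.card_coe, hcyc]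
    have c8 : 2 * k.factorial < r.factorial := by
      obtain ⟨r', rfl⟩ : ∃ r', r = r' + 1 := ⟨r - 1, by omega⟩
      have h5 : k.factorial ≤ r'.factorial := Nat.factorial_le (by omega)
      rw [Nat.factorial_succ]
      nlinarith [Nat.factorial_pos r']
    omega
  -- an element of the kernel whose `p`-th power is not trivial on `Δ`
  have hp2 : p ≠ 2 := by omega
  have hcardΔ : 4 ≤ Fintype.card Δ ∨ (3 ≤ Fintype.card Δ ∧ p ≠ 3) := by
    rw [Fintype.card_coe, hΔcard]
    rcases hexc with h | h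
    · left; exact h
    · right; exact ⟨hr3, h⟩
  obtain ⟨y, hyL, hyp⟩ := normal_perm_exists L hL1 hp.out hp2 hcardΔ
  obtain ⟨c, hc, rfl⟩ := hyL
  have hc' := (hC0mem c).mp hc
  set z : Perm α := (c : Perm α) ^ p with hzdef
  have hzG : z ∈ G := G.pow_mem c.2.1 p
  have hzout : ∀ ω, ω ∉ Δ → z ω = ω := by
    intro ω hω
    obtain ⟨⟨v, hv⟩, hvω⟩ := hc'.2 ω hω
    have hvω' : v ω = (c : Perm α) ω := hvω
    have hcv : (c : Perm α) * v = v * (c : Perm α) := ((hCnmem c).mp hc'.1 v hv).symm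
    have h1 := pow_apply_of_commute (c : Perm α) v hcv ω hvω'.symm p
    rw [hzdef, h1, hPpow v hv]
    rfl
  have hz1 : z ≠ 1 := by
    intro h
    apply hyp
    ext d
    rw [← map_pow, hres]
    have h2 : (((c ^ p : N)) : Perm α) = z := by
      rw [hzdef]
      rfl
    rw [h2, h]
    rfl
  have hT : ∀ x, z x ≠ x → x ∈ Δ := by
    intro x hx
    by_contra hxΔ
    exact hx (hzout x hxΔ)
  exact alt_le_of_small_support G hG (by omega) hn z hzG hz1 Δ hT (by omega) (by omega)

end Cfsg.Agent.Lib.Helper64
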