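import Mathlib
import Cfsg.Agent.S0713
import Cfsg.Agent.Lib.Helper64.Miller2
import Cfsg.Agent.Lib.Helper64.Miller3
import Cfsg.Agent.Lib.Helper64.Miller5

set_option autoImplicit false

namespace Cfsg.Agent.Lib.Helper64

open MulAction Equiv Equiv.Perm Subgroup
open scoped Pointwise

universe u

variable {α : Type u} [Fintype α] [DecidableEq α]

omit [DecidableEq α] in
/-- a Sylow subgroup of a subgroup, as a subgroup of the ambient group -/
theorem exists_sylow_sub (H : Subgroup (Perm α)) (p : ℕ) [hp : Fact p.Prime] :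
    ∃ P : Subgroup (Perm α), P ≤ H ∧ IsPGroup p P ∧ ¬ p ∣ (P.subgroupOf H).index := by
  obtain ⟨P₀⟩ : Nonempty (Sylow p H) := inferInstance
  refine ⟨(P₀ : Subgroup H).map H.subtype, Subgroup.map_subtype_le _, P₀.2.map _, ?_⟩
  have h1 : ((P₀ : Subgroup H).map H.subtype).subgroupOf H = (P₀ : Subgroup H) :=
    Subgroup.comap_map_eq_self_of_injective H.subtype_injective _
  rw [h1]
  exact P₀.not_dvd_index

/-- an element of order seven on nine points fixing three points is trivial -/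
theorem order7_fix3 (hcard : Fintype.card α = 9) (v : Perm α) (hv : v ^ 7 = 1) (a b c : α)
    (hab : a ≠ b) (hac : a ≠ c) (hbc : b ≠ c) (ha : v a = a) (hb : v b = b) (hc : v c = c) :
    v = 1 := by
  by_contra hv1
  have : Fact (Nat.Prime 7) := ⟨by norm_num⟩
  have hord : orderOf v = 7 := orderOf_eq_prime hv hv1
  obtain ⟨m, hm⟩ := cycleType_prime_order (σ := v) (by rw [hord]; norm_num)
  have h1 := sum_cycleType v
  rw [hm, Multiset.sum_replicate, hord, smul_eq_mul] at h1
  have h2 : ({a, b, c} : Finset α) ⊆ v.supportᶜ := by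
    intro x hx
    simp only [Finset.mem_insert, Finset.mem_singleton] at hx
    rw [Finset.mem_compl, Perm.mem_support, not_not]
    rcases hx with rfl | rfl | rfl <;> assumption
  have h3 := Finset.card_le_card h2
  rw [Finset.card_compl, hcard] at h3
  have h4 : ({a, b, c} : Finset α).card = 3 := by
    rw [Finset.card_insert_of_notMem, Finset.card_insert_of_notMem, Finset.card_singleton]
    · simpa using hbc
    · simp [hab, hac]
  have h5 : v.support.card ≤ 9 := by
    rw [← hcard]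
    exact Finset.card_le_univ _
  rw [h4] at h3
  have : 7 ≤ (m + 1) * 7 := by nlinarith
  omega

/-- an element of order seven on nine points fixing two points is a cycle -/
theorem order7_cycle (hcard : Fintype.card α = 9) (s : Perm α) (hs : s ^ 7 = 1) (hs1 : s ≠ 1)
    (a b : α) (hab : a ≠ b) (ha : s a = a) (hb : s b = b) :
    s.IsCycle ∧ ∀ x, x ≠ a → x ≠ b → s x ≠ x := by
  have : Fact (Nat.Prime 7) := ⟨by norm_num⟩
  have hord : orderOf s = 7 := orderOf_eq_prime hs hs1
  obtain ⟨m, hm⟩ := cycleType_prime_order (σ := s) (by rw [hord]; norm_num)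
  have h1 := sum_cycleType s
  rw [hm, Multiset.sum_replicate, hord, smul_eq_mul] at h1
  have h5 : s.support.card ≤ 9 := by
    rw [← hcard]
    exact Finset.card_le_univ _
  have hm0 : m = 0 := by
    by_contra hm0
    have : 14 ≤ (m + 1) * 7 := by
      have : 2 ≤ m + 1 := by omega
      nlinarith
    omega
  refine ⟨?_, ?_⟩
  · rw [← card_cycleType_eq_one, hm, Multiset.card_replicate, hm0]
  · intro x hxa hxb hx
    exact hs1 (order7_fix3 hcard s hs a b x hab (Ne.symm hxa) (Ne.symm hxb) ha hb hx)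

/-- the case where some element different from the identity fixes four points -/
theorem deg9_nonsharp (G : Subgroup (Perm α)) (hcard : Fintype.card α = 9)
    (hG : IsMultiplyPretransitive G α 4) (z : Perm α) (hz : z ∈ G) (hz1 : z ≠ 1)
    (T : Finset α) (hT : 4 ≤ T.card) (hfix : ∀ x ∈ T, z x = x) : alternatingGroup α ≤ G := by
  classical
  have h2 : IsMultiplyPretransitive G α 2 :=
    isMultiplyPretransitive_of_le (n := 4) (by omega) (by
      rw [Nat.card_eq_fintype_card, hcard]; omega)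
  have hprim : IsPreprimitive G α := isPreprimitive_of_is_two_pretransitive h2
  set o := orderOf z with hodef
  have ho0 : o ≠ 0 := (orderOf_pos z).ne'
  have ho1 : o ≠ 1 := by
    intro h
    exact hz1 (orderOf_eq_one_iff.mp h)
  set ℓ := o.minFac with hℓdef
  have hℓ : ℓ.Prime := Nat.minFac_prime ho1
  have hℓo : ℓ ∣ o := Nat.minFac_dvd o
  set z' := z ^ (o / ℓ) with hz'def
  have hz'ord : orderOf z' = ℓ := orderOf_pow_orderOf_div ho0 hℓo
  have hz'G : z' ∈ G := G.pow_mem hz _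
  have hz'1 : z' ≠ 1 := by
    intro h
    rw [h, orderOf_one] at hz'ord
    exact hℓ.one_lt.ne hz'ord
  have hz'fix : ∀ x ∈ T, z' x = x := by
    intro x hx
    exact pow_apply_eq_self_of_apply_eq_self (hfix x hx) _
  have hsub : T ⊆ z'.supportᶜ := by
    intro x hx
    rw [Finset.mem_compl, Perm.mem_support, not_not]
    exact hz'fix x hx
  have hcard5 : z'.support.card ≤ 5 := by
    have h3 := Finset.card_le_card hsub
    rw [Finset.card_compl, hcard] at h3
    have h5 : z'.support.card ≤ 9 := by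
      rw [← hcard]
      exact Finset.card_le_univ _
    omega
  by_cases h4 : z'.support.card ≤ 4
  · exact alt_le_of_small_support G hG (by omega) (by rw [hcard]; omega) z' hz'G hz'1 z'.support
      (fun x hx => Perm.mem_support.mpr hx) h4 (by rw [hcard]; omega)
  · have h5 : z'.support.card = 5 := by omega
    obtain ⟨m, hm⟩ := cycleType_prime_order (σ := z') (by rw [hz'ord]; exact hℓ)
    have h1 := sum_cycleType z'
    rw [hm, Multiset.sum_replicate, hz'ord, smul_eq_mul, h5] at h1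
    have hℓ5 : ℓ = 5 := by
      have : ℓ ∣ 5 := Dvd.intro_left _ h1
      exact (Nat.prime_dvd_prime_iff_eq hℓ Nat.prime_five).mp this
    have hm0 : m = 0 := by
      rw [hℓ5] at h1
      omega
    have hcyc : z'.IsCycle := by
      rw [← card_cycleType_eq_one, hm, Multiset.card_replicate, hm0]
    exact Cfsg.Agent.S0713.result G hprim Nat.prime_five (by rw [hcard]; omega)
      (by rw [hcard]; omega) hcyc h5 hz'G

omit [Fintype α] [DecidableEq α] in
/-- the embedding of a pair -/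
theorem exists_pairEmb (a b : α) (hab : a ≠ b) : ∃ e : Fin 2 ↪ α, e 0 = a ∧ e 1 = b := by
  refine ⟨⟨![a, b], ?_⟩, rfl, rfl⟩
  intro i j h
  fin_cases i <;> fin_cases j <;> simp_all

/-- the sharp case is contradictory -/
theorem deg9_sharp (G : Subgroup (Perm α)) (hcard : Fintype.card α = 9)
    (hG : IsMultiplyPretransitive G α 4)
    (hsharp : ∀ z ∈ G, ∀ T : Finset α, 4 ≤ T.card → (∀ x ∈ T, z x = x) → z = 1) : False := by
  classical
  have h7 : Fact (Nat.Prime 7) := ⟨by norm_num⟩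
  have h4n : 4 ≤ Fintype.card α := by rw [hcard]; omega
  obtain ⟨x₀⟩ : Nonempty (Fin 4 ↪ α) :=
    Function.Embedding.nonempty_of_card_le (by simpa using h4n)
  set a := x₀ 0 with hadef
  set b := x₀ 1 with hbdef
  set c := x₀ 2 with hcdef
  set d := x₀ 3 with hddef
  have hab : a ≠ b := x₀.injective.ne (by decide)
  have hac : a ≠ c := x₀.injective.ne (by decide)
  have had : a ≠ d := x₀.injective.ne (by decide)
  have hbc : b ≠ c := x₀.injective.ne (by decide)
  have hbd : b ≠ d := x₀.injective.ne (by decide)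
  have hcd : c ≠ d := x₀.injective.ne (by decide)
  set Γ₂ : Finset α := {a, b} with hΓ₂def
  set Γ₃ : Finset α := {a, b, c} with hΓ₃def
  have hΓ₂mem : ∀ x, x ∈ Γ₂ ↔ x = a ∨ x = b := by
    intro x; simp [hΓ₂def]
  have hΓ₃mem : ∀ x, x ∈ Γ₃ ↔ x = a ∨ x = b ∨ x = c := by
    intro x; simp [hΓ₃def]
  have hΓ₂card : Γ₂.card = 2 := Finset.card_pair hab
  have hΓ₃card : Γ₃.card = 3 := by
    rw [hΓ₃def, Finset.card_insert_of_notMem, Finset.card_pair hbc]
    simp [hab, hac]
  set K := fixG G Γ₂ with hKdef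
  have hKmem : ∀ g, g ∈ K ↔ g ∈ G ∧ g a = a ∧ g b = b := by
    intro g
    rw [hKdef, mem_fixG]
    constructor
    · rintro ⟨h1, h2⟩
      exact ⟨h1, h2 a ((hΓ₂mem a).mpr (Or.inl rfl)), h2 b ((hΓ₂mem b).mpr (Or.inr rfl))⟩
    · rintro ⟨h1, h2, h3⟩
      refine ⟨h1, fun x hx => ?_⟩
      rcases (hΓ₂mem x).mp hx with rfl | rfl
      · exact h2
      · exact h3
  set Kc := K ⊓ stabilizer (Perm α) c with hKcdef
  have hKcmem : ∀ g, g ∈ Kc ↔ g ∈ G ∧ g a = a ∧ g b = b ∧ g c = c := by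
    intro g
    rw [hKcdef, Subgroup.mem_inf, hKmem, mem_stabilizer_iff]
    constructor
    · rintro ⟨⟨h1, h2, h3⟩, h4⟩
      exact ⟨h1, h2, h3, h4⟩
    · rintro ⟨h1, h2, h3, h4⟩
      exact ⟨⟨h1, h2, h3⟩, h4⟩
  -- the orbits
  have horbK : orbit K c = ((Γ₂ᶜ : Finset α) : Set α) := by
    ext x
    rw [Finset.mem_coe, Finset.mem_compl, hΓ₂mem]
    constructor
    · rintro ⟨⟨k, hk⟩, rfl⟩
      obtain ⟨-, hka, hkb⟩ := (hKmem k).mp hk
      show ¬ (k c = a ∨ k c = b)
      rintro (h | h)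
      · rw [← hka] at h
        exact hac (k.injective h).symm
      · rw [← hkb] at h
        exact hbc (k.injective h).symm
    · intro hx
      obtain ⟨h, hhG, hfix, hhc⟩ := exists_fix_move G hG h4n Γ₂ (by rw [hΓ₂card]; omega) c x
        (by rw [hΓ₂mem]; push Not; exact ⟨hac.symm, hbc.symm⟩) (by rw [hΓ₂mem]; exact hx)
      exact ⟨⟨h, mem_fixG.mpr ⟨hhG, hfix⟩⟩, hhc⟩
  have horbKc : orbit Kc d = ((Γ₃ᶜ : Finset α) : Set α) := by
    ext x
    rw [Finset.mem_coe, Finset.mem_compl, hΓ₃mem]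
    constructor
    · rintro ⟨⟨k, hk⟩, rfl⟩
      obtain ⟨-, hka, hkb, hkc⟩ := (hKcmem k).mp hk
      show ¬ (k d = a ∨ k d = b ∨ k d = c)
      rintro (h | h | h)
      · rw [← hka] at h
        exact had (k.injective h).symm
      · rw [← hkb] at h
        exact hbd (k.injective h).symm
      · rw [← hkc] at h
        exact hcd (k.injective h).symm
    · intro hx
      obtain ⟨h, hhG, hfix, hhc⟩ := exists_fix_move G hG h4n Γ₃ (by rw [hΓ₃card]) d x
        (by rw [hΓ₃mem]; push Not; exact ⟨had.symm, hbd.symm, hcd.symm⟩)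
        (by rw [hΓ₃mem]; exact hx)
      refine ⟨⟨h, (hKcmem h).mpr ⟨hhG, ?_, ?_, ?_⟩⟩, hhc⟩
      · exact hfix a ((hΓ₃mem a).mpr (Or.inl rfl))
      · exact hfix b ((hΓ₃mem b).mpr (Or.inr (Or.inl rfl)))
      · exact hfix c ((hΓ₃mem c).mpr (Or.inr (Or.inr rfl)))
  have hKcd : Kc ⊓ stabilizer (Perm α) d = ⊥ := by
    rw [Subgroup.eq_bot_iff_forall]
    intro g hg
    obtain ⟨hg1, hg2⟩ := Subgroup.mem_inf.mp hg
    obtain ⟨hgG, hga, hgb, hgc⟩ := (hKcmem g).mp hg1
    have hgd : g d = d := hg2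
    apply hsharp g hgG {a, b, c, d}
    · rw [Finset.card_insert_of_notMem, Finset.card_insert_of_notMem, Finset.card_pair hcd]
      · simp [hbc, hbd]
      · simp [hab, hac, had]
    · intro x hx
      simp only [Finset.mem_insert, Finset.mem_singleton] at hx
      rcases hx with rfl | rfl | rfl | rfl <;> assumption
  have hKccard : Nat.card Kc = 6 := by
    rw [card_eq_stab_mul_orbit Kc d, hKcd, Subgroup.card_bot, one_mul, horbKc,
      Set.ncard_coe_finset, Finset.card_compl, hcard, hΓ₃card]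
  have hKcard : Nat.card K = 42 := by
    rw [card_eq_stab_mul_orbit K c, ← hKcdef, hKccard, horbK,
      Set.ncard_coe_finset, Finset.card_compl, hcard, hΓ₂card]
  -- the Sylow subgroup
  obtain ⟨P₀⟩ : Nonempty (Sylow 7 K) := inferInstance
  have hP₀idx : ¬ 7 ∣ (P₀ : Subgroup K).index := P₀.not_dvd_index
  obtain ⟨e, he⟩ := IsPGroup.exists_card_eq P₀.2
  have hmul : (P₀ : Subgroup K).index * Nat.card (P₀ : Subgroup K) = 42 := by
    rw [Subgroup.index_mul_card, hKcard]
  have he1 : e = 1 := by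
    rcases Nat.lt_or_ge e 1 with h | h
    · have : e = 0 := by omega
      rw [he, this, pow_zero, mul_one] at hmul
      rw [hmul] at hP₀idx
      exact absurd (by norm_num : 7 ∣ 42) hP₀idx
    · rcases Nat.lt_or_ge 1 e with h' | h'
      · have h1 : 7 ^ 2 ∣ 7 ^ e := Nat.pow_dvd_pow 7 h'
        have h2 : 7 ^ 2 ∣ 42 := by
          rw [← hmul, he]
          exact Dvd.dvd.mul_left h1 _
        norm_num at h2
      · omega
  have hP₀card : Nat.card (P₀ : Subgroup K) = 7 := by rw [he, he1, pow_one]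
  have hP₀index : (P₀ : Subgroup K).index = 6 := by
    rw [hP₀card] at hmul
    omega
  have hn7 : Nat.card (Sylow 7 K) = 1 := by
    have h1 : Nat.card (Sylow 7 K) ≡ 1 [MOD 7] := card_sylow_modEq_one 7 K
    have h2 := P₀.card_dvd_index
    rw [hP₀index] at h2
    have h3 := Nat.le_of_dvd (by norm_num) h2
    unfold Nat.ModEq at h1
    omega
  have hss : Subsingleton (Sylow 7 K) := (Nat.card_eq_one_iff_unique.mp hn7).1
  have hP₀n : (P₀ : Subgroup K).Normal := Sylow.normal_of_subsingleton P₀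
  set P₇ : Subgroup (Perm α) := (P₀ : Subgroup K).map K.subtype with hP₇def
  have hP₇K : P₇ ≤ K := Subgroup.map_subtype_le _
  have hP₇p : IsPGroup 7 P₇ := P₀.2.map _
  have hidx : ¬ 7 ∣ (P₇.subgroupOf K).index := by
    have h1 : P₇.subgroupOf K = (P₀ : Subgroup K) :=
      Subgroup.comap_map_eq_self_of_injective K.subtype_injective _
    rw [h1]
    exact hP₀idx
  have hP₇pow : ∀ v ∈ P₇, v ^ 7 = 1 := by
    rintro v ⟨x, hx, rfl⟩
    have := pow_card_eq_one' (G := (P₀ : Subgroup K)) (x := ⟨x, hx⟩)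
    rw [hP₀card] at this
    have h2 : x ^ 7 = 1 := congrArg Subtype.val this
    have h3 : ((x ^ 7 : K) : Perm α) = 1 := by rw [h2]; rfl
    exact h3
  have hP₇norm : ∀ y ∈ K, ∀ v ∈ P₇, y * v * y⁻¹ ∈ P₇ := by
    rintro y hy v ⟨x, hx, rfl⟩
    exact ⟨⟨y, hy⟩ * x * ⟨y, hy⟩⁻¹, hP₀n.conj_mem x hx ⟨y, hy⟩, rfl⟩
  obtain ⟨s, hs, hs1⟩ : ∃ s ∈ P₇, s ≠ 1 := by
    have hnt : Nontrivial (P₀ : Subgroup K) := by
      rw [← Finite.one_lt_card_iff_nontrivial, hP₀card]
      norm_num
    obtain ⟨x, hx⟩ := exists_ne (1 : (P₀ : Subgroup K))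
    refine ⟨((x : K) : Perm α), ⟨(x : K), x.2, rfl⟩, ?_⟩
    intro h
    apply hx
    apply Subtype.ext
    apply Subtype.ext
    exact h
  -- Witt's lemma
  have hG2 : IsMultiplyPretransitive G α 2 :=
    isMultiplyPretransitive_of_le (n := 4) (by omega) (by
      rw [Nat.card_eq_fintype_card, hcard]; omega)
  obtain ⟨x₂, hx₂0, hx₂1⟩ := exists_pairEmb a b hab
  obtain ⟨y₂, hy₂0, hy₂1⟩ := exists_pairEmb b a hab.symm
  have hKx : ∀ g, g ∈ K ↔ g ∈ G ∧ ∀ i, g (x₂ i) = x₂ i := by
    intro g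
    rw [hKmem]
    constructor
    · rintro ⟨h1, h2, h3⟩
      refine ⟨h1, fun i => ?_⟩
      fin_cases i
      · show g (x₂ 0) = x₂ 0
        rw [hx₂0]; exact h2
      · show g (x₂ 1) = x₂ 1
        rw [hx₂1]; exact h3
    · rintro ⟨h1, h2⟩
      have h3 := h2 0
      have h4 := h2 1
      rw [hx₂0] at h3
      rw [hx₂1] at h4
      exact ⟨h1, h3, h4⟩
  obtain ⟨n, hnG, hnN, hn⟩ := witt G hG2 x₂ K P₇ hKx hP₇K hP₇p hidx y₂ (by
    intro v hv i
    obtain ⟨-, hva, hvb⟩ := (hKmem v).mp (hP₇K hv)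
    fin_cases i
    · show v (y₂ 0) = y₂ 0
      rw [hy₂0]; exact hvb
    · show v (y₂ 1) = y₂ 1
      rw [hy₂1]; exact hva)
  have hna : n a = b := by
    have := hn 0
    rwa [hx₂0, hy₂0] at this
  have hnb : n b = a := by
    have := hn 1
    rwa [hx₂1, hy₂1] at this
  -- the seven cycle
  obtain ⟨-, hsa, hsb⟩ := (hKmem s).mp (hP₇K hs)
  obtain ⟨hscyc, hsmove⟩ := order7_cycle hcard s (hP₇pow s hs) hs1 a b hab hsa hsb
  set s' := n * s * n⁻¹ with hs'def
  have hs'P : s' ∈ P₇ := (Subgroup.mem_normalizer_iff.mp hnN s).mp hs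
  obtain ⟨-, hs'a, hs'b⟩ := (hKmem s').mp (hP₇K hs'P)
  have hs'1 : s' ≠ 1 := by
    intro h
    apply hs1
    have : s = n⁻¹ * s' * n := by rw [hs'def]; group
    rw [this, h]
    group
  obtain ⟨-, hs'move⟩ := order7_cycle hcard s' (hP₇pow s' hs'P) hs'1 a b hab hs'a hs'b
  have hsc : s c ∉ Γ₃ := by
    rw [hΓ₃mem]
    rintro (h | h | h)
    · rw [← hsa] at h
      exact hac (s.injective h).symm
    · rw [← hsb] at h
      exact hbc (s.injective h).symm
    · exact hsmove c hac.symm hbc.symm h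
  have hs'c : s' c ∉ Γ₃ := by
    rw [hΓ₃mem]
    rintro (h | h | h)
    · rw [← hs'a] at h
      exact hac (s'.injective h).symm
    · rw [← hs'b] at h
      exact hbc (s'.injective h).symm
    · exact hs'move c hac.symm hbc.symm h
  obtain ⟨y, hyG, hyfix, hyc⟩ := exists_fix_move G hG h4n Γ₃ (by rw [hΓ₃card]) (s c) (s' c)
    hsc hs'c
  have hya : y a = a := hyfix a ((hΓ₃mem a).mpr (Or.inl rfl))
  have hyb : y b = b := hyfix b ((hΓ₃mem b).mpr (Or.inr (Or.inl rfl)))
  have hyc' : y c = c := hyfix c ((hΓ₃mem c).mpr (Or.inr (Or.inr rfl)))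
  have hyK : y ∈ K := (hKmem y).mpr ⟨hyG, hya, hyb⟩
  have hyic : y⁻¹ c = c := by rw [Perm.inv_eq_iff_eq, hyc']
  have hyib : y⁻¹ b = b := by rw [Perm.inv_eq_iff_eq, hyb]
  have hyia : y⁻¹ a = a := by rw [Perm.inv_eq_iff_eq, hya]
  have hconj : y * s * y⁻¹ = s' := by
    set v := (y * s * y⁻¹)⁻¹ * s' with hvdef
    have hvP : v ∈ P₇ := P₇.mul_mem (P₇.inv_mem (hP₇norm y hyK s hs)) hs'P
    obtain ⟨-, hva, hvb⟩ := (hKmem v).mp (hP₇K hvP)
    have hvc : v c = c := by
      rw [hvdef, Perm.mul_apply, Perm.inv_eq_iff_eq]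
      simp only [Perm.mul_apply]
      rw [hyic, hyc]
    have hv1 := order7_fix3 hcard v (hP₇pow v hvP) a b c hab hac hbc hva hvb hvc
    rw [hvdef, inv_mul_eq_one] at hv1
    exact hv1
  set w₀ := y⁻¹ * n with hw₀def
  have hw₀s : w₀ * s = s * w₀ := by
    have h1 : n * s * n⁻¹ = y * s * y⁻¹ := hconj.symm
    calc w₀ * s = y⁻¹ * (n * s * n⁻¹) * n := by rw [hw₀def]; group
      _ = y⁻¹ * (y * s * y⁻¹) * n := by rw [h1]
      _ = s * w₀ := by rw [hw₀def]; group
  have hw₀a : w₀ a = b := by rw [hw₀def, Perm.mul_apply, hna, hyib]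
  have hw₀b : w₀ b = a := by rw [hw₀def, Perm.mul_apply, hnb, hyia]
  have hw₀G : w₀ ∈ G := G.mul_mem (G.inv_mem hyG) hnG
  have hw₀c : w₀ c ≠ a ∧ w₀ c ≠ b := by
    constructor
    · intro h
      rw [← hw₀b] at h
      exact hbc (w₀.injective h).symm
    · intro h
      rw [← hw₀a] at h
      exact hac (w₀.injective h).symm
  have hscm : s c ≠ c := hsmove c hac.symm hbc.symm
  obtain ⟨j, hj⟩ := hscyc.exists_zpow_eq hscm (hsmove (w₀ c) hw₀c.1 hw₀c.2)
  set w := (s ^ j)⁻¹ * w₀ with hwdef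
  have hsG : s ∈ G := ((hKmem s).mp (hP₇K hs)).1
  have hwG : w ∈ G := G.mul_mem (G.inv_mem (G.zpow_mem hsG j)) hw₀G
  have hwc : w c = c := by
    rw [hwdef, Perm.mul_apply, Perm.inv_eq_iff_eq, hj]
  have hws : Commute w s := by
    have h1 : Commute (s ^ j)⁻¹ s := ((Commute.refl s).zpow_left j).inv_left
    have h2 : Commute w₀ s := hw₀s
    exact h1.mul_left h2
  have hwfix : ∀ x, x ≠ a → x ≠ b → w x = x := by
    intro x hxa hxb
    obtain ⟨i, hi⟩ := hscyc.exists_zpow_eq hscm (hsmove x hxa hxb)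
    rw [← hi]
    have h1 : w * s ^ i = s ^ i * w := (hws.zpow_right i).eq
    have h2 := congrArg (fun f : Perm α => f c) h1
    simp only [Perm.mul_apply] at h2
    rw [h2, hwc]
  have hw1 : w = 1 := by
    apply hsharp w hwG Γ₂ᶜ
    · rw [Finset.card_compl, hcard, hΓ₂card]; omega
    · intro x hx
      rw [Finset.mem_compl, hΓ₂mem] at hx
      push Not at hx
      exact hwfix x hx.1 hx.2
  have hwa : w a = b := by
    rw [hwdef, Perm.mul_apply, hw₀a, Perm.inv_eq_iff_eq]
    exact (zpow_apply_eq_self_of_apply_eq_self hsb j).symm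
  rw [hw1] at hwa
  exact hab hwa

/-- four-fold transitive groups of degree nine -/
theorem deg9 (G : Subgroup (Perm α)) (hcard : Fintype.card α = 9)
    (hG : IsMultiplyPretransitive G α 4) : alternatingGroup α ≤ G := by
  classical
  by_cases hsh : ∃ z ∈ G, z ≠ 1 ∧ ∃ T : Finset α, 4 ≤ T.card ∧ ∀ x ∈ T, z x = x
  · obtain ⟨z, hz, hz1, T, hT, hfix⟩ := hsh
    exact deg9_nonsharp G hcard hG z hz hz1 T hT hfix
  · exfalso
    apply deg9_sharp G hcard hG
    intro z hz T hT hfix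
    by_contra hz1
    exact hsh ⟨z, hz, hz1, T, hT, hfix⟩

end Cfsg.Agent.Lib.Helper64
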