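import Mathlib
import Cfsg.Agent.Lib.Helper64.Miller7
import Cfsg.Agent.Lib.Helper64.Miller8

set_option autoImplicit false

namespace Cfsg.Agent.Lib.Helper64

open MulAction Equiv Equiv.Perm Subgroup
open scoped Pointwise

universe u

/-- Miller's theorem, by induction on `k` -/
theorem miller_main {p r : ℕ} (hp : p.Prime) (hr3 : 3 ≤ r) :
    ∀ (k : ℕ) (α : Type u) [Fintype α] [DecidableEq α] (G : Subgroup (Perm α)),
      Fintype.card α = k * p + r → 1 ≤ k → k < p → k < r →
      IsMultiplyPretransitive G α (r + 1) → alternatingGroup α ≤ G := by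
  intro k
  induction k using Nat.strong_induction_on with
  | _ k IH =>
    intro α _ _ G hcard hk1 hkp hkr hG
    classical
    have hpF : Fact p.Prime := ⟨hp⟩
    have hkp1 : 1 ≤ k * p := Nat.mul_pos hk1 hp.pos
    have hn : r + 1 ≤ Fintype.card α := by omega
    obtain ⟨x₀⟩ : Nonempty (Fin (r + 1) ↪ α) :=
      Function.Embedding.nonempty_of_card_le (by simpa using hn)
    set Δ : Finset α := Finset.univ.map (Fin.castSuccEmb.trans x₀) with hΔdef
    have hΔ : ∀ x, x ∈ Δ ↔ ∃ i : Fin r, x₀ (Fin.castSucc i) = x := by
      intro x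
      simp [hΔdef]
    have hΔcard : Δ.card = r := by
      rw [hΔdef, Finset.card_map, Finset.card_univ, Fintype.card_fin]
    set ω₀ := x₀ (Fin.last r) with hω₀def
    have hω₀Δ : ω₀ ∉ Δ := by
      rw [hΔ]
      rintro ⟨i, hi⟩
      have := x₀.injective hi
      exact (Fin.castSucc_lt_last i).ne this
    set H := fixG G Δ with hHdef
    -- the orbits of `H`
    have horbH : ∀ ω, ω ∉ Δ → (orbit H ω).ncard = k * p := by
      intro ω hω
      have h1 : orbit H ω = ((Δᶜ : Finset α) : Set α) := by
        ext x
        rw [Finset.mem_coe, Finset.mem_compl]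
        constructor
        · rintro ⟨⟨h, hh⟩, rfl⟩ hx
          have h2 := (mem_fixG.mp hh).2 _ hx
          have h3 : h ω = ω := by
            have h4 : h (h ω) = h ω := h2
            exact h.injective h4
          apply hω
          have h5 : h ω ∈ Δ := hx
          rwa [h3] at h5
        · intro hx
          obtain ⟨h, hhG, hfix, hhω⟩ := exists_fix_move G hG hn Δ (by rw [hΔcard]) ω x hω hx
          exact ⟨⟨h, mem_fixG.mpr ⟨hhG, hfix⟩⟩, hhω⟩
      rw [h1, Set.ncard_coe_finset, Finset.card_compl, hcard, hΔcard]
      omega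
    obtain ⟨P, hPH, hPp, hPidx⟩ := exists_sylow_sub H p
    have hPorb : ∀ ω, ω ∉ Δ → (orbit P ω).ncard = p ∧
        ¬ p ∣ ((P ⊓ stabilizer (Perm α) ω).subgroupOf (H ⊓ stabilizer (Perm α) ω)).index :=
      fun ω hω => sylow_orbit H P hPH hPp hPidx ω hkp (horbH ω hω)
    have hG2 : IsMultiplyPretransitive G α 2 :=
      isMultiplyPretransitive_of_le (n := r + 1) (by omega) (by
        rw [Nat.card_eq_fintype_card]; exact hn)
    have hprim : IsPreprimitive G α := isPreprimitive_of_is_two_pretransitive hG2
    rcases Nat.lt_or_ge k 2 with hk2 | hk2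
    · -- the case `k = 1`
      have hk : k = 1 := by omega
      subst hk
      rw [one_mul] at hcard
      have hdvd : p ∣ Nat.card P := by
        rw [card_eq_stab_mul_orbit P ω₀, (hPorb ω₀ hω₀Δ).1]
        exact Dvd.intro_left _ rfl
      obtain ⟨x, hx⟩ := exists_prime_orderOf_dvd_card' (G := P) p hdvd
      set g : Perm α := (x : Perm α) with hgdef
      have hgord : orderOf g = p := by rw [hgdef, Subgroup.orderOf_coe, hx]
      have hgP : g ∈ P := x.2
      have hgG : g ∈ G := (mem_fixG.mp (hPH hgP)).1
      have hgfix : ∀ d ∈ Δ, g d = d := (mem_fixG.mp (hPH hgP)).2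
      have hsub : g.support ⊆ Δᶜ := by
        intro y hy
        rw [Finset.mem_compl]
        intro hyΔ
        exact (Perm.mem_support.mp hy) (hgfix y hyΔ)
      have hsc : g.support.card ≤ p := by
        have := Finset.card_le_card hsub
        rw [Finset.card_compl, hcard, hΔcard] at this
        omega
      obtain ⟨m, hm⟩ := cycleType_prime_order (σ := g) (by rw [hgord]; exact hp)
      have h1 := sum_cycleType g
      rw [hm, Multiset.sum_replicate, hgord, smul_eq_mul] at h1
      have hm0 : m = 0 := by
        by_contra hm0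
        have : 2 * p ≤ (m + 1) * p := Nat.mul_le_mul_right p (by omega)
        have := hp.pos
        omega
      have hcyc : g.IsCycle := by
        rw [← card_cycleType_eq_one, hm, Multiset.card_replicate, hm0]
      have hsupp : g.support.card = p := by
        rw [← h1, hm0]
        simp
      have := hp.two_le
      exact Cfsg.Agent.S0713.result G hprim hp (by omega) (by omega) hcyc hsupp hgG
    · have hp3 : 3 ≤ p := by omega
      by_cases h33 : p = 3 ∧ r = 3
      · obtain ⟨rfl, rfl⟩ := h33
        have hk : k = 2 := by omega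
        subst hk
        exact deg9 G (by rw [hcard]) hG
      · have hexc : 4 ≤ r ∨ p ≠ 3 := by
          by_cases h : p = 3
          · left
            have : r ≠ 3 := fun h' => h33 ⟨h, h'⟩
            omega
          · right; exact h
        by_cases hQ : P ⊓ stabilizer (Perm α) (x₀ (Fin.last r)) = ⊥
        · exact miller_step_a G hG hcard hkp hkr hk2 hexc x₀ Δ hΔ P hPH hPp hPidx
            (fun ω hω => (hPorb ω hω).1) hQ
        · exact miller_step_b G hG hcard hkp hkr hr3 hp3 x₀ Δ hΔ P hPH hPp hPorb hQ
            (fun β _ _ G' j hj hj1 hjk hG' =>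
              IH j hjk β G' hj hj1 (by omega) (by omega) hG')

end Cfsg.Agent.Lib.Helper64
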