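import Mathlib

set_option autoImplicit false

namespace Cfsg.Agent.Lib.Helper64.Nse

open Equiv

/-- number of elements of prime order `p` of `A₄`, as a filter over `Perm (Fin 4)`. -/
theorem card_orderOf_prime_A4 (p : ℕ) (hp : p.Prime) :
    Nat.card {g : ↥(alternatingGroup (Fin 4)) // orderOf g = p} =
      (Finset.univ.filter
        (fun g : Perm (Fin 4) => Perm.sign g = 1 ∧ g ^ p = 1 ∧ g ≠ 1)).card := by
  have hP : Fact p.Prime := ⟨hp⟩
  rw [← Fintype.card_subtype, ← Nat.card_eq_fintype_card]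
  apply Nat.card_congr
  refine ⟨fun g => ⟨g.1.1, ?_⟩, fun g => ⟨⟨g.1, ?_⟩, ?_⟩, ?_, ?_⟩
  · have hg : Perm.sign (g.1 : Perm (Fin 4)) = 1 := Perm.mem_alternatingGroup.mp g.1.2
    have ho : orderOf (g.1 : Perm (Fin 4)) = p := by
      rw [Subgroup.orderOf_coe]; exact g.2
    refine ⟨hg, ?_, ?_⟩
    · have h := pow_orderOf_eq_one (g.1 : Perm (Fin 4))
      rwa [ho] at h
    · intro h1
      rw [h1, orderOf_one] at ho
      exact hp.one_lt.ne ho
  · exact Perm.mem_alternatingGroup.mpr g.2.1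
  · rw [← Subgroup.orderOf_coe]
    exact orderOf_eq_prime g.2.2.1 g.2.2.2
  · intro g; rfl
  · intro g; rfl

theorem card_orderOf_one_A4 :
    Nat.card {g : ↥(alternatingGroup (Fin 4)) // orderOf g = 1} = 1 := by
  have : Unique {g : ↥(alternatingGroup (Fin 4)) // orderOf g = 1} :=
    { default := ⟨1, orderOf_one⟩
      uniq := fun g => Subtype.ext (orderOf_eq_one_iff.mp g.2) }
  exact Nat.card_unique

set_option maxRecDepth 1000000 in
theorem cnt2_A4 : (Finset.univ.filter
    (fun g : Perm (Fin 4) => Perm.sign g = 1 ∧ g ^ 2 = 1 ∧ g ≠ 1)).card = 3 := by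
  decide +kernel

set_option maxRecDepth 1000000 in
theorem cnt3_A4 : (Finset.univ.filter
    (fun g : Perm (Fin 4) => Perm.sign g = 1 ∧ g ^ 3 = 1 ∧ g ≠ 1)).card = 8 := by
  decide +kernel

set_option maxRecDepth 1000000 in
theorem a4_pow : ∀ g : Perm (Fin 4), Perm.sign g = 1 → g ^ 2 = 1 ∨ g ^ 3 = 1 := by
  decide +kernel

theorem spec_A4 : Set.range (orderOf : alternatingGroup (Fin 4) → ℕ) = {1, 2, 3} := by
  apply Set.Subset.antisymm
  · rintro _ ⟨g, rfl⟩
    have hg : Perm.sign (g : Perm (Fin 4)) = 1 := Perm.mem_alternatingGroup.mp g.2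
    rw [← Subgroup.orderOf_coe]
    simp only [Set.mem_insert_iff, Set.mem_singleton_iff]
    rcases a4_pow g hg with h | h
    · rcases (Nat.dvd_prime Nat.prime_two).mp (orderOf_dvd_of_pow_eq_one h) with h | h <;>
        simp [h]
    · rcases (Nat.dvd_prime Nat.prime_three).mp (orderOf_dvd_of_pow_eq_one h) with h | h <;>
        simp [h]
  · intro k hk
    simp only [Set.mem_insert_iff, Set.mem_singleton_iff] at hk
    rcases hk with rfl | rfl | rfl
    · exact ⟨1, orderOf_one⟩
    · refine ⟨⟨swap 0 1 * swap 2 3, Perm.mem_alternatingGroup.mpr (by decide)⟩, ?_⟩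
      rw [← Subgroup.orderOf_coe]
      exact orderOf_eq_prime (by decide) (by decide)
    · refine ⟨⟨swap 0 1 * swap 1 2, Perm.mem_alternatingGroup.mpr (by decide)⟩, ?_⟩
      rw [← Subgroup.orderOf_coe]
      have : Fact (Nat.Prime 3) := ⟨Nat.prime_three⟩
      exact orderOf_eq_prime (by decide) (by decide)

theorem nse_A4 : ((fun m : ℕ => Nat.card {g : ↥(alternatingGroup (Fin 4)) // orderOf g = m}) ''
    Set.range (orderOf : ↥(alternatingGroup (Fin 4)) → ℕ)) = (↑({1, 3, 8} : Finset ℕ) : Set ℕ) := by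
  have c1 := card_orderOf_one_A4
  have c2 := (card_orderOf_prime_A4 2 Nat.prime_two).trans cnt2_A4
  have c3 := (card_orderOf_prime_A4 3 Nat.prime_three).trans cnt3_A4
  rw [spec_A4]
  ext x
  simp only [Set.mem_image, Set.mem_insert_iff, Set.mem_singleton_iff, Finset.coe_insert,
    Finset.coe_singleton]
  constructor
  · rintro ⟨m, hm, rfl⟩
    rcases hm with rfl | rfl | rfl
    · left; exact c1
    · right; left; exact c2
    · right; right; exact c3
  · rintro (rfl | rfl | rfl)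
    · exact ⟨1, Or.inl rfl, c1⟩
    · exact ⟨2, Or.inr (Or.inl rfl), c2⟩
    · exact ⟨3, Or.inr (Or.inr rfl), c3⟩

end Cfsg.Agent.Lib.Helper64.Nse
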