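import Mathlib
import Cfsg.Agent.Lib.Helper63.AltSpec

set_option autoImplicit false

namespace Cfsg.Agent.Lib.Helper64.Nse

open Equiv

/-- number of elements of prime order `p` of `A₅`, as a filter over `Perm (Fin 5)`. -/
theorem card_orderOf_prime_A5 (p : ℕ) (hp : p.Prime) :
    Nat.card {g : ↥(alternatingGroup (Fin 5)) // orderOf g = p} =
      (Finset.univ.filter
        (fun g : Perm (Fin 5) => Perm.sign g = 1 ∧ g ^ p = 1 ∧ g ≠ 1)).card := by
  have hP : Fact p.Prime := ⟨hp⟩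
  rw [← Fintype.card_subtype, ← Nat.card_eq_fintype_card]
  apply Nat.card_congr
  refine ⟨fun g => ⟨g.1.1, ?_⟩, fun g => ⟨⟨g.1, ?_⟩, ?_⟩, ?_, ?_⟩
  · have hg : Perm.sign (g.1 : Perm (Fin 5)) = 1 := Perm.mem_alternatingGroup.mp g.1.2
    have ho : orderOf (g.1 : Perm (Fin 5)) = p := by
      rw [Subgroup.orderOf_coe]; exact g.2
    refine ⟨hg, ?_, ?_⟩
    · have h := pow_orderOf_eq_one (g.1 : Perm (Fin 5))
      rwa [ho] at h
    · intro h1
      rw [h1, orderOf_one] at ho
      exact hp.one_lt.ne ho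
  · exact Perm.mem_alternatingGroup.mpr g.2.1
  · rw [← Subgroup.orderOf_coe]
    exact orderOf_eq_prime g.2.2.1 g.2.2.2
  · intro g; rfl
  · intro g; rfl

theorem card_orderOf_one_A5 :
    Nat.card {g : ↥(alternatingGroup (Fin 5)) // orderOf g = 1} = 1 := by
  have : Unique {g : ↥(alternatingGroup (Fin 5)) // orderOf g = 1} :=
    { default := ⟨1, orderOf_one⟩
      uniq := fun g => Subtype.ext (orderOf_eq_one_iff.mp g.2) }
  exact Nat.card_unique

set_option maxRecDepth 1000000 in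
set_option maxHeartbeats 4000000 in
theorem cnt2_A5 : (Finset.univ.filter
    (fun g : Perm (Fin 5) => Perm.sign g = 1 ∧ g ^ 2 = 1 ∧ g ≠ 1)).card = 15 := by
  decide +kernel

set_option maxRecDepth 1000000 in
set_option maxHeartbeats 4000000 in
theorem cnt3_A5 : (Finset.univ.filter
    (fun g : Perm (Fin 5) => Perm.sign g = 1 ∧ g ^ 3 = 1 ∧ g ≠ 1)).card = 20 := by
  decide +kernel

set_option maxRecDepth 1000000 in
set_option maxHeartbeats 4000000 in
theorem cnt5_A5 : (Finset.univ.filter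
    (fun g : Perm (Fin 5) => Perm.sign g = 1 ∧ g ^ 5 = 1 ∧ g ≠ 1)).card = 24 := by
  decide +kernel

theorem nse_A5 : ((fun m : ℕ => Nat.card {g : ↥(alternatingGroup (Fin 5)) // orderOf g = m}) ''
    Set.range (orderOf : ↥(alternatingGroup (Fin 5)) → ℕ)) = (↑({1, 15, 20, 24} : Finset ℕ) : Set ℕ) := by
  have c1 := card_orderOf_one_A5
  have c2 := (card_orderOf_prime_A5 2 Nat.prime_two).trans cnt2_A5
  have c3 := (card_orderOf_prime_A5 3 Nat.prime_three).trans cnt3_A5
  have c5 := (card_orderOf_prime_A5 5 Nat.prime_five).trans cnt5_A5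
  rw [Cfsg.Agent.Lib.Helper63.spec_A5]
  ext x
  simp only [Set.mem_image, Set.mem_insert_iff, Set.mem_singleton_iff, Finset.coe_insert,
    Finset.coe_singleton]
  constructor
  · rintro ⟨m, hm, rfl⟩
    rcases hm with rfl | rfl | rfl | rfl
    · left; exact c1
    · right; left; exact c2
    · right; right; left; exact c3
    · right; right; right; exact c5
  · rintro (rfl | rfl | rfl | rfl)
    · exact ⟨1, Or.inl rfl, c1⟩
    · exact ⟨2, Or.inr (Or.inl rfl), c2⟩
    · exact ⟨3, Or.inr (Or.inr (Or.inl rfl)), c3⟩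
    · exact ⟨5, Or.inr (Or.inr (Or.inr rfl)), c5⟩

end Cfsg.Agent.Lib.Helper64.Nse
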