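import Mathlib
import Cfsg.Agent.Lib.Helper63.AltSpec

set_option autoImplicit false

namespace Cfsg.Agent.Lib.Helper64.Nse

open Equiv

/-- number of elements of order `m` of `A₆`, as a decidable filter over `Perm (Fin 6)`. -/
theorem card_orderOf_A6 (m : ℕ) (Q : Perm (Fin 6) → Prop) [DecidablePred Q]
    (hQ : ∀ g : Perm (Fin 6), orderOf g = m ↔ Q g) :
    Nat.card {g : ↥(alternatingGroup (Fin 6)) // orderOf g = m} =
      (Finset.univ.filter (fun g : Perm (Fin 6) => Perm.sign g = 1 ∧ Q g)).card := by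
  rw [← Fintype.card_subtype, ← Nat.card_eq_fintype_card]
  apply Nat.card_congr
  refine ⟨fun g => ⟨g.1.1, ?_⟩, fun g => ⟨⟨g.1, ?_⟩, ?_⟩, ?_, ?_⟩
  · have hg : Perm.sign (g.1 : Perm (Fin 6)) = 1 := Perm.mem_alternatingGroup.mp g.1.2
    have ho : orderOf (g.1 : Perm (Fin 6)) = m := by
      rw [Subgroup.orderOf_coe]; exact g.2
    exact ⟨hg, (hQ _).mp ho⟩
  · exact Perm.mem_alternatingGroup.mpr g.2.1
  · rw [← Subgroup.orderOf_coe]
    exact (hQ _).mpr g.2.2
  · intro g; rfl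
  · intro g; rfl

theorem orderOf_eq_prime_iff_A6 (p : ℕ) (hp : p.Prime) (g : Perm (Fin 6)) :
    orderOf g = p ↔ (g ^ p = 1 ∧ g ≠ 1) := by
  have hP : Fact p.Prime := ⟨hp⟩
  constructor
  · intro ho
    refine ⟨?_, ?_⟩
    · have h := pow_orderOf_eq_one g
      rwa [ho] at h
    · intro h1
      rw [h1, orderOf_one] at ho
      exact hp.one_lt.ne ho
  · rintro ⟨h1, h2⟩
    exact orderOf_eq_prime h1 h2

theorem orderOf_eq_four_iff_A6 (g : Perm (Fin 6)) :
    orderOf g = 4 ↔ (g ^ 4 = 1 ∧ g ^ 2 ≠ 1) := by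
  have hP : Fact (Nat.Prime 2) := ⟨Nat.prime_two⟩
  constructor
  · intro ho
    refine ⟨?_, ?_⟩
    · have h := pow_orderOf_eq_one g
      rwa [ho] at h
    · intro h2
      have hd : orderOf g ∣ 2 := orderOf_dvd_of_pow_eq_one h2
      rw [ho] at hd
      omega
  · rintro ⟨h1, h2⟩
    have : orderOf g = 2 ^ (1 + 1) := by
      apply orderOf_eq_prime_pow
      · simpa using h2
      · simpa using h1
    simpa using this

theorem card_orderOf_one_A6 :
    Nat.card {g : ↥(alternatingGroup (Fin 6)) // orderOf g = 1} = 1 := by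
  have : Unique {g : ↥(alternatingGroup (Fin 6)) // orderOf g = 1} :=
    { default := ⟨1, orderOf_one⟩
      uniq := fun g => Subtype.ext (orderOf_eq_one_iff.mp g.2) }
  exact Nat.card_unique

set_option maxRecDepth 10000000 in
set_option maxHeartbeats 40000000 in
theorem cnt2_A6 : (Finset.univ.filter
    (fun g : Perm (Fin 6) => Perm.sign g = 1 ∧ (g ^ 2 = 1 ∧ g ≠ 1))).card = 45 := by
  decide +kernel

set_option maxRecDepth 10000000 in
set_option maxHeartbeats 40000000 in
theorem cnt3_A6 : (Finset.univ.filter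
    (fun g : Perm (Fin 6) => Perm.sign g = 1 ∧ (g ^ 3 = 1 ∧ g ≠ 1))).card = 80 := by
  decide +kernel

set_option maxRecDepth 10000000 in
set_option maxHeartbeats 40000000 in
theorem cnt4_A6 : (Finset.univ.filter
    (fun g : Perm (Fin 6) => Perm.sign g = 1 ∧ (g ^ 4 = 1 ∧ g ^ 2 ≠ 1))).card = 90 := by
  decide +kernel

set_option maxRecDepth 10000000 in
set_option maxHeartbeats 40000000 in
theorem cnt5_A6 : (Finset.univ.filter
    (fun g : Perm (Fin 6) => Perm.sign g = 1 ∧ (g ^ 5 = 1 ∧ g ≠ 1))).card = 144 := by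
  decide +kernel

theorem nse_A6 : ((fun m : ℕ => Nat.card {g : ↥(alternatingGroup (Fin 6)) // orderOf g = m}) ''
    Set.range (orderOf : ↥(alternatingGroup (Fin 6)) → ℕ)) = (↑({1, 45, 80, 90, 144} : Finset ℕ) : Set ℕ) := by
  have c1 := card_orderOf_one_A6
  have c2 := (card_orderOf_A6 2 _ (orderOf_eq_prime_iff_A6 2 Nat.prime_two)).trans cnt2_A6
  have c3 := (card_orderOf_A6 3 _ (orderOf_eq_prime_iff_A6 3 Nat.prime_three)).trans cnt3_A6
  have c4 := (card_orderOf_A6 4 _ orderOf_eq_four_iff_A6).trans cnt4_A6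
  have c5 := (card_orderOf_A6 5 _ (orderOf_eq_prime_iff_A6 5 Nat.prime_five)).trans cnt5_A6
  rw [Cfsg.Agent.Lib.Helper63.spec_A6]
  ext x
  simp only [Set.mem_image, Set.mem_insert_iff, Set.mem_singleton_iff, Finset.coe_insert,
    Finset.coe_singleton]
  constructor
  · rintro ⟨m, hm, rfl⟩
    rcases hm with rfl | rfl | rfl | rfl | rfl
    · left; exact c1
    · right; left; exact c2
    · right; right; left; exact c3
    · right; right; right; left; exact c4
    · right; right; right; right; exact c5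
  · rintro (rfl | rfl | rfl | rfl | rfl)
    · exact ⟨1, Or.inl rfl, c1⟩
    · exact ⟨2, Or.inr (Or.inl rfl), c2⟩
    · exact ⟨3, Or.inr (Or.inr (Or.inl rfl)), c3⟩
    · exact ⟨4, Or.inr (Or.inr (Or.inr (Or.inl rfl))), c4⟩
    · exact ⟨5, Or.inr (Or.inr (Or.inr (Or.inr rfl))), c5⟩

end Cfsg.Agent.Lib.Helper64.Nse
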