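import Mathlib
import Cfsg.Agent.S3995
import Cfsg.Agent.Lib.Helper07.Order60

set_option autoImplicit false

namespace Cfsg.Agent.Lib.Helper64.Nse

open Cfsg.Agent.S3995 (s)

section aux
variable {G : Type*} [Group G] [Finite G]

/-- elements of prime order `p` lie in every normal subgroup of index prime to `p`. -/
theorem mem_of_orderOf_prime_of_not_dvd_index (K : Subgroup G) [K.Normal] {p : ℕ} (hp : p.Prime)
    (hpi : ¬ p ∣ K.index) (g : G) (hg : orderOf g = p) : g ∈ K := by
  have h1 : orderOf (QuotientGroup.mk' K g) ∣ p := by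
    rw [← hg]; exact orderOf_map_dvd (QuotientGroup.mk' K) g
  have h2 : orderOf (QuotientGroup.mk' K g) ∣ K.index := by
    rw [Subgroup.index_eq_card]; exact orderOf_dvd_natCard _
  have hc : Nat.Coprime p K.index := (Nat.Prime.coprime_iff_not_dvd hp).mpr hpi
  have h3 : orderOf (QuotientGroup.mk' K g) ∣ Nat.gcd p K.index := Nat.dvd_gcd h1 h2
  rw [hc] at h3
  have h4 : orderOf (QuotientGroup.mk' K g) = 1 := Nat.dvd_one.mp h3
  rw [orderOf_eq_one_iff] at h4
  exact (QuotientGroup.eq_one_iff g).mp h4

theorem card_subtype_le_card (K : Subgroup G) (Q : G → Prop) (h : ∀ g, Q g → g ∈ K) :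
    Nat.card {g : G // Q g} ≤ Nat.card K :=
  Nat.card_le_card_of_injective (fun g => (⟨g.1, h g.1 g.2⟩ : K))
    (fun _ _ hab => Subtype.ext (congrArg (fun z : K => (z : G)) hab))

theorem s_add_s_le_card (K : Subgroup G) (h3 : ∀ g : G, orderOf g = 3 → g ∈ K)
    (h5 : ∀ g : G, orderOf g = 5 → g ∈ K) : s G 3 + s G 5 ≤ Nat.card K := by
  classical
  have hle := card_subtype_le_card K (fun g => orderOf g = 3 ∨ orderOf g = 5)
    (fun g hg => hg.elim (h3 g) (h5 g))
  have : Fintype G := Fintype.ofFinite G
  have hdis : Disjoint (fun g : G => orderOf g = 3) (fun g : G => orderOf g = 5) := by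
    rw [Pi.disjoint_iff]
    intro g
    rw [Prop.disjoint_iff]
    rintro ⟨h, h'⟩
    omega
  have hcard := Fintype.card_subtype_or_disjoint (fun g : G => orderOf g = 3)
    (fun g : G => orderOf g = 5) hdis
  unfold s
  rw [Nat.card_eq_fintype_card, Nat.card_eq_fintype_card, ← hcard, ← Nat.card_eq_fintype_card]
  exact hle

/-- an element of order 5 acts fixed-point-freely on a normal `5'`-subgroup when all element
orders are at most 5. -/
theorem card_modEq_one_of_order_five (K : Subgroup G) [K.Normal] (x : G) (hx : orderOf x = 5)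
    (hK5 : ¬ 5 ∣ Nat.card K) (hsp : ∀ g : G, orderOf g ≤ 5) : Nat.card K ≡ 1 [MOD 5] := by
  have hp5 : Fact (Nat.Prime 5) := ⟨Nat.prime_five⟩
  let P : Subgroup (ConjAct G) := Subgroup.zpowers (ConjAct.toConjAct x)
  have hPcard : Nat.card P = 5 ^ 1 := by
    rw [Nat.card_zpowers, pow_one, ← hx]
    exact orderOf_injective (ConjAct.toConjAct (G := G)).toMonoidHom
      (ConjAct.toConjAct (G := G)).injective x
  have hP : IsPGroup 5 P := IsPGroup.of_card hPcard
  have hmod := hP.card_modEq_card_fixedPoints (K : Type _)
  have hfix : Nat.card (MulAction.fixedPoints P K) = 1 := by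
    rw [Nat.card_eq_one_iff_unique]
    refine ⟨⟨fun a b => ?_⟩, ⟨⟨1, fun g => smul_one g⟩⟩⟩
    have key : ∀ c : MulAction.fixedPoints P K, (c : K) = 1 := by
      intro c
      have hc := c.2 ⟨ConjAct.toConjAct x, Subgroup.mem_zpowers _⟩
      have hc' : x * ((c : K) : G) * x⁻¹ = ((c : K) : G) := by
        have hc2 : ((ConjAct.toConjAct x • (c : K) : K) : G) = ((c : K) : G) :=
          congrArg Subtype.val hc
        rw [ConjAct.Subgroup.val_conj_smul, ConjAct.smul_def, ConjAct.ofConjAct_toConjAct] at hc2
        exact hc2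
      have hcomm : Commute x ((c : K) : G) := by
        have : x * ((c : K) : G) = ((c : K) : G) * x := by
          calc x * ((c : K) : G) = x * ((c : K) : G) * x⁻¹ * x := by group
            _ = ((c : K) : G) * x := by rw [hc']
        exact this
      have hcop : Nat.Coprime (orderOf x) (orderOf ((c : K) : G)) := by
        rw [hx]
        apply (Nat.Prime.coprime_iff_not_dvd Nat.prime_five).mpr
        intro hd
        apply hK5
        have h1 : orderOf ((c : K) : G) ∣ Nat.card K := by
          rw [Subgroup.orderOf_coe]; exact orderOf_dvd_natCard _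
        exact dvd_trans hd h1
      have hmul := hcomm.orderOf_mul_eq_mul_orderOf_of_coprime hcop
      have hle := hsp (x * ((c : K) : G))
      rw [hmul, hx] at hle
      have hpos : 0 < orderOf ((c : K) : G) := orderOf_pos _
      have h1 : orderOf ((c : K) : G) = 1 := by omega
      rw [orderOf_eq_one_iff] at h1
      exact Subtype.ext h1
    exact Subtype.ext ((key a).trans (key b).symm)
  rw [hfix] at hmod
  exact hmod

end aux

theorem recog_A5 {G : Type*} [Group G] [Finite G] (hN : Nat.card G = 60) (h3 : Cfsg.Agent.S3995.s G 3 = 20)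
    (h5 : Cfsg.Agent.S3995.s G 5 = 24) (hsp : ∀ m, Cfsg.Agent.S3995.s G m ≠ 0 → m ≤ 5) :
    Nonempty (G ≃* ↥(alternatingGroup (Fin 5))) := by
  have hsp' : ∀ g : G, orderOf g ≤ 5 := fun g =>
    hsp _ ((Cfsg.Agent.S3995.s_ne_zero_iff (G := G) _).mpr ⟨g, rfl⟩)
  obtain ⟨x, hx⟩ : ∃ x : G, orderOf x = 5 :=
    (Cfsg.Agent.S3995.s_ne_zero_iff (G := G) 5).mp (by rw [h5]; norm_num)
  have hnt : Nontrivial G := by
    rw [← Finite.one_lt_card_iff_nontrivial, hN]; norm_num
  have hsimple : IsSimpleGroup G := by
    refine { toNontrivial := hnt, eq_bot_or_eq_top_of_normal := fun K hK => ?_ }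
    have hki : Nat.card K * K.index = 60 := by rw [Subgroup.card_mul_index, hN]
    have hkd : Nat.card K ∈ Nat.divisors 60 := by
      rw [Nat.mem_divisors]; exact ⟨⟨K.index, hki.symm⟩, by norm_num⟩
    have hdiv : Nat.divisors 60 = {1, 2, 3, 4, 5, 6, 10, 12, 15, 20, 30, 60} := by decide
    rw [hdiv] at hkd
    simp only [Finset.mem_insert, Finset.mem_singleton] at hkd
    have m3 : ¬ 3 ∣ K.index → 20 ≤ Nat.card K := fun hi => by
      have := card_subtype_le_card K (fun g => orderOf g = 3)
        (fun g hg => mem_of_orderOf_prime_of_not_dvd_index K Nat.prime_three hi g hg)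
      have h3' : Nat.card {g : G // orderOf g = 3} = 20 := h3
      omega
    have m5 : ¬ 5 ∣ K.index → 24 ≤ Nat.card K := fun hi => by
      have := card_subtype_le_card K (fun g => orderOf g = 5)
        (fun g hg => mem_of_orderOf_prime_of_not_dvd_index K Nat.prime_five hi g hg)
      have h5' : Nat.card {g : G // orderOf g = 5} = 24 := h5
      omega
    have m35 : ¬ 3 ∣ K.index → ¬ 5 ∣ K.index → 44 ≤ Nat.card K := fun hi3 hi5 => by
      have := s_add_s_le_card K
        (fun g hg => mem_of_orderOf_prime_of_not_dvd_index K Nat.prime_three hi3 g hg)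
        (fun g hg => mem_of_orderOf_prime_of_not_dvd_index K Nat.prime_five hi5 g hg)
      omega
    have mmod : ¬ 5 ∣ Nat.card K → Nat.card K % 5 = 1 := fun hk => by
      have := card_modEq_one_of_order_five K x hx hk hsp'
      unfold Nat.ModEq at this
      omega
    rcases hkd with h | h | h | h | h | h | h | h | h | h | h | h
    · left; exact Subgroup.eq_bot_of_card_eq K h
    · exfalso; have := mmod (by omega); omega
    · exfalso; have hi : K.index = 20 := by rw [h] at hki; omega
      have := m3 (by rw [hi]; norm_num); omega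
    · exfalso; have := mmod (by omega); omega
    · exfalso; have hi : K.index = 12 := by rw [h] at hki; omega
      have := m5 (by rw [hi]; norm_num); omega
    · exfalso; have hi : K.index = 10 := by rw [h] at hki; omega
      have := m3 (by rw [hi]; norm_num); omega
    · exfalso; have hi : K.index = 6 := by rw [h] at hki; omega
      have := m5 (by rw [hi]; norm_num); omega
    · exfalso; have hi : K.index = 5 := by rw [h] at hki; omega
      have := m3 (by rw [hi]; norm_num); omega
    · exfalso; have hi : K.index = 4 := by rw [h] at hki; omega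
      have := m5 (by rw [hi]; norm_num); omega
    · exfalso; have hi : K.index = 3 := by rw [h] at hki; omega
      have := m5 (by rw [hi]; norm_num); omega
    · exfalso; have hi : K.index = 2 := by rw [h] at hki; omega
      have := m35 (by rw [hi]; norm_num) (by rw [hi]; norm_num); omega
    · right; exact (Subgroup.card_eq_iff_eq_top K).mp (by rw [h, hN])
  exact Cfsg.Agent.Lib.Helper07.nonempty_mulEquiv_alternatingGroup_five_of_card_eq_sixty hN

end Cfsg.Agent.Lib.Helper64.Nse
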