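import Mathlib

set_option autoImplicit false

namespace Cfsg.Agent.Lib.Helper64

open MulAction
open scoped Pointwise

section OrbitArith

/-- Orbits of a normal subgroup have size dividing the size of the orbits of the whole group. -/
theorem card_orbit_normal_dvd {H X : Type*} [Group H] [MulAction H X] (K : Subgroup H) [K.Normal]
    (v : X) [Finite (orbit H v)] : Nat.card (orbit K v) ∣ Nat.card (orbit H v) := by
  let y₀ : orbit H v := ⟨v, mem_orbit_self v⟩
  have hB : IsBlock H (orbit K y₀) := IsBlock.orbit_of_normal y₀
  have h1 : (orbit K y₀).ncard ∣ Nat.card (orbit H v) :=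
    hB.ncard_dvd_card ⟨y₀, mem_orbit_self y₀⟩
  have h2 : Subtype.val '' (orbit K y₀) = orbit K v := by
    ext u
    constructor
    · rintro ⟨_, ⟨k, rfl⟩, rfl⟩
      exact ⟨k, rfl⟩
    · rintro ⟨k, rfl⟩
      exact ⟨k • y₀, ⟨k, rfl⟩, rfl⟩
  rw [Nat.card_coe_set_eq, ← h2, Set.ncard_image_of_injective _ Subtype.val_injective]
  exact h1

theorem card_orbit_mul_card_stabilizer {L X : Type*} [Group L] [Finite L] [MulAction L X] (v : X) :
    Nat.card (orbit L v) * Nat.card (stabilizer L v) = Nat.card L := by
  classical
  have := Fintype.ofFinite L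
  have : Finite (orbit L v) := (Set.finite_range fun m : L => m • v).to_subtype
  have : Fintype (orbit L v) := Fintype.ofFinite _
  have : Fintype (stabilizer L v) := Fintype.ofFinite _
  simp only [Nat.card_eq_fintype_card]
  exact card_orbit_mul_card_stabilizer_eq_card_group L v

/-- If `L = N H` with `N` normal of order prime to `p` and the `H`-orbit of `v` has size prime to
`p`, then so has the `L`-orbit. -/
theorem not_dvd_card_orbit_sup {L X : Type*} [Group L] [Finite L] [MulAction L X]
    (N H : Subgroup L) [N.Normal] (hsup : N ⊔ H = ⊤) (p : ℕ) (hp : p.Prime)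
    (hpN : ¬ p ∣ Nat.card N) (v : X) (hH : ¬ p ∣ Nat.card (orbit H v)) :
    ¬ p ∣ Nat.card (orbit L v) := by
  have e1 := card_orbit_mul_card_stabilizer (L := L) v
  have e2 := card_orbit_mul_card_stabilizer (L := H) v
  have e3 : Nat.card (stabilizer H v) ∣ Nat.card (stabilizer L v) := by
    let f : stabilizer H v →* stabilizer L v :=
      { toFun := fun h => ⟨(h : H), h.2⟩
        map_one' := rfl
        map_mul' := fun _ _ => rfl }
    apply Subgroup.card_dvd_of_injective f
    intro a b hab
    have : ((a : H) : L) = ((b : H) : L) := congrArg (fun t : stabilizer L v => (t : L)) hab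
    exact Subtype.ext (Subtype.ext this)
  have e4 : N.index * Nat.card N = Nat.card L := N.index_mul_card
  have e5 : N.index = N.relIndex H := by
    have := Subgroup.relIndex_sup_left H N
    rw [hsup, Subgroup.relIndex_top_right] at this
    exact this
  have e6 : N.relIndex H ∣ Nat.card H := Subgroup.relIndex_dvd_card N H
  obtain ⟨e, he⟩ := e3
  obtain ⟨c, hc⟩ := e6
  rw [← e5] at hc
  intro hdvd
  have hvpos : 0 < Nat.card (stabilizer H v) := Nat.card_pos
  -- a * hv * e = idx * n,  idx * c = b * hv
  have key : Nat.card (orbit L v) * e * c * Nat.card (stabilizer H v)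
      = Nat.card (orbit H v) * Nat.card N * Nat.card (stabilizer H v) := by
    have h1 : Nat.card (orbit L v) * (Nat.card (stabilizer H v) * e) = N.index * Nat.card N := by
      rw [← he, e1, e4]
    have h2 : Nat.card (orbit H v) * Nat.card (stabilizer H v) = N.index * c := by
      rw [e2, hc]
    calc Nat.card (orbit L v) * e * c * Nat.card (stabilizer H v)
        = (Nat.card (orbit L v) * (Nat.card (stabilizer H v) * e)) * c := by ring
      _ = N.index * Nat.card N * c := by rw [h1]
      _ = (N.index * c) * Nat.card N := by ring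
      _ = Nat.card (orbit H v) * Nat.card (stabilizer H v) * Nat.card N := by rw [h2]
      _ = Nat.card (orbit H v) * Nat.card N * Nat.card (stabilizer H v) := by ring
  have key' := Nat.eq_of_mul_eq_mul_right hvpos key
  have : p ∣ Nat.card (orbit H v) * Nat.card N := by
    rw [← key']
    exact Dvd.dvd.mul_right (Dvd.dvd.mul_right hdvd e) c
  rcases (Nat.Prime.dvd_mul hp).mp this with h | h
  · exact hH h
  · exact hpN h

end OrbitArith

end Cfsg.Agent.Lib.Helper64
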