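import Mathlib

set_option autoImplicit false

namespace Cfsg.Agent.Lib.Helper64

open MulAction

section Transport

variable {X Y : Type*} (β : X ≃ Y) (G₁ : Subgroup (Equiv.Perm X))

theorem transport_mem {g : Equiv.Perm Y} :
    g ∈ G₁.map β.permCongrHom.toMonoidHom ↔ ∃ g₁ ∈ G₁, ∀ y, g y = β (g₁ (β.symm y)) := by
  rw [Subgroup.mem_map]
  constructor
  · rintro ⟨g₁, hg₁, rfl⟩
    exact ⟨g₁, hg₁, fun y => rfl⟩
  · rintro ⟨g₁, hg₁, h⟩
    refine ⟨g₁, hg₁, ?_⟩
    ext y
    rw [h y]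
    rfl

theorem transport_isPreprimitive (h : IsPreprimitive G₁ X) :
    IsPreprimitive (G₁.map β.permCongrHom.toMonoidHom) Y := by
  let φ : G₁ → G₁.map β.permCongrHom.toMonoidHom :=
    fun g => ⟨β.permCongrHom g, Subgroup.mem_map_of_mem _ g.2⟩
  let f : X →ₑ[φ] Y :=
    { toFun := β
      map_smul' := fun g x => by
        show β (g.1 x) = β (g.1 (β.symm (β x)))
        simp }
  exact IsPreprimitive.of_surjective (f := f) β.surjective

theorem transport_isPretransitive (h : IsPretransitive G₁ X) :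
    IsPretransitive (G₁.map β.permCongrHom.toMonoidHom) Y := by
  refine ⟨fun a b => ?_⟩
  obtain ⟨g, hg⟩ := h.exists_smul_eq (β.symm a) (β.symm b)
  refine ⟨⟨β.permCongrHom g, Subgroup.mem_map_of_mem _ g.2⟩, ?_⟩
  show β (g.1 (β.symm a)) = b
  have : g.1 (β.symm a) = β.symm b := hg
  rw [this, Equiv.apply_symm_apply]

theorem transport_not_two (h : ¬ IsMultiplyPretransitive G₁ X 2) :
    ¬ IsMultiplyPretransitive (G₁.map β.permCongrHom.toMonoidHom) Y 2 := by
  intro h2
  apply h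
  rw [is_two_pretransitive_iff] at h2 ⊢
  intro a b c d hab hcd
  obtain ⟨g, hg1, hg2⟩ := h2 (β.injective.ne hab) (β.injective.ne hcd)
  obtain ⟨g₁, hg₁, hgg⟩ := (transport_mem β G₁).mp g.2
  refine ⟨⟨g₁, hg₁⟩, ?_, ?_⟩
  · have h1 : (g : Equiv.Perm Y) (β a) = β c := hg1
    rw [hgg, Equiv.symm_apply_apply] at h1
    exact β.injective h1
  · have h1 : (g : Equiv.Perm Y) (β b) = β d := hg2
    rw [hgg, Equiv.symm_apply_apply] at h1
    exact β.injective h1

theorem transport_stabilizer (h : ∀ x : X, stabilizer G₁ x = ⊥) (a : Y) :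
    stabilizer (G₁.map β.permCongrHom.toMonoidHom) a = ⊥ := by
  rw [eq_bot_iff]
  intro g hg
  rw [Subgroup.mem_bot]
  rw [mem_stabilizer_iff] at hg
  obtain ⟨g₁, hg₁, hgg⟩ := (transport_mem β G₁).mp g.2
  have h1 : (g : Equiv.Perm Y) a = a := hg
  rw [hgg] at h1
  have h2 : g₁ (β.symm a) = β.symm a := by
    apply β.injective
    rw [h1, Equiv.apply_symm_apply]
  have h3 : (⟨g₁, hg₁⟩ : G₁) ∈ stabilizer G₁ (β.symm a) := by
    rw [mem_stabilizer_iff]; exact h2
  rw [h, Subgroup.mem_bot] at h3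
  have h4 : g₁ = 1 := congrArg Subtype.val h3
  apply Subtype.ext
  ext y
  rw [hgg, h4]
  simp

theorem transport_equiv : Nonempty (G₁.map β.permCongrHom.toMonoidHom ≃* G₁) :=
  ⟨(Subgroup.equivMapOfInjective G₁ β.permCongrHom.toMonoidHom
    β.permCongrHom.injective).symm⟩

end Transport

end Cfsg.Agent.Lib.Helper64
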