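import Mathlib
import Cfsg.Agent.Lib.Helper64.Derangement
import Cfsg.Agent.Lib.Helper64.MinInv

/-!
Derangements in primitive groups with a non-abelian minimal normal subgroup which are not
almost simple: an elementary replacement for the O'Nan–Scott case analysis.
-/

namespace Cfsg.Agent.Lib.Helper64

open MulAction

section Basics

variable {G Ω : Type*} [Group G] [MulAction G Ω]

/-- a non-trivial normal subgroup of a faithful primitive group is transitive -/
theorem normal_pretransitive [FaithfulSMul G Ω] (hprim : IsPreprimitive G Ω)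
    (M : Subgroup G) (hM : M.Normal) (hM1 : M ≠ ⊥) : IsPretransitive M Ω := by
  have := hM
  apply IsQuasiPreprimitive.isPretransitive_of_normal (G := G) (N := M)
  intro h
  apply hM1
  rw [eq_bot_iff]
  intro m hm
  rw [Subgroup.mem_bot]
  apply FaithfulSMul.eq_of_smul_eq_smul (α := Ω)
  intro a
  have : a ∈ fixedPoints M Ω := by rw [h]; trivial
  rw [one_smul]
  exact this ⟨m, hm⟩

/-- an element commuting with a transitive subgroup and fixing a point is trivial -/
theorem eq_one_of_commute_pretransitive [FaithfulSMul G Ω] (C : Subgroup G)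
    (hC : IsPretransitive C Ω) {x : G} (hx : ∀ c ∈ C, x * c = c * x) {ω : Ω} (h : x • ω = ω) :
    x = 1 := by
  apply FaithfulSMul.eq_of_smul_eq_smul (α := Ω)
  intro a
  obtain ⟨c, rfl⟩ := hC.exists_smul_eq ω a
  rw [one_smul]
  change x • ((c : G) • ω) = (c : G) • ω
  rw [smul_smul, hx c c.2, ← smul_smul, h]

theorem pow_smul_eq_of_smul_eq {x : G} {ω : Ω} (h : x • ω = ω) (j : ℕ) : x ^ j • ω = ω := by
  have : x ∈ stabilizer G ω := h
  exact (stabilizer G ω).pow_mem this j

/-- a transitive semiregular subgroup has as many elements as there are points -/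
theorem card_eq_of_regular (M : Subgroup G) (hM : IsPretransitive M Ω)
    (hsr : ∀ x ∈ M, x ≠ 1 → ∀ ω : Ω, x • ω ≠ ω) (ω : Ω) : Nat.card M = Nat.card Ω := by
  refine Nat.card_congr (Equiv.ofBijective (fun m : M => (m : G) • ω) ⟨?_, ?_⟩)
  · intro a b hab
    simp only at hab
    by_contra hne
    have h1 : (b : G)⁻¹ * a ∈ M := M.mul_mem (M.inv_mem b.2) a.2
    have h2 : (b : G)⁻¹ * a ≠ 1 := by
      intro h
      apply hne
      ext
      have := eq_of_inv_mul_eq_one h  -- b = a ?
      exact this.symm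
    apply hsr _ h1 h2 ω
    rw [mul_smul, hab, smul_smul, inv_mul_cancel, one_smul]
  · intro b
    obtain ⟨m, hm⟩ := hM.exists_smul_eq ω b
    exact ⟨m, hm⟩

end Basics

section Jordan

/-- Jordan: a finite group is not the union of the conjugates of a proper subgroup -/
theorem exists_forall_conj_notMem {H : Type*} [Group H] [Finite H] (R : Subgroup H) (hR : R ≠ ⊤) :
    ∃ t : H, ∀ u : H, u⁻¹ * t * u ∉ R := by
  classical
  have := Fintype.ofFinite H
  by_contra hcon
  push Not at hcon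
  -- every element fixes a coset
  have hfix : ∀ t : H, 1 ≤ Nat.card (fixedBy (H ⧸ R) t) := by
    intro t
    obtain ⟨u, hu⟩ := hcon t
    have : Nonempty (fixedBy (H ⧸ R) t) := by
      refine ⟨⟨(u : H ⧸ R), ?_⟩⟩
      rw [mem_fixedBy]
      rw [MulAction.Quotient.smul_mk, QuotientGroup.eq]
      have e : (t • u)⁻¹ * u = (u⁻¹ * t * u)⁻¹ := by rw [smul_eq_mul]; group
      rw [e]
      exact R.inv_mem hu
    exact Nat.card_pos
  have hsum := burnside_sum (G := H) (X := H ⧸ R)
  rw [card_orbits_eq_one_of_pretransitive, one_mul] at hsum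
  -- the identity fixes everything
  have hone : Nat.card (fixedBy (H ⧸ R) (1 : H)) = Nat.card (H ⧸ R) := by
    refine Nat.card_congr (Equiv.subtypeUnivEquiv ?_)
    intro x; simp
  have h2 : 2 ≤ Nat.card (H ⧸ R) := by
    have hidx : R.index ≠ 1 := by
      intro h; exact hR (Subgroup.index_eq_one.mp h)
    have hidx0 : R.index ≠ 0 := Subgroup.index_ne_zero_of_finite
    change 2 ≤ R.index
    omega
  have : (∑ g : H, Nat.card (fixedBy (H ⧸ R) g)) ≥ (∑ g : H, 1) + 1 := by
    rw [← Finset.add_sum_erase _ _ (Finset.mem_univ (1 : H)),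
      ← Finset.add_sum_erase (f := fun _ => 1) _ (Finset.mem_univ (1 : H))]
    have : ∑ x ∈ Finset.univ.erase (1 : H), 1 ≤
        ∑ x ∈ Finset.univ.erase (1 : H), Nat.card (fixedBy (H ⧸ R) x) :=
      Finset.sum_le_sum (fun g _ => hfix g)
    rw [hone]
    omega
  rw [hsum] at this
  simp only [Finset.sum_const, Finset.card_univ, smul_eq_mul, mul_one] at this
  rw [Nat.card_eq_fintype_card] at this
  omega

/-- subgroup version -/
theorem exists_forall_conj_notMem' {G : Type*} [Group G] [Finite G] {R T : Subgroup G}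
    (hRT : R ≤ T) (hne : R ≠ T) : ∃ t ∈ T, ∀ u ∈ T, u⁻¹ * t * u ∉ R := by
  have h1 : R.subgroupOf T ≠ ⊤ := by
    intro h
    rw [Subgroup.subgroupOf_eq_top] at h
    exact hne (le_antisymm hRT h)
  obtain ⟨t, ht⟩ := exists_forall_conj_notMem (R.subgroupOf T) h1
  refine ⟨t, t.2, fun u hu => ?_⟩
  have := ht ⟨u, hu⟩
  rw [Subgroup.mem_subgroupOf] at this
  simpa using this

end Jordan


section Cases

variable {G Ω : Type*} [Group G] [MulAction G Ω]

/-- The two cases for a faithful primitive group with a non-abelian minimal normal subgroup `N`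
which is not almost simple: either some subgroup `T` is semiregular, has elements `t, t'` of
distinct prime orders `p, q`, and an element `s` of order `q` commutes with `t`; or a minimal
`N`-invariant subgroup `T` has at least two conjugates and contains `t ≠ 1` all of whose
translates `t * c`, `c ∈ N ∩ C(T)`, are derangements. -/
theorem prim_minNormal_cases [Finite G] [FaithfulSMul G Ω] (hprim : IsPreprimitive G Ω)
    (N : Subgroup G) (hN : N.Normal) (hN1 : N ≠ ⊥)
    (hmin : ∀ M : Subgroup G, M.Normal → M ≤ N → M = ⊥ ∨ M = N)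
    (hNc : ¬ ∀ x ∈ N, ∀ y ∈ N, x * y = y * x)
    (hnas : ¬ ∃ T : Subgroup G, T.Normal ∧ IsSimpleGroup T ∧ ¬ IsMulCommutative T ∧
      Subgroup.centralizer (T : Set G) = ⊥) :
    (∃ (T : Subgroup G) (t t' s : G) (p q : ℕ), p.Prime ∧ q.Prime ∧ p ≠ q ∧ t ∈ T ∧ t' ∈ T ∧
        orderOf t = p ∧ orderOf t' = q ∧ orderOf s = q ∧ t * s = s * t ∧
        ∀ x ∈ T, x ≠ 1 → ∀ ω : Ω, x • ω ≠ ω) ∨
    (∃ (T : Subgroup G) (g : G) (t : G) (a b : G) (p q : ℕ), IsMinInv N T ∧
        T ⊓ Subgroup.centralizer (T : Set G) = ⊥ ∧ cj g T ≠ T ∧ t ∈ T ∧ t ≠ 1 ∧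
        p.Prime ∧ q.Prime ∧ p ≠ q ∧ a ∈ T ∧ b ∈ T ∧ orderOf a = p ∧ orderOf b = q ∧
        ∀ c ∈ N ⊓ Subgroup.centralizer (T : Set G), ∀ ω : Ω, (t * c) • ω ≠ ω) := by
  classical
  obtain ⟨T, hT⟩ := exists_isMinInv N hN1
  have hc := inf_centralizer_eq_bot hN hmin hT hNc
  obtain ⟨p, q, hp, hq, hpq, ⟨a, haT, hao⟩, ⟨b, hbT, hbo⟩⟩ := exists_two_primes hT hc
  have hNt : IsPretransitive N Ω := normal_pretransitive hprim N hN hN1
  by_cases hk : ∃ g, cj g T ≠ T
  · obtain ⟨g, hg⟩ := hk
    have hT' := hT.cj hN g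
    have hcent : cj g T ≤ Subgroup.centralizer (T : Set G) :=
      hT.le_centralizer_of_ne hT' (Ne.symm hg)
    by_cases hsr : ∀ x ∈ T, x ≠ 1 → ∀ ω : Ω, x • ω ≠ ω
    · left
      refine ⟨T, a, b, g * b * g⁻¹, p, q, hp, hq, hpq, haT, hbT, hao, hbo, ?_, ?_, hsr⟩
      · have := (MulAut.conj g).orderOf_eq b
        rw [MulAut.conj_apply] at this
        rw [this, hbo]
      · have h1 : g * b * g⁻¹ ∈ Subgroup.centralizer (T : Set G) := hcent (conj_mem_cj hbT)
        exact (Subgroup.mem_centralizer_iff.mp h1 a haT)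
    · right
      push Not at hsr
      obtain ⟨x, hxT, hx1, ω, hxω⟩ := hsr
      set K : Subgroup G := N ⊓ Subgroup.centralizer (T : Set G) with hKdef
      have hKcomm : ∀ c ∈ K, ∀ y ∈ T, c * y = y * c := by
        intro c hc y hy
        exact ((Subgroup.mem_centralizer_iff.mp hc.2) y hy).symm
      let R : Subgroup G :=
        { carrier := {t | t ∈ T ∧ ∃ c ∈ K, t * c ∈ stabilizer G ω}
          one_mem' := ⟨T.one_mem, 1, K.one_mem, by simp⟩
          mul_mem' := by
            rintro y z ⟨hy, c, hc, hyc⟩ ⟨hz, c', hc', hzc⟩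
            refine ⟨T.mul_mem hy hz, c * c', K.mul_mem hc hc', ?_⟩
            have := (stabilizer G ω).mul_mem hyc hzc
            have e : y * c * (z * c') = y * z * (c * c') := by
              calc y * c * (z * c') = y * (c * z) * c' := by group
                _ = y * (z * c) * c' := by rw [hKcomm c hc z hz]
                _ = y * z * (c * c') := by group
            rwa [e] at this
          inv_mem' := by
            rintro y ⟨hy, c, hc, hyc⟩
            refine ⟨T.inv_mem hy, c⁻¹, K.inv_mem hc, ?_⟩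
            have := (stabilizer G ω).inv_mem hyc
            have e : (y * c)⁻¹ = y⁻¹ * c⁻¹ := by
              rw [mul_inv_rev]
              exact hKcomm c⁻¹ (K.inv_mem hc) y⁻¹ (T.inv_mem hy)
            rwa [e] at this }
      have hRmem : ∀ y, y ∈ R ↔ y ∈ T ∧ ∃ c ∈ K, y * c ∈ stabilizer G ω := fun y => Iff.rfl
      have hRT : R ≤ T := fun t ht => ht.1
      have hRne : R ≠ T := by
        intro hR
        -- `T ∩ G_ω` is `N`-invariant
        have hinv : ∀ n ∈ N, ∀ y ∈ T ⊓ stabilizer G ω, n * y * n⁻¹ ∈ T ⊓ stabilizer G ω := by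
          intro n hn y hy
          obtain ⟨t₀, ht₀, c₀, hc₀, rfl⟩ := exists_decomp hN hmin hT hn
          have ht₀R : t₀ ∈ R := by rw [hR]; exact ht₀
          obtain ⟨-, c₁, hc₁, hst⟩ := (hRmem t₀).mp ht₀R
          have e : t₀ * c₀ * y * (t₀ * c₀)⁻¹ = (t₀ * c₁) * y * (t₀ * c₁)⁻¹ := by
            have h1 : c₀ * y = y * c₀ := hKcomm c₀ hc₀ y hy.1
            have h2 : c₁ * y = y * c₁ := hKcomm c₁ hc₁ y hy.1
            calc t₀ * c₀ * y * (t₀ * c₀)⁻¹ = t₀ * (c₀ * y) * c₀⁻¹ * t₀⁻¹ := by group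
              _ = t₀ * (y * c₀) * c₀⁻¹ * t₀⁻¹ := by rw [h1]
              _ = t₀ * y * t₀⁻¹ := by group
              _ = t₀ * (y * c₁) * c₁⁻¹ * t₀⁻¹ := by group
              _ = t₀ * (c₁ * y) * c₁⁻¹ * t₀⁻¹ := by rw [h2]
              _ = (t₀ * c₁) * y * (t₀ * c₁)⁻¹ := by group
          refine Subgroup.mem_inf.mpr ⟨hT.norm _ hn _ hy.1, ?_⟩
          rw [e]
          exact (stabilizer G ω).mul_mem ((stabilizer G ω).mul_mem hst hy.2)
            ((stabilizer G ω).inv_mem hst)
        rcases hT.min _ inf_le_left hinv with h0 | h0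
        · have : x ∈ T ⊓ stabilizer G ω := ⟨hxT, hxω⟩
          rw [h0, Subgroup.mem_bot] at this
          exact hx1 this
        · -- `T` fixes `ω`, hence everything
          have hTst : T ≤ stabilizer G ω := by
            rw [← h0]; exact inf_le_right
          apply hT.ne_bot
          rw [eq_bot_iff]
          intro y hy
          rw [Subgroup.mem_bot]
          apply FaithfulSMul.eq_of_smul_eq_smul (α := Ω)
          intro ω'
          obtain ⟨n, rfl⟩ := hNt.exists_smul_eq ω ω'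
          rw [one_smul]
          change y • ((n : G) • ω) = (n : G) • ω
          have h1 : (n : G)⁻¹ * y * n ∈ T := by
            have := hT.norm _ (N.inv_mem n.2) y hy
            simpa using this
          have h2 : ((n : G)⁻¹ * y * n) • ω = ω := hTst h1
          have e : y * (n : G) = (n : G) * ((n : G)⁻¹ * y * n) := by group
          rw [smul_smul, e, ← smul_smul, h2]
      obtain ⟨t, htT, ht⟩ := exists_forall_conj_notMem' hRT hRne
      have ht1 : t ≠ 1 := by
        rintro rfl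
        apply ht 1 T.one_mem
        simp only [inv_one, mul_one]
        exact R.one_mem
      refine ⟨T, g, t, a, b, p, q, hT, hc, hg, htT, ht1, hp, hq, hpq, haT, hbT, hao, hbo, ?_⟩
      intro c hcK ω' hfix
      obtain ⟨n, rfl⟩ := hNt.exists_smul_eq ω ω'
      change (t * c) • ((n : G) • ω) = (n : G) • ω at hfix
      obtain ⟨t₀, ht₀, c₀, hc₀, hn⟩ := exists_decomp hN hmin hT n.2
      have h1 : ((n : G)⁻¹ * (t * c) * n) • ω = ω := by
        rw [mul_smul, mul_smul, hfix, smul_smul, inv_mul_cancel, one_smul]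
      have e : (n : G)⁻¹ * (t * c) * n = (t₀⁻¹ * t * t₀) * (c₀⁻¹ * c * c₀) := by
        rw [hn]
        have h2 : c₀⁻¹ * (t₀⁻¹ * t * t₀) = (t₀⁻¹ * t * t₀) * c₀⁻¹ :=
          hKcomm _ (K.inv_mem hc₀) _ (T.mul_mem (T.mul_mem (T.inv_mem ht₀) htT) ht₀)
        have h3 : c * t₀ = t₀ * c := hKcomm c hcK t₀ ht₀
        calc (t₀ * c₀)⁻¹ * (t * c) * (t₀ * c₀) = c₀⁻¹ * t₀⁻¹ * t * (c * t₀) * c₀ := by group
          _ = c₀⁻¹ * t₀⁻¹ * t * (t₀ * c) * c₀ := by rw [h3]
          _ = (c₀⁻¹ * (t₀⁻¹ * t * t₀)) * c * c₀ := by group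
          _ = ((t₀⁻¹ * t * t₀) * c₀⁻¹) * c * c₀ := by rw [h2]
          _ = (t₀⁻¹ * t * t₀) * (c₀⁻¹ * c * c₀) := by group
      apply ht t₀ ht₀
      refine (hRmem _).mpr ⟨T.mul_mem (T.mul_mem (T.inv_mem ht₀) htT) ht₀, c₀⁻¹ * c * c₀,
        K.mul_mem (K.mul_mem (K.inv_mem hc₀) hcK) hc₀, ?_⟩
      rw [← e]
      exact h1
  · -- `T` is normal in `G`
    push Not at hk
    left
    have hTn : T.Normal := ⟨fun n hn g => by
      have := conj_mem_cj (g := g) hn
      rwa [hk g] at this⟩
    have hTN : T = N := (hmin T hTn hT.le).resolve_left hT.ne_bot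
    have hsimple : IsSimpleGroup T := by
      have hnt : Nontrivial T := (Subgroup.nontrivial_iff_ne_bot T).mpr hT.ne_bot
      refine { toNontrivial := hnt, eq_bot_or_eq_top_of_normal := fun H hH => ?_ }
      have h1 := hT.min (H.map T.subtype) (Subgroup.map_subtype_le H) (by
        intro n hn y hy
        obtain ⟨z, hz, rfl⟩ := hy
        have hnT : n ∈ T := by rw [hTN]; exact hn
        exact ⟨⟨n, hnT⟩ * z * ⟨n, hnT⟩⁻¹, hH.conj_mem z hz ⟨n, hnT⟩, by simp⟩)
      rcases h1 with h1 | h1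
      · left
        exact (Subgroup.map_eq_bot_iff_of_injective H T.subtype_injective).mp h1
      · right
        rw [eq_top_iff]
        intro y _
        have : (y : G) ∈ H.map T.subtype := by rw [h1]; exact y.2
        obtain ⟨z, hz, hzy⟩ := this
        have : z = y := Subtype.ext hzy
        rwa [← this]
    have hncomm : ¬ IsMulCommutative T := by
      intro hcomm
      apply hT.ne_bot
      rw [eq_bot_iff, ← hc]
      intro y hy
      refine Subgroup.mem_inf.mpr ⟨hy, ?_⟩
      rw [Subgroup.mem_centralizer_iff]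
      intro z hz
      have := hcomm.is_comm.comm ⟨z, hz⟩ ⟨y, hy⟩
      exact congrArg Subtype.val this
    have hC1 : Subgroup.centralizer (T : Set G) ≠ ⊥ := fun h =>
      hnas ⟨T, hTn, hsimple, hncomm, h⟩
    have hCn : (Subgroup.centralizer (T : Set G)).Normal := by
      have := hTn
      exact Subgroup.normal_centralizer
    have hCt : IsPretransitive (Subgroup.centralizer (T : Set G)) Ω :=
      normal_pretransitive hprim _ hCn hC1
    have hTt : IsPretransitive T Ω := normal_pretransitive hprim _ hTn hT.ne_bot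
    have hTsr : ∀ x ∈ T, x ≠ 1 → ∀ ω : Ω, x • ω ≠ ω := by
      intro x hx hx1 ω hω
      apply hx1
      refine eq_one_of_commute_pretransitive _ hCt (fun c hc => ?_) hω
      exact (Subgroup.mem_centralizer_iff.mp hc) x hx
    have hCsr : ∀ x ∈ Subgroup.centralizer (T : Set G), x ≠ 1 → ∀ ω : Ω, x • ω ≠ ω := by
      intro x hx hx1 ω hω
      apply hx1
      refine eq_one_of_commute_pretransitive _ hTt (fun c hc => ?_) hω
      exact ((Subgroup.mem_centralizer_iff.mp hx) c hc).symm
    have hΩne : Nonempty Ω := by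
      by_contra hemp
      rw [not_nonempty_iff] at hemp
      apply hT.ne_bot
      rw [eq_bot_iff]
      intro y _
      rw [Subgroup.mem_bot]
      exact FaithfulSMul.eq_of_smul_eq_smul (α := Ω) (fun ω => (hemp.false ω).elim)
    obtain ⟨ω⟩ := hΩne
    have hcard : Nat.card (Subgroup.centralizer (T : Set G)) = Nat.card T := by
      rw [card_eq_of_regular _ hCt hCsr ω, card_eq_of_regular _ hTt hTsr ω]
    have hqd : q ∣ Nat.card (Subgroup.centralizer (T : Set G)) := by
      rw [hcard, ← hbo]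
      have := orderOf_dvd_natCard (⟨b, hbT⟩ : T)
      rwa [← Subgroup.orderOf_coe] at this
    have : Fact q.Prime := ⟨hq⟩
    obtain ⟨s, hs⟩ := exists_prime_orderOf_dvd_card' (G := Subgroup.centralizer (T : Set G)) q hqd
    refine ⟨T, a, b, (s : G), p, q, hp, hq, hpq, haT, hbT, hao, hbo, ?_, ?_, hTsr⟩
    · rw [Subgroup.orderOf_coe]; exact hs
    · exact (Subgroup.mem_centralizer_iff.mp s.2) a haT


/-- Case I gives three derangements `t, t', t * s` of orders `p, q, p * q`. -/
theorem caseI_derangements (T : Subgroup G) {t t' s : G} {p q : ℕ} (hp : p.Prime) (hq : q.Prime)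
    (hpq : p ≠ q) (ht : t ∈ T) (ht' : t' ∈ T) (hto : orderOf t = p) (hto' : orderOf t' = q)
    (hso : orderOf s = q) (hts : t * s = s * t)
    (hsr : ∀ x ∈ T, x ≠ 1 → ∀ ω : Ω, x • ω ≠ ω) :
    (∀ ω : Ω, t • ω ≠ ω) ∧ (∀ ω : Ω, t' • ω ≠ ω) ∧ (∀ ω : Ω, (t * s) • ω ≠ ω) ∧
      orderOf (t * s) = p * q := by
  have ht1 : t ≠ 1 := by
    rintro rfl; rw [orderOf_one] at hto; exact hp.one_lt.ne hto
  have ht1' : t' ≠ 1 := by
    rintro rfl; rw [orderOf_one] at hto'; exact hq.one_lt.ne hto'
  have hcomm : Commute t s := hts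
  refine ⟨hsr t ht ht1, hsr t' ht' ht1', ?_, ?_⟩
  · intro ω hω
    have h1 := pow_smul_eq_of_smul_eq hω q
    have h2 : (t * s) ^ q = t ^ q := by
      rw [hcomm.mul_pow, ← hso, pow_orderOf_eq_one, mul_one]
    rw [h2] at h1
    have h3 : t ^ q ≠ 1 := by
      intro h
      have := orderOf_dvd_of_pow_eq_one h
      rw [hto] at this
      exact hpq ((Nat.prime_dvd_prime_iff_eq hp hq).mp this)
    exact hsr _ (T.pow_mem ht q) h3 ω h1
  · have hco : (orderOf t).Coprime (orderOf s) := by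
      rw [hto, hso]; exact (Nat.coprime_primes hp hq).mpr hpq
    rw [hcomm.orderOf_mul_eq_mul_orderOf_of_coprime hco, hto, hso]

theorem exists_derangement_not_primePow [Finite G] [FaithfulSMul G Ω]
    (hprim : IsPreprimitive G Ω)
    (N : Subgroup G) (hN : N.Normal) (hN1 : N ≠ ⊥)
    (hmin : ∀ M : Subgroup G, M.Normal → M ≤ N → M = ⊥ ∨ M = N)
    (hNc : ¬ ∀ x ∈ N, ∀ y ∈ N, x * y = y * x)
    (hnas : ¬ ∃ T : Subgroup G, T.Normal ∧ IsSimpleGroup T ∧ ¬ IsMulCommutative T ∧
      Subgroup.centralizer (T : Set G) = ⊥) :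
    ∃ x : G, (∀ ω : Ω, x • ω ≠ ω) ∧ ∀ (r k : ℕ), r.Prime → orderOf x ≠ r ^ k := by
  rcases prim_minNormal_cases hprim N hN hN1 hmin hNc hnas with
    ⟨T, t, t', s, p, q, hp, hq, hpq, ht, ht', hto, hto', hso, hts, hsr⟩ |
    ⟨T, g, t, a, b, p, q, hT, hc, hg, htT, ht1, hp, hq, hpq, haT, hbT, hao, hbo, hder⟩
  · obtain ⟨-, -, h3, h4⟩ := caseI_derangements T hp hq hpq ht ht' hto hto' hso hts hsr
    refine ⟨t * s, h3, ?_⟩
    intro r k hr h
    rw [h4] at h
    have h1 : p ∣ r ^ k := h ▸ dvd_mul_right p q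
    have h2 : q ∣ r ^ k := h ▸ dvd_mul_left q p
    have e1 := (Nat.prime_dvd_prime_iff_eq hp hr).mp (hp.dvd_of_dvd_pow h1)
    have e2 := (Nat.prime_dvd_prime_iff_eq hq hr).mp (hq.dvd_of_dvd_pow h2)
    exact hpq (e1.trans e2.symm)
  · by_cases hm : ∃ r k : ℕ, r.Prime ∧ orderOf t = r ^ k
    · obtain ⟨r, k, hr, hrk⟩ := hm
      have hk0 : k ≠ 0 := by
        rintro rfl
        rw [pow_zero, orderOf_eq_one_iff] at hrk
        exact ht1 hrk
      -- a prime different from `r` and an element of `T` of that order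
      obtain ⟨q', e, hq', hq'r, heT, heo⟩ : ∃ (q' : ℕ) (e : G), q'.Prime ∧ q' ≠ r ∧ e ∈ T ∧
          orderOf e = q' := by
        by_cases hpr : p = r
        · exact ⟨q, b, hq, fun h => hpq (hpr.trans h.symm), hbT, hbo⟩
        · exact ⟨p, a, hp, hpr, haT, hao⟩
      have hT' := hT.cj hN g
      have hcent : cj g T ≤ Subgroup.centralizer (T : Set G) :=
        hT.le_centralizer_of_ne hT' (Ne.symm hg)
      have hsK : g * e * g⁻¹ ∈ N ⊓ Subgroup.centralizer (T : Set G) :=
        Subgroup.mem_inf.mpr ⟨cj_le_of_normal hN hT.le g (conj_mem_cj heT),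
          hcent (conj_mem_cj heT)⟩
      have hso : orderOf (g * e * g⁻¹) = q' := by
        have := (MulAut.conj g).orderOf_eq e
        rw [MulAut.conj_apply] at this
        rw [this, heo]
      have hcomm : Commute t (g * e * g⁻¹) :=
        (Subgroup.mem_centralizer_iff.mp hsK.2) t htT
      refine ⟨t * (g * e * g⁻¹), hder _ hsK, ?_⟩
      intro r' k' hr' h
      have hco : (orderOf t).Coprime (orderOf (g * e * g⁻¹)) := by
        rw [hrk, hso]
        exact ((Nat.coprime_primes hr hq').mpr (Ne.symm hq'r)).pow_left k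
      rw [hcomm.orderOf_mul_eq_mul_orderOf_of_coprime hco, hrk, hso] at h
      have h1 : r ∣ r' ^ k' := by
        rw [← h]
        exact dvd_mul_of_dvd_left (dvd_pow_self r hk0) q'
      have h2 : q' ∣ r' ^ k' := h ▸ dvd_mul_left q' (r ^ k)
      have e1 := (Nat.prime_dvd_prime_iff_eq hr hr').mp (hr.dvd_of_dvd_pow h1)
      have e2 := (Nat.prime_dvd_prime_iff_eq hq' hr').mp (hq'.dvd_of_dvd_pow h2)
      exact hq'r (e2.trans e1.symm)
    · push Not at hm
      refine ⟨t, ?_, fun r k hr => hm r k hr⟩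
      have := hder 1 (Subgroup.one_mem _)
      simpa using this

/-- an abelian minimal normal subgroup of a faithful primitive group is regular of prime
exponent -/
theorem affine_of_comm_minNormal [Finite G] [FaithfulSMul G Ω]
    (hprim : IsPreprimitive G Ω)
    (N : Subgroup G) (hN : N.Normal) (hN1 : N ≠ ⊥)
    (hmin : ∀ M : Subgroup G, M.Normal → M ≤ N → M = ⊥ ∨ M = N)
    (hcomm : ∀ x ∈ N, ∀ y ∈ N, x * y = y * x) :
    IsMulCommutative N ∧ (∃ r : ℕ, r.Prime ∧ ∀ x ∈ N, x ^ r = 1) ∧ IsPretransitive N Ω ∧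
      (∀ a : Ω, stabilizer N a = ⊥) ∧ ∀ x ∈ N, x ≠ 1 → ∀ ω : Ω, x • ω ≠ ω := by
  have hNt : IsPretransitive N Ω := normal_pretransitive hprim N hN hN1
  have hsr : ∀ x ∈ N, x ≠ 1 → ∀ ω : Ω, x • ω ≠ ω := by
    intro x hx hx1 ω hω
    apply hx1
    exact eq_one_of_commute_pretransitive N hNt (fun c hc => hcomm x hx c hc) hω
  refine ⟨⟨⟨fun a b => Subtype.ext (hcomm a a.2 b b.2)⟩⟩,
    exists_prime_exponent_of_comm hN hN1 hmin hcomm, hNt, ?_, hsr⟩
  intro a
  rw [eq_bot_iff]
  intro x hx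
  rw [Subgroup.mem_bot]
  by_contra hx1
  have hx' : (x : G) ≠ 1 := fun h => hx1 (Subtype.ext h)
  exact hsr x x.2 hx' a hx

end Cases

end Cfsg.Agent.Lib.Helper64
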