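import Mathlib
import Cfsg.Agent.Lib.Helper49.RSU3Defs
import Cfsg.Agent.Lib.Helper64.RSU3L10

/-!
KEYSTONE 228312  K-RSU3-L12  `comm_x` (pack K-RSU3 = S2283, architect helper49; parallel hand).
The commutator of two upper unitriangular elements: `mat (x u x⁻¹ u⁻¹) = xM q 0 (a c^q - a^q c)`.
-/

set_option autoImplicit false
set_option linter.unusedSectionVars false
set_option linter.unusedVariables false
set_option linter.unusedSimpArgs false

namespace Cfsg.Agent.Lib.Helper64.RSU3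

open Matrix Cfsg.Agent.Lib.Helper49.StSU Cfsg.Agent.Lib.Helper49.RSU3

variable {F : Type*} [Field F] [Fintype F] {q : ℕ}

/-- `xM c e * xM a b = xM 0 (a c^q - a^q c) * xM a b * xM c e` -/
theorem l12_swap (hF : Fintype.card F = q ^ 2) (c e a b : F) :
    xM q c e * xM q a b = xM q 0 (a * c ^ q - a ^ q * c) * xM q a b * xM q c e := by
  rw [xM_mul hF, xM_mul hF, xM_mul hF]
  congr 1
  · ring
  · ring

/-- L12 -/
theorem comm_x (hF : Fintype.card F = q ^ 2) (x u : GJ 3 F q) (c e a b : F)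
    (hx : mat x = xM q c e) (hu : mat u = xM q a b) :
    mat (x * u * x⁻¹ * u⁻¹) = xM q 0 (a * c ^ q - a ^ q * c) := by
  rw [mat_mul, mat_mul, mat_mul, hx, hu, l12_swap hF c e a b, ← hx, ← hu]
  rw [Matrix.mul_assoc (xM q 0 (a * c ^ q - a ^ q * c) * mat u), mat_mul_inv, Matrix.mul_one,
    Matrix.mul_assoc, mat_mul_inv, Matrix.mul_one]

end Cfsg.Agent.Lib.Helper64.RSU3
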