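import Mathlib
import Cfsg.Agent.Lib.Helper49.RSU3Defs
import Cfsg.Agent.Lib.Helper40.GUConj
import Cfsg.Agent.Lib.Helper21.RSU3L04
import Cfsg.Agent.Lib.Helper47.RSU3L06

/-!
KEYSTONE 228323  K-RSU3-L23  `borel_decomp` (pack K-RSU3 = S2283, architect helper49; parallel hand).
An element of `GJ 3 F q` fixing the line `⟨e_0⟩` is `t * X`, `t` diagonal (`hM q m`), `X` upper unitriangular (`xM q a b`).
-/

set_option autoImplicit false
set_option linter.unusedSectionVars false
set_option linter.unusedVariables false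
set_option linter.unusedSimpArgs false

namespace Cfsg.Agent.Lib.Helper64.RSU3

open Matrix Cfsg.Agent.Lib.Helper49.StSU Cfsg.Agent.Lib.Helper49.RSU3

variable {F : Type*} [Field F] [Fintype F] {q : ℕ}

/-- the unitarity relations between the columns of an element of `GJ 3 F q` -/
theorem l23_un (φ : F →+* F) (hφ : ∀ x, φ x = x ^ q) (g : GJ 3 F q) (j k : Fin 3) :
    mat g 0 j * φ (mat g 2 k) + mat g 1 j * φ (mat g 1 k) + mat g 2 j * φ (mat g 0 k) =
      (Pi.single j 1 : Fin 3 → F) 0 * φ ((Pi.single k 1 : Fin 3 → F) 2) +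
        (Pi.single j 1 : Fin 3 → F) 1 * φ ((Pi.single k 1 : Fin 3 → F) 1) +
        (Pi.single j 1 : Fin 3 → F) 2 * φ ((Pi.single k 1 : Fin 3 → F) 0) := by
  have h := hJ_mat g (Pi.single j 1) (Pi.single k 1)
  rw [Cfsg.Agent.Lib.Helper21.RSU3.l04_hJ φ hφ, Cfsg.Agent.Lib.Helper21.RSU3.l04_hJ φ hφ,
    Matrix.mulVec_single_one, Matrix.mulVec_single_one] at h
  simpa [Matrix.col_apply] using h

/-- L23 -/
theorem borel_decomp (hq : 3 ≤ q) (hF : Fintype.card F = q ^ 2) (g : GJ 3 F q)
    (h10 : mat g 1 0 = 0) (h20 : mat g 2 0 = 0) :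
    ∃ (t X : GJ 3 F q) (m a b : F), mat t = hM q m ∧ mat X = xM q a b ∧ g = t * X := by
  obtain ⟨φ, hφ, hφφ, -⟩ := Cfsg.Agent.Lib.Helper40.GUConj.exists_frob hF
  -- relations for `g`
  have h01 := l23_un φ hφ g 0 1
  have h02 := l23_un φ hφ g 0 2
  simp [h10, h20] at h01 h02
  -- h02 : mat g 0 0 * φ (mat g 2 2) = 1 ; h01 : mat g 0 0 = 0 ∨ φ (mat g 2 1) = 0 (or similar)
  have hm : mat g 0 0 ≠ 0 := by
    intro h
    rw [h, zero_mul] at h02
    exact zero_ne_one h02
  have h21 : mat g 2 1 = 0 := by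
    rcases h01 with h | h
    · exact absurd h hm
    · exact h
  have h22φ : φ (mat g 2 2) = 1 / mat g 0 0 := by
    field_simp
    rw [mul_comm]; exact h02
  have h22 : mat g 2 2 = 1 / φ (mat g 0 0) := by
    have := congrArg φ h22φ
    rwa [hφφ, map_div₀, map_one] at this
  have hφm : φ (mat g 0 0) ≠ 0 := by
    intro h
    have := congrArg φ h
    rw [hφφ, map_zero] at this
    exact hm this
  have hdet := det_mat g
  rw [Matrix.det_fin_three, h10, h20, h21] at hdet
  have h11 : mat g 1 1 = φ (mat g 0 0) / mat g 0 0 := by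
    rw [h22] at hdet
    field_simp
    field_simp at hdet
    linear_combination hdet
  -- the torus part
  obtain ⟨t, ht⟩ := Cfsg.Agent.Lib.Helper47.RSU3.exists_h hF (mat g 0 0) hm
  have hgt : g = t * (t⁻¹ * g) := by group
  have hprod : hM q (mat g 0 0) * mat (t⁻¹ * g) = mat g := by
    rw [← ht, ← mat_mul, ← hgt]
  set X := t⁻¹ * g with hX
  have hent : ∀ i j : Fin 3, hM q (mat g 0 0) i i * mat X i j = mat g i j := by
    intro i j
    have e := congrFun (congrFun hprod i) j
    rw [Matrix.mul_apply, Fin.sum_univ_three] at e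
    fin_cases i <;> simpa [hM] using e
  have hq' : (mat g 0 0) ^ q = φ (mat g 0 0) := (hφ _).symm
  have hd0 : hM q (mat g 0 0) 0 0 = mat g 0 0 := by simp [hM]
  have hd1 : hM q (mat g 0 0) 1 1 = φ (mat g 0 0) / mat g 0 0 := by simp [hM, hq']
  have hd2 : hM q (mat g 0 0) 2 2 = 1 / φ (mat g 0 0) := by simp [hM, hq']
  have hd1ne : φ (mat g 0 0) / mat g 0 0 ≠ 0 := div_ne_zero hφm hm
  have hd2ne : (1 : F) / φ (mat g 0 0) ≠ 0 := div_ne_zero one_ne_zero hφm
  have x00 : mat X 0 0 = 1 := by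
    have := hent 0 0; rw [hd0] at this
    exact mul_left_cancel₀ hm (this.trans (mul_one _).symm)
  have x10 : mat X 1 0 = 0 := by
    have := hent 1 0; rw [hd1, h10] at this
    exact (mul_eq_zero.mp this).resolve_left hd1ne
  have x20 : mat X 2 0 = 0 := by
    have := hent 2 0; rw [hd2, h20] at this
    exact (mul_eq_zero.mp this).resolve_left hd2ne
  have x21 : mat X 2 1 = 0 := by
    have := hent 2 1; rw [hd2, h21] at this
    exact (mul_eq_zero.mp this).resolve_left hd2ne
  have x11 : mat X 1 1 = 1 := by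
    have := hent 1 1; rw [hd1, h11] at this
    exact mul_left_cancel₀ hd1ne (this.trans (mul_one _).symm)
  have x22 : mat X 2 2 = 1 := by
    have := hent 2 2; rw [hd2, h22] at this
    exact mul_left_cancel₀ hd2ne (this.trans (mul_one _).symm)
  -- unitarity of `X`
  have hX12 := l23_un φ hφ X 1 2
  simp [x21, x11, x22] at hX12
  -- hX12 : mat X 0 1 + φ (mat X 1 2) = 0
  have x12 : mat X 1 2 = -(mat X 0 1) ^ q := by
    have h1 : φ (mat X 1 2) = -(mat X 0 1) := by linear_combination hX12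
    have := congrArg φ h1
    rw [hφφ, map_neg, hφ] at this
    exact this
  refine ⟨t, X, mat g 0 0, mat X 0 1, mat X 0 2, ht, ?_, hgt⟩
  ext i j
  fin_cases i <;> fin_cases j <;> simp [xM, x00, x10, x20, x21, x11, x22, x12]

end Cfsg.Agent.Lib.Helper64.RSU3
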