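import Mathlib
import Cfsg.Agent.Lib.Helper48.RSpDefs2

/-!
KEYSTONE 228114  K-RSp-E1  `tv_mem_of_inr_zero` (pack K-RSp = S2281, architect helper48).
Symplectic transvections with centre in `W = ⟨e_i⟩` are the matrices `x(a w wᵀ)`.
-/

set_option autoImplicit false
set_option linter.unusedVariables false

namespace Cfsg.Agent.Lib.Helper64.RSp

open Matrix Cfsg.Agent.Lib.Helper48.RSp Cfsg.Agent.Lib.Helper18

/-- the transvection with centre `w` in `W` as an `x`-matrix -/
theorem sympTransvection_eq_xMat {m : ℕ} {F : Type*} [Field F]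
    (w : Fin (m + 2) ⊕ Fin (m + 2) → F) (hw : ∀ i, w (Sum.inr i) = 0) (a : F) :
    Cfsg.sympTransvection (m + 2) w a =
      xMat m (a • Matrix.vecMulVec (fun i => w (Sum.inl i)) (fun i => w (Sum.inl i))) := by
  have hJl : ∀ i, (Matrix.J (Fin (m + 2)) F *ᵥ w) (Sum.inl i) = 0 := by
    intro i
    unfold Matrix.J
    rw [Matrix.fromBlocks_mulVec]
    simp [Matrix.neg_mulVec, hw]
  have hJr : ∀ i, (Matrix.J (Fin (m + 2)) F *ᵥ w) (Sum.inr i) = w (Sum.inl i) := by
    intro i
    unfold Matrix.J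
    rw [Matrix.fromBlocks_mulVec]
    simp
  unfold Cfsg.sympTransvection xMat
  ext r c
  rcases r with i | i <;> rcases c with j | j
  · simp [Matrix.vecMulVec_apply, hJl, Matrix.one_apply]
  · simp [Matrix.vecMulVec_apply, hJr]
  · simp [Matrix.vecMulVec_apply, hJl, hw]
  · simp [Matrix.vecMulVec_apply, hJr, hw, Matrix.one_apply]

/-- KEYSTONE 228114  K-RSp-E1. -/
theorem tv_mem_of_inr_zero {m : ℕ} {F : Type*} [Field F] {G : Subgroup (SpG m F)}
    (hX : ∀ S : SM m F, Sᵀ = S → S ∈ XG G)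
    (w : Fin (m + 2) ⊕ Fin (m + 2) → F) (hw : ∀ i, w (Sum.inr i) = 0) : w ∈ TG G := by
  intro a
  have hS : (a • Matrix.vecMulVec (fun i => w (Sum.inl i)) (fun i => w (Sum.inl i)) : SM m F)ᵀ =
      a • Matrix.vecMulVec (fun i => w (Sum.inl i)) (fun i => w (Sum.inl i)) := by
    ext i j
    simp [Matrix.vecMulVec_apply, mul_comm]
  obtain ⟨_, g, hg, hgS⟩ := hX _ hS
  have : tv (m + 2) w a = g := by
    apply Subtype.ext
    rw [tv_val, hgS, sympTransvection_eq_xMat w hw a]
  rw [this]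
  exact hg

end Cfsg.Agent.Lib.Helper64.RSp
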