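import Mathlib
import Cfsg.Agent.Lib.Helper48.RSpDefs2

/-!
KEYSTONE 228106  K-RSp-M6  `exists_g_two` (pack K-RSp = S2281, architect helper48; parallel hand).
`n = 2`, characteristic `2`: the conjugator `g = x(s ε E_11) l(E)`, `E = [[1,ε],[0,1]]`, with
`g u g⁻¹ = u x(s (ε² + ε) E_00)`.
-/

set_option autoImplicit false
set_option linter.unusedVariables false
set_option linter.unusedSimpArgs false
set_option linter.unnecessarySeqFocus false

namespace Cfsg.Agent.Lib.Helper64.RSp

open Matrix Cfsg.Agent.Lib.Helper48.RSp Cfsg.Agent.Lib.Helper18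

theorem m6_Aalt (F : Type*) [Field F] : Aalt 0 F = !![1, -1; 0, 1] := by
  ext i j
  fin_cases i <;> fin_cases j <;> simp [Aalt]

theorem m6_UupT (F : Type*) [Field F] : (Uup 0 F)ᵀ = !![1, 0; 1, 1] := by
  ext i j
  fin_cases i <;> fin_cases j <;> simp [Uup, Nup, Matrix.transpose_apply, Matrix.one_apply]

theorem m6_Elast {F : Type*} [Field F] (s : F) : s • Elast 0 F = !![0, 0; 0, s] := by
  ext i j
  fin_cases i <;> fin_cases j <;> simp [Elast, Fin.last]

theorem m6_E00 {F : Type*} [Field F] (l : F) : l • E00 0 F = !![l, 0; 0, 0] := by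
  ext i j
  fin_cases i <;> fin_cases j <;> simp [E00]

/-- KEYSTONE 228106  K-RSp-M6. -/
theorem exists_g_two {F : Type*} [Field F] (h2 : (2 : F) = 0) (s ε : F) :
    ∃ g : BM 0 F, g ∈ Matrix.symplecticGroup (Fin 2) F ∧
      g * uMat 0 s = uMat 0 s * xMat 0 ((s * (ε ^ 2 + ε)) • E00 0 F) * g := by
  refine ⟨Matrix.fromBlocks !![1, ε; 0, 1] !![0, 0; s * ε * ε, s * ε] 0 !![1, 0; ε, 1], ?_, ?_⟩
  · rw [SymplecticGroup.fromBlocks_mem_iff]
    refine ⟨by simp, ?_, ?_⟩
    · ext i j
      fin_cases i <;> fin_cases j <;>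
        simp [Matrix.mul_apply, Fin.sum_univ_two, Matrix.transpose_apply] <;> ring
    · ext i j
      fin_cases i <;> fin_cases j <;>
        simp [Matrix.mul_apply, Fin.sum_univ_two, Matrix.transpose_apply, Matrix.one_apply]
      linear_combination ε * h2
  · unfold uMat xMat
    rw [m6_Aalt, m6_UupT, m6_Elast, m6_E00, Matrix.fromBlocks_multiply, Matrix.fromBlocks_multiply,
      Matrix.fromBlocks_multiply]
    congr 1
    · ext i j
      fin_cases i <;> fin_cases j <;>
        simp [Matrix.mul_apply, Fin.sum_univ_two, Matrix.one_apply] <;> ring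
    · ext i j
      fin_cases i <;> fin_cases j <;>
        simp [Matrix.mul_apply, Fin.sum_univ_two, Matrix.one_apply] <;>
        first
          | ring1
          | linear_combination (s * ε) * h2
    · ext i j
      fin_cases i <;> fin_cases j <;>
        simp [Matrix.mul_apply, Fin.sum_univ_two, Matrix.one_apply]
    · ext i j
      fin_cases i <;> fin_cases j <;>
        simp [Matrix.mul_apply, Fin.sum_univ_two, Matrix.one_apply] <;> ring

end Cfsg.Agent.Lib.Helper64.RSp
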