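import Mathlib
import Cfsg.Agent.Lib.Helper48.RSpDefs2

/-!
KEYSTONE 228109  K-RSp-X3  `XG_conj_tau` (pack K-RSp = S2281, architect helper48; parallel hand).
`n = 2`: the quadratic Levi step.  With `S = [[α,β],[β,0]]`, `c = cMat 0 t σ`:
`g_S = c x(S) c⁻¹ = [[τ, L S Lᵀ],[0, τ⁻ᵀ]]`, `τ = tauMat t σ β`, and `g_S x(S₂) = x(τ S₂ τᵀ) g_S`.
-/

set_option autoImplicit false
set_option linter.unusedVariables false
set_option linter.unusedSimpArgs false

namespace Cfsg.Agent.Lib.Helper64.RSp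

open Matrix Cfsg.Agent.Lib.Helper48.RSp Cfsg.Agent.Lib.Helper18

variable {F : Type*} [Field F]

/-- `Llow 0 t = [[1,0],[t,1]]` -/
theorem x3_Llow (t : F) (ht : t ≠ 0) : Llow 0 t = !![1, 0; t, 1] := by
  ext i j
  fin_cases i <;> fin_cases j <;>
    simp [Llow, Uup, Nup, dvec, Matrix.mul_apply, Matrix.diagonal_apply, Matrix.one_apply, ht]

/-- `Dlow 0 t = [[1,-t],[0,1]]` -/
theorem x3_Dlow (t : F) (ht : t ≠ 0) : Dlow 0 t = !![1, -t; 0, 1] := by
  ext i j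
  fin_cases i <;> fin_cases j <;>
    simp [Dlow, Aalt, dvec, Matrix.mul_apply, Matrix.diagonal_apply, Fin.sum_univ_two, ht]

/-- `σ E_last = [[0,0],[0,σ]]` -/
theorem x3_Elast (σ : F) : σ • Elast 0 F = !![0, 0; 0, σ] := by
  ext i j
  fin_cases i <;> fin_cases j <;> simp [Elast, Fin.last]

/-- the inverse transpose of `tauMat` -/
def x3_tauInvT (t σ β : F) : Matrix (Fin 2) (Fin 2) F :=
  !![1 - σ * β * t, -(σ * β * t ^ 2); σ * β, 1 + σ * β * t]

/-- the upper right block `L S Lᵀ` of `g_S` -/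
def x3_Z (t α β : F) : Matrix (Fin 2) (Fin 2) F :=
  !![α, α * t + β; t * α + β, t ^ 2 * α + 2 * t * β]

theorem x3_tauT_mul (t σ β : F) : (tauMat t σ β)ᵀ * x3_tauInvT t σ β = 1 := by
  ext i j
  fin_cases i <;> fin_cases j <;>
    simp [tauMat, x3_tauInvT, Matrix.mul_apply, Fin.sum_univ_two] <;> ring

/-- `c x(S) = g_S c` -/
theorem x3_conj (t σ : F) (ht : t ≠ 0) (S : SM 0 F) (hS : Sᵀ = S) (h11 : S 1 1 = 0) :
    cMat 0 t σ * xMat 0 S =
      Matrix.fromBlocks (tauMat t σ (S 0 1)) (x3_Z t (S 0 0) (S 0 1)) 0 (x3_tauInvT t σ (S 0 1)) *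
        cMat 0 t σ := by
  have h10 : S 1 0 = S 0 1 := by
    have := congrFun (congrFun hS 0) 1
    simpa [Matrix.transpose_apply] using this
  have hSform : S = !![S 0 0, S 0 1; S 0 1, 0] := by
    ext i j
    fin_cases i <;> fin_cases j <;> simp [h10, h11]
  unfold cMat xMat
  rw [x3_Llow t ht, x3_Dlow t ht, x3_Elast σ, Matrix.fromBlocks_multiply, Matrix.fromBlocks_multiply]
  generalize S 0 0 = α at hSform ⊢
  generalize S 0 1 = β at hSform ⊢
  subst hSform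
  congr 1
  · ext i j
    fin_cases i <;> fin_cases j <;>
      simp [tauMat, x3_Z, Matrix.mul_apply, Fin.sum_univ_two, Matrix.one_apply] <;> ring
  · ext i j
    fin_cases i <;> fin_cases j <;>
      simp [tauMat, x3_Z, Matrix.mul_apply, Fin.sum_univ_two, Matrix.one_apply] <;> ring
  · ext i j
    fin_cases i <;> fin_cases j <;>
      simp [x3_tauInvT, Matrix.mul_apply, Fin.sum_univ_two, Matrix.one_apply] <;> ring
  · ext i j
    fin_cases i <;> fin_cases j <;>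
      simp [x3_tauInvT, Matrix.mul_apply, Fin.sum_univ_two, Matrix.one_apply] <;> ring

/-- `g_S x(S₂) = x(τ S₂ τᵀ) g_S` -/
theorem x3_conj2 (τ Z τ' S₂ : Matrix (Fin 2) (Fin 2) F) (h : τᵀ * τ' = 1) :
    Matrix.fromBlocks τ Z 0 τ' * xMat 0 S₂ = xMat 0 (τ * S₂ * τᵀ) * Matrix.fromBlocks τ Z 0 τ' := by
  unfold xMat
  rw [Matrix.fromBlocks_multiply, Matrix.fromBlocks_multiply]
  congr 1
  · simp
  · simp only [Matrix.mul_one, Matrix.one_mul]
    rw [Matrix.mul_assoc (τ * S₂), h, Matrix.mul_one]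
    exact add_comm _ _
  · simp
  · simp

/-- KEYSTONE 228109  K-RSp-X3. -/
theorem XG_conj_tau {F : Type*} [Field F] {G : Subgroup (SpG 0 F)} (t σ : F) (ht : t ≠ 0)
    (hc : InG G (cMat 0 t σ)) :
    ∀ S ∈ XG G, S 1 1 = 0 → ∀ S₂ ∈ XG G,
      tauMat t σ (S 0 1) * S₂ * (tauMat t σ (S 0 1))ᵀ ∈ XG G := by
  rintro S ⟨hS, hSG⟩ h11 S₂ ⟨hS₂, hS₂G⟩
  have hP : InG G (Matrix.fromBlocks (tauMat t σ (S 0 1)) (x3_Z t (S 0 0) (S 0 1)) 0
      (x3_tauInvT t σ (S 0 1))) :=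
    inG_of_conj hc hSG (x3_conj t σ ht S hS h11)
  refine ⟨?_, inG_of_conj hP hS₂G (x3_conj2 _ _ _ S₂ (x3_tauT_mul t σ (S 0 1)))⟩
  rw [Matrix.transpose_mul, Matrix.transpose_mul, Matrix.transpose_transpose, hS₂, Matrix.mul_assoc]

end Cfsg.Agent.Lib.Helper64.RSp
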