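import Mathlib

/-!
Schur's theorem on primitive groups containing a regular cyclic subgroup whose order is not a
prime power, proved without Schur rings: counting `p`-tuples in the group algebra `(ZMod p)[C]`.
-/

namespace Cfsg.Agent.Lib.Helper64

open MulAction

section Basics

variable {G Ω : Type*} [Group G] [MulAction G Ω]

/-- `C` acts regularly on `Ω` (with base point `ω₀`) and is abelian -/
structure RegAb (C : Subgroup G) (ω₀ : Ω) : Prop where
  trans : ∀ ω : Ω, ∃ x : C, (x : G) • ω₀ = ω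
  free : ∀ x : C, (x : G) • ω₀ = ω₀ → x = 1
  comm : ∀ x y : C, x * y = y * x

variable {C : Subgroup G} {ω₀ : Ω}

theorem RegAb.inj (h : RegAb C ω₀) {x y : C} (hxy : (x : G) • ω₀ = (y : G) • ω₀) : x = y := by
  have : ((y⁻¹ * x : C) : G) • ω₀ = ω₀ := by
    rw [Subgroup.coe_mul, mul_smul, hxy, smul_smul, Subgroup.coe_inv, inv_mul_cancel, one_smul]
  have := h.free _ this
  exact (eq_of_inv_mul_eq_one this).symm ▸ rfl

/-- a subset of `C` whose image in `Ω` is invariant under the stabiliser of `ω₀` -/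
def KInv (C : Subgroup G) (ω₀ : Ω) (S : Set C) : Prop :=
  ∀ k : G, k • ω₀ = ω₀ → ∀ x ∈ S, ∃ x' ∈ S, k • ((x : G) • ω₀) = (x' : G) • ω₀

theorem rel_inv (h : RegAb C ω₀) {S : Set C} (hS : KInv C ω₀ S) (g : G) {w x w' x' : C}
    (hw : g • ((w : G) • ω₀) = (w' : G) • ω₀) (hx : g • ((x : G) • ω₀) = (x' : G) • ω₀)
    (hmem : w⁻¹ * x ∈ S) : w'⁻¹ * x' ∈ S := by
  have hk : ((w' : G)⁻¹ * g * w) • ω₀ = ω₀ := by
    rw [mul_smul, mul_smul, hw, smul_smul, inv_mul_cancel, one_smul]
  obtain ⟨t', ht', he⟩ := hS _ hk _ hmem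
  have : ((w'⁻¹ * x' : C) : G) • ω₀ = (t' : G) • ω₀ := by
    rw [← he]
    simp only [Subgroup.coe_mul, Subgroup.coe_inv, mul_smul]
    rw [smul_smul (w : G) (w : G)⁻¹, mul_inv_cancel, one_smul, hx]
  rw [h.inj this]
  exact ht'

theorem rel_inv_iff (h : RegAb C ω₀) {S : Set C} (hS : KInv C ω₀ S) (g : G) {w x w' x' : C}
    (hw : g • ((w : G) • ω₀) = (w' : G) • ω₀) (hx : g • ((x : G) • ω₀) = (x' : G) • ω₀) :
    w⁻¹ * x ∈ S ↔ w'⁻¹ * x' ∈ S := by
  refine ⟨rel_inv h hS g hw hx, rel_inv h hS g⁻¹ ?_ ?_⟩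
  · rw [← hw, smul_smul, inv_mul_cancel, one_smul]
  · rw [← hx, smul_smul, inv_mul_cancel, one_smul]

/-- The block lemma: in a primitive group, an invariant subset generating a proper subgroup of
`C` is contained in `{1}`. -/
theorem kinv_subset_one (h : RegAb C ω₀) (hprim : IsPreprimitive G Ω) {S : Set C}
    (hS : KInv C ω₀ S) (hne : Subgroup.closure S ≠ ⊤) : ∀ x ∈ S, x = 1 := by
  set E : Subgroup C := Subgroup.closure S with hE
  -- the stabiliser preserves `E • ω₀`
  have key : ∀ e ∈ E, ∀ k : G, k • ω₀ = ω₀ → ∃ e' ∈ E, k • ((e : G) • ω₀) = (e' : G) • ω₀ := by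
    intro e he
    induction he using Subgroup.closure_induction_left with
    | one =>
      intro k hk
      exact ⟨1, E.one_mem, by simp [hk]⟩
    | mul_left u hu y hy ih =>
      intro k hk
      obtain ⟨y', hy', hyy⟩ := ih k hk
      obtain ⟨z, hz⟩ := h.trans (k • (((u * y : C) : G) • ω₀))
      have hmem : y⁻¹ * (u * y) ∈ S := by
        have : y⁻¹ * (u * y) = u := by
          rw [h.comm u y, inv_mul_cancel_left]
        rw [this]; exact hu
      have := rel_inv h hS k hyy hz.symm hmem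
      refine ⟨z, ?_, hz.symm⟩
      have hz' : z = y' * (y'⁻¹ * z) := by group
      rw [hz']
      exact E.mul_mem hy' (Subgroup.subset_closure this)
    | inv_mul_cancel u hu y hy ih =>
      intro k hk
      obtain ⟨y', hy', hyy⟩ := ih k hk
      obtain ⟨z, hz⟩ := h.trans (k • (((u⁻¹ * y : C) : G) • ω₀))
      have hmem : (u⁻¹ * y)⁻¹ * y ∈ S := by
        have : (u⁻¹ * y)⁻¹ * y = u := by
          rw [mul_inv_rev, inv_inv, mul_assoc, h.comm u y, inv_mul_cancel_left]
        rw [this]; exact hu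
      have := rel_inv h hS k hz.symm hyy hmem
      refine ⟨z, ?_, hz.symm⟩
      have hz' : z = y' * (z⁻¹ * y')⁻¹ := by group
      rw [hz']
      exact E.mul_mem hy' (E.inv_mem (Subgroup.subset_closure this))
  -- the block
  set B : Set Ω := {ω | ∃ e ∈ E, (e : G) • ω₀ = ω} with hB
  have hsub : ∀ g : G, (∃ e₁ ∈ E, ∃ e₂ ∈ E, g • ((e₁ : G) • ω₀) = (e₂ : G) • ω₀) →
      ∀ ω ∈ B, g • ω ∈ B := by
    rintro g ⟨e₁, he₁, e₂, he₂, hg⟩ ω ⟨e, he, rfl⟩
    -- k = e₂⁻¹ g e₁ fixes ω₀
    have hk : ((e₂ : G)⁻¹ * g * e₁) • ω₀ = ω₀ := by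
      rw [mul_smul, mul_smul, hg, smul_smul, inv_mul_cancel, one_smul]
    obtain ⟨e', he', hee⟩ := key (e₁⁻¹ * e) (E.mul_mem (E.inv_mem he₁) he) _ hk
    refine ⟨e₂ * e', E.mul_mem he₂ he', ?_⟩
    rw [Subgroup.coe_mul, mul_smul, ← hee]
    simp only [Subgroup.coe_mul, Subgroup.coe_inv, mul_smul]
    rw [smul_smul (e₁ : G) (e₁ : G)⁻¹, mul_inv_cancel, one_smul, smul_smul (e₂ : G) (e₂ : G)⁻¹,
      mul_inv_cancel, one_smul]
  have hblock : IsBlock G B := by
    rw [isBlock_iff_smul_eq_of_nonempty]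
    rintro g ⟨ω, ⟨ω', hω'B, hω'⟩, hωB⟩
    -- ω = g • ω' with ω, ω' ∈ B
    obtain ⟨e₁, he₁, rfl⟩ := hω'B
    obtain ⟨e₂, he₂, he₂'⟩ := hωB
    have hg : g • ((e₁ : G) • ω₀) = (e₂ : G) • ω₀ := by
      rw [he₂']; exact hω'
    apply Set.Subset.antisymm
    · rintro _ ⟨ω, hω, rfl⟩
      exact hsub g ⟨e₁, he₁, e₂, he₂, hg⟩ ω hω
    · intro ω hω
      refine ⟨g⁻¹ • ω, ?_, by simp⟩
      apply hsub g⁻¹ ⟨e₂, he₂, e₁, he₁, ?_⟩ ω hω
      rw [← hg, smul_smul, inv_mul_cancel, one_smul]
  rcases hprim.isTrivialBlock_of_isBlock hblock with hsub1 | huniv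
  · intro x hx
    have h1 : (x : G) • ω₀ ∈ B := ⟨x, Subgroup.subset_closure hx, rfl⟩
    have h2 : ω₀ ∈ B := ⟨1, E.one_mem, by simp⟩
    have := hsub1 h1 h2
    exact h.free x this
  · exfalso
    apply hne
    rw [eq_top_iff]
    intro c _
    have : (c : G) • ω₀ ∈ B := by rw [huniv]; trivial
    obtain ⟨e, he, hec⟩ := this
    rw [← h.inj hec]
    exact he

end Basics


section Algebra

open MonoidAlgebra in
/-- coefficients of the powers of `∑_{t ∈ S} t` in the group algebra over `ZMod p`, packaged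
without mentioning the algebra -/
theorem exists_coef {A : Type*} [Group A] [DecidableEq A] (hcomm : ∀ x y : A, x * y = y * x)
    (p : ℕ) [Fact p.Prime] (S : Finset A) :
    ∃ F : ℕ → A → ZMod p, (∀ y, F 0 y = if y = 1 then 1 else 0) ∧
      (∀ m y, F (m + 1) y = ∑ t ∈ S, F m (y * t⁻¹)) ∧
      (∀ y, F p y = ((S.filter (fun t => t ^ p = y)).card : ZMod p)) := by
  let _ : CommGroup A := { ‹Group A› with mul_comm := hcomm }
  have hchar : CharP (MonoidAlgebra (ZMod p) A) p :=
    charP_of_injective_ringHom (f := (singleOneRingHom : ZMod p →+* MonoidAlgebra (ZMod p) A))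
      (fun x y h => single_right_injective h) p
  set a : MonoidAlgebra (ZMod p) A := ∑ t ∈ S, single t 1 with ha
  refine ⟨fun m y => (a ^ m).coeff y, ?_, ?_, ?_⟩
  · intro y
    simp only [pow_zero, one_def, coeff_single, Finsupp.single_apply]
    by_cases h : y = 1
    · simp [h]
    · simp [h, Ne.symm h]
  · intro m y
    simp only
    rw [pow_succ, ha, Finset.mul_sum, coeff_sum, Finsupp.finsetSum_apply]
    apply Finset.sum_congr rfl
    intro t _
    rw [coeff_mul_single_apply, mul_one]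
  · intro y
    simp only
    rw [ha, sum_pow_char, coeff_sum, Finsupp.finsetSum_apply]
    simp only [single_pow, one_pow, coeff_single, Finsupp.single_apply]
    rw [Finset.sum_boole]

end Algebra

section Count

variable {G Ω : Type*} [Group G] [MulAction G Ω] {C : Subgroup G} {ω₀ : Ω}

/-- the inverse of `x ↦ x • ω₀` -/
noncomputable def RegAb.eps (h : RegAb C ω₀) (ω : Ω) : C := (h.trans ω).choose

theorem RegAb.eps_spec (h : RegAb C ω₀) (ω : Ω) : ((h.eps ω : C) : G) • ω₀ = ω :=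
  (h.trans ω).choose_spec

theorem RegAb.eps_smul (h : RegAb C ω₀) (x : C) : h.eps ((x : G) • ω₀) = x :=
  h.inj (h.eps_spec _)

/-- the permutation of `C` induced by `k` -/
noncomputable def RegAb.sigma (h : RegAb C ω₀) (k : G) : C ≃ C where
  toFun z := h.eps (k • ((z : G) • ω₀))
  invFun z := h.eps (k⁻¹ • ((z : G) • ω₀))
  left_inv z := by
    simp only [h.eps_spec]
    rw [smul_smul, inv_mul_cancel, one_smul, h.eps_smul]
  right_inv z := by
    simp only [h.eps_spec]
    rw [smul_smul, mul_inv_cancel, one_smul, h.eps_smul]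

theorem RegAb.sigma_spec (h : RegAb C ω₀) (k : G) (z : C) :
    k • ((z : G) • ω₀) = ((h.sigma k z : C) : G) • ω₀ := (h.eps_spec _).symm

theorem sum_reindex [Fintype C] [DecidableEq C] {M : Type*} [AddCommMonoid M] (S : Finset C)
    (f : C → M) (y : C) :
    ∑ t ∈ S, f (y * t⁻¹) = ∑ z : C, if z⁻¹ * y ∈ S then f z else 0 := by
  let e : C ≃ C := (Equiv.inv C).trans (Equiv.mulLeft y)
  have he : ∀ t, e t = y * t⁻¹ := fun t => rfl
  rw [← Equiv.sum_comp e]
  have : ∀ t : C, (if (e t)⁻¹ * y ∈ S then f (e t) else 0) = if t ∈ S then f (y * t⁻¹) else 0 := by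
    intro t
    have : (e t)⁻¹ * y = t := by rw [he]; group
    rw [this, he]
  simp_rw [this]
  rw [Finset.sum_ite_mem, Finset.univ_inter]

theorem coef_inv [Fintype C] [DecidableEq C] (h : RegAb C ω₀) {p : ℕ} (S : Finset C)
    (hS : KInv C ω₀ (S : Set C)) (F : ℕ → C → ZMod p)
    (h0 : ∀ y, F 0 y = if y = 1 then 1 else 0)
    (hrec : ∀ m y, F (m + 1) y = ∑ t ∈ S, F m (y * t⁻¹)) :
    ∀ m : ℕ, ∀ k : G, k • ω₀ = ω₀ → ∀ x x' : C, k • ((x : G) • ω₀) = (x' : G) • ω₀ →
      F m x' = F m x := by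
  intro m
  induction m with
  | zero =>
    intro k hk x x' hx
    rw [h0, h0]
    have : x' = 1 ↔ x = 1 := by
      constructor
      · rintro rfl
        apply h.free
        have : k⁻¹ • (k • ((x : G) • ω₀)) = k⁻¹ • ω₀ := by rw [hx]; simp
        rw [smul_smul, inv_mul_cancel, one_smul] at this
        rw [this, inv_smul_eq_iff, hk]
      · rintro rfl
        apply h.free
        rw [← hx]; simp [hk]
    simp only [this]
  | succ m ih =>
    intro k hk x x' hx
    rw [hrec, hrec, sum_reindex, sum_reindex, ← Equiv.sum_comp (h.sigma k)]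
    apply Finset.sum_congr rfl
    intro w _
    have hw := h.sigma_spec k w
    have hiff : w⁻¹ * x ∈ S ↔ (h.sigma k w)⁻¹ * x' ∈ S := by
      have := rel_inv_iff h hS k hw hx
      simpa only [Finset.mem_coe] using this
    rw [ih k hk w (h.sigma k w) hw]
    by_cases hm : w⁻¹ * x ∈ S
    · rw [if_pos hm, if_pos (hiff.mp hm)]
    · rw [if_neg hm, if_neg (fun h' => hm (hiff.mpr h'))]

theorem RegAb.sigma_one (h : RegAb C ω₀) {k : G} (hk : k • ω₀ = ω₀) : h.sigma k 1 = 1 := by
  apply h.inj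
  rw [← h.sigma_spec]
  simp [hk]

theorem RegAb.sigma_ne_one (h : RegAb C ω₀) {k : G} (hk : k • ω₀ = ω₀) {x : C} (hx : x ≠ 1) :
    h.sigma k x ≠ 1 := by
  intro h1
  apply hx
  apply (h.sigma k).injective
  rw [h1, h.sigma_one hk]

/-- the `p`-th power argument: an invariant set is a union of cosets of the elements of order
dividing `p`, away from those elements themselves -/
theorem star [Fintype C] [DecidableEq C] (h : RegAb C ω₀) (hprim : IsPreprimitive G Ω)
    (hcyc : IsCyclic C) {p : ℕ} (hp : p.Prime) (hpC : p ∣ Fintype.card C) (S : Finset C)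
    (hS : KInv C ω₀ (S : Set C)) :
    ∀ s ∈ S, s ^ p ≠ 1 → ∀ z : C, z ^ p = 1 → s * z ∈ S := by
  have : Fact p.Prime := ⟨hp⟩
  obtain ⟨F, h0, hrec, hF⟩ := exists_coef h.comm p S
  have hinv := coef_inv h S hS F h0 hrec p
  set U : Set C := {y | y ≠ 1 ∧ F p y ≠ 0} with hU
  have hUK : KInv C ω₀ U := by
    intro k hk x hx
    refine ⟨h.sigma k x, ⟨h.sigma_ne_one hk hx.1, ?_⟩, h.sigma_spec k x⟩
    rw [hinv k hk x _ (h.sigma_spec k x)]
    exact hx.2
  let Q : Subgroup C :=
    { carrier := {x | ∃ t : C, t ^ p = x}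
      one_mem' := ⟨1, one_pow _⟩
      mul_mem' := by
        rintro _ _ ⟨a, rfl⟩ ⟨b, rfl⟩
        exact ⟨a * b, (Commute.mul_pow (h.comm a b) p)⟩
      inv_mem' := by
        rintro _ ⟨a, rfl⟩
        exact ⟨a⁻¹, inv_pow a p⟩ }
  have hUQ : U ⊆ Q := by
    intro y hy
    have hy2 := hy.2
    rw [hF] at hy2
    have : (S.filter (fun t => t ^ p = y)).card ≠ 0 := by
      intro h0'
      apply hy2
      rw [h0']; simp
    obtain ⟨t, ht⟩ := Finset.card_pos.mp (Nat.pos_of_ne_zero this)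
    exact ⟨t, (Finset.mem_filter.mp ht).2⟩
  have hQne : Q ≠ ⊤ := by
    intro hQ
    obtain ⟨z, hz⟩ := exists_prime_orderOf_dvd_card p hpC
    have hsurj : Function.Surjective (fun t : C => t ^ p) := by
      intro x
      have : x ∈ Q := by rw [hQ]; trivial
      exact this
    have hinj := Finite.injective_iff_surjective.mpr hsurj
    have hz1 : z = 1 := by
      apply hinj
      simp only [one_pow]
      rw [← hz]; exact pow_orderOf_eq_one z
    rw [hz1, orderOf_one] at hz
    exact hp.one_lt.ne hz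
  have hcl : Subgroup.closure U ≠ ⊤ := by
    intro hcl
    apply hQne
    rw [eq_top_iff, ← hcl, Subgroup.closure_le]
    exact hUQ
  have hUempty := kinv_subset_one h hprim hUK hcl
  have hzero : ∀ y : C, y ≠ 1 → F p y = 0 := by
    intro y hy
    by_contra hne
    exact hy (hUempty y ⟨hy, hne⟩)
  intro s hs hsp z hz
  set T := S.filter (fun t => t ^ p = s ^ p) with hT
  set W := (Finset.univ : Finset C).filter (fun t => t ^ p = s ^ p) with hW
  have hTW : T ⊆ W := by
    intro t ht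
    rw [hT, Finset.mem_filter] at ht
    rw [hW, Finset.mem_filter]
    exact ⟨Finset.mem_univ _, ht.2⟩
  have hTdvd : p ∣ T.card := by
    have := hzero (s ^ p) hsp
    rw [hF] at this
    exact (ZMod.natCast_eq_zero_iff _ _).mp this
  have hTpos : 0 < T.card := Finset.card_pos.mpr ⟨s, by rw [hT, Finset.mem_filter]; exact ⟨hs, rfl⟩⟩
  have hTp : p ≤ T.card := Nat.le_of_dvd hTpos hTdvd
  have hWp : W.card ≤ p := by
    have h1 : (W.image (fun t => s⁻¹ * t)).card = W.card :=
      Finset.card_image_of_injective _ (mul_right_injective s⁻¹)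
    have h2 : W.image (fun t => s⁻¹ * t) ⊆
        (Finset.univ : Finset C).filter (fun a => a ^ p = 1) := by
      intro a ha
      obtain ⟨t, ht, rfl⟩ := Finset.mem_image.mp ha
      rw [hW, Finset.mem_filter] at ht
      rw [Finset.mem_filter]
      refine ⟨Finset.mem_univ _, ?_⟩
      rw [Commute.mul_pow (h.comm _ _), ht.2, inv_pow, inv_mul_cancel]
    calc W.card = (W.image (fun t => s⁻¹ * t)).card := h1.symm
      _ ≤ ((Finset.univ : Finset C).filter (fun a => a ^ p = 1)).card := Finset.card_le_card h2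
      _ ≤ p := IsCyclic.card_pow_eq_one_le hp.pos
  have hTW' : T = W := Finset.eq_of_subset_of_card_le hTW (hWp.trans hTp)
  have : s * z ∈ W := by
    rw [hW, Finset.mem_filter]
    refine ⟨Finset.mem_univ _, ?_⟩
    rw [Commute.mul_pow (h.comm _ _), hz, mul_one]
  rw [← hTW', hT, Finset.mem_filter] at this
  exact this.1

/-- an invariant nonempty set avoiding `1` contains an element of order `p` -/
theorem meets [Fintype C] [DecidableEq C] (h : RegAb C ω₀) (hprim : IsPreprimitive G Ω)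
    (hcyc : IsCyclic C) {p : ℕ} (hp : p.Prime) (hpC : p ∣ Fintype.card C) (S : Finset C)
    (hS : KInv C ω₀ (S : Set C)) (hne : S.Nonempty) (h1 : (1 : C) ∉ S) :
    ∃ x ∈ S, x ^ p = 1 := by
  have : Fact p.Prime := ⟨hp⟩
  by_contra hcon
  push Not at hcon
  have hstar := star h hprim hcyc hp hpC S hS
  let S' : Subgroup C :=
    { carrier := {x | ∀ w, w * x ∈ S ↔ w ∈ S}
      one_mem' := fun w => by rw [mul_one]
      mul_mem' := by
        intro a b ha hb w
        rw [← mul_assoc, hb (w * a), ha w]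
      inv_mem' := by
        intro a ha w
        rw [← ha (w * a⁻¹), inv_mul_cancel_right] }
  have hS'K : KInv C ω₀ (S' : Set C) := by
    intro k hk x hx
    refine ⟨h.sigma k x, ?_, h.sigma_spec k x⟩
    intro w'
    set w := (h.sigma k).symm w'⁻¹ with hw
    have hww : h.sigma k w = w'⁻¹ := by simp [hw]
    have e1 := rel_inv_iff h hS k (h.sigma_spec k w) (h.sigma_spec k x)
    have e2 := rel_inv_iff h hS k (h.sigma_spec k w) (h.sigma_spec k 1)
    rw [hww, inv_inv] at e1 e2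
    rw [h.sigma_one hk, mul_one] at e2
    simp only [Finset.mem_coe, mul_one] at e1 e2
    rw [← e1, ← e2]
    exact hx w⁻¹
  obtain ⟨z, hz⟩ := exists_prime_orderOf_dvd_card p hpC
  have hzp : z ^ p = 1 := by rw [← hz]; exact pow_orderOf_eq_one z
  have hzS' : z ∈ S' := by
    intro w
    constructor
    · intro hwz
      have := hstar (w * z) hwz (hcon _ hwz) z⁻¹ (by rw [inv_pow, hzp, inv_one])
      rwa [mul_inv_cancel_right] at this
    · intro hw
      exact hstar w hw (hcon _ hw) z hzp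
  have hcl : Subgroup.closure (S' : Set C) = ⊤ := by
    by_contra hcl
    have := kinv_subset_one h hprim hS'K hcl z hzS'
    rw [this, orderOf_one] at hz
    exact hp.one_lt.ne hz
  rw [Subgroup.closure_eq] at hcl
  obtain ⟨s, hs⟩ := hne
  have hsS' : s ∈ S' := by rw [hcl]; trivial
  have := (hsS' 1).mp (by rwa [one_mul])
  exact h1 this

end Count

section Final

variable {G Ω : Type*} [Group G] [MulAction G Ω] {C : Subgroup G} {ω₀ : Ω}

/-- Schur: a primitive group containing a regular cyclic subgroup whose order is divisible by two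
distinct primes is doubly transitive. -/
theorem schur_two_trans [Finite C] (h : RegAb C ω₀) (hprim : IsPreprimitive G Ω)
    (hcyc : IsCyclic C) {p q : ℕ} (hp : p.Prime) (hq : q.Prime) (hpq : p ≠ q)
    (hpC : p ∣ Nat.card C) (hqC : q ∣ Nat.card C) : IsMultiplyPretransitive G Ω 2 := by
  classical
  have := Fintype.ofFinite C
  rw [Nat.card_eq_fintype_card] at hpC hqC
  have htr : IsPretransitive G Ω := hprim.toIsPretransitive
  -- the pulled-back orbit of the stabiliser
  let SS : Ω → Finset C := fun α =>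
    Finset.univ.filter (fun x : C => ∃ k : G, k • ω₀ = ω₀ ∧ k • α = (x : G) • ω₀)
  have hSSK : ∀ α, KInv C ω₀ (SS α : Set C) := by
    intro α k hk x hx
    simp only [SS, Finset.coe_filter, Finset.mem_univ, true_and, Set.mem_ofPred_eq] at hx ⊢
    obtain ⟨k', hk', hkx⟩ := hx
    refine ⟨h.sigma k x, ⟨k * k', ?_, ?_⟩, h.sigma_spec k x⟩
    · rw [mul_smul, hk', hk]
    · rw [mul_smul, hkx, h.sigma_spec]
  have hSSne : ∀ α, (SS α).Nonempty := by
    intro α
    refine ⟨h.eps α, ?_⟩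
    simp only [SS, Finset.mem_filter, Finset.mem_univ, true_and]
    exact ⟨1, one_smul _ _, by rw [one_smul, h.eps_spec]⟩
  have hSS1 : ∀ α, α ≠ ω₀ → (1 : C) ∉ SS α := by
    intro α hα h1
    simp only [SS, Finset.mem_filter, Finset.mem_univ, true_and] at h1
    obtain ⟨k, hk, hkα⟩ := h1
    apply hα
    simp only [OneMemClass.coe_one, one_smul] at hkα
    rw [← hk] at hkα
    exact smul_left_cancel k hkα
  have hstab : ∀ α β : Ω, α ≠ ω₀ → β ≠ ω₀ → ∃ g : G, g • ω₀ = ω₀ ∧ g • α = β := by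
    intro α β hα hβ
    obtain ⟨x, hxS, hxq⟩ := meets h hprim hcyc hq hqC (SS α) (hSSK α) (hSSne α) (hSS1 α hα)
    obtain ⟨y, hyS, hyp⟩ := meets h hprim hcyc hp hpC (SS β) (hSSK β) (hSSne β) (hSS1 β hβ)
    have hx1 : x ≠ 1 := fun h1 => hSS1 α hα (h1 ▸ hxS)
    have hy1 : y ≠ 1 := fun h1 => hSS1 β hβ (h1 ▸ hyS)
    have hcop : Nat.Coprime p q := (Nat.coprime_primes hp hq).mpr hpq
    have hxp : x ^ p ≠ 1 := by
      intro hxp
      apply hx1
      have h1 := orderOf_dvd_of_pow_eq_one hxp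
      have h2 := orderOf_dvd_of_pow_eq_one hxq
      have := Nat.dvd_gcd h1 h2
      rw [hcop.gcd_eq_one, Nat.dvd_one] at this
      exact orderOf_eq_one_iff.mp this
    have hyq : y ^ q ≠ 1 := by
      intro hyq
      apply hy1
      have h1 := orderOf_dvd_of_pow_eq_one hyp
      have h2 := orderOf_dvd_of_pow_eq_one hyq
      have := Nat.dvd_gcd h1 h2
      rw [hcop.gcd_eq_one, Nat.dvd_one] at this
      exact orderOf_eq_one_iff.mp this
    have h1 := star h hprim hcyc hp hpC (SS α) (hSSK α) x hxS hxp y hyp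
    have h2 := star h hprim hcyc hq hqC (SS β) (hSSK β) y hyS hyq x hxq
    rw [h.comm y x] at h2
    simp only [SS, Finset.mem_filter, Finset.mem_univ, true_and] at h1 h2
    obtain ⟨k₁, hk₁, hk₁α⟩ := h1
    obtain ⟨k₂, hk₂, hk₂β⟩ := h2
    refine ⟨k₂⁻¹ * k₁, ?_, ?_⟩
    · rw [mul_smul, hk₁, inv_smul_eq_iff, hk₂]
    · rw [mul_smul, hk₁α, ← hk₂β, smul_smul, inv_mul_cancel, one_smul]
  rw [is_two_pretransitive_iff]
  intro a b c d hab hcd
  obtain ⟨k₁, hk₁⟩ := htr.exists_smul_eq a ω₀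
  obtain ⟨k₂, hk₂⟩ := htr.exists_smul_eq c ω₀
  have hb : k₁ • b ≠ ω₀ := by
    intro hb
    rw [← hk₁] at hb
    exact hab (smul_left_cancel k₁ hb).symm
  have hd : k₂ • d ≠ ω₀ := by
    intro hd
    rw [← hk₂] at hd
    exact hcd (smul_left_cancel k₂ hd).symm
  obtain ⟨g, hg, hgb⟩ := hstab _ _ hb hd
  refine ⟨k₂⁻¹ * g * k₁, ?_, ?_⟩
  · rw [mul_smul, mul_smul, hk₁, hg, inv_smul_eq_iff, hk₂]
  · rw [mul_smul, mul_smul, hgb, smul_smul, inv_mul_cancel, one_smul]

end Final

end Cfsg.Agent.Lib.Helper64
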