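import Mathlib
import Cfsg.Agent.Lib.Helper64.SchurCyc

/-!
Burnside–Schur: a primitive group containing a regular cyclic subgroup of composite order is doubly
transitive (including the prime power case), still without Schur rings.
-/

namespace Cfsg.Agent.Lib.Helper64

open MulAction

/-- a finite set invariant under right multiplication by an element of prime order `p` has
cardinality divisible by `p` -/
theorem card_dvd_of_mul_invariant {A : Type*} [Group A] [DecidableEq A] {p : ℕ} (hp : p.Prime)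
    (D : Finset A) (z : A) (hz : orderOf z = p) (hD : ∀ t ∈ D, t * z ∈ D) : p ∣ D.card := by
  have : Fact p.Prime := ⟨hp⟩
  have hpow : ∀ j : ℕ, ∀ t ∈ D, t * z ^ j ∈ D := by
    intro j
    induction j with
    | zero => intro t ht; simpa using ht
    | succ j ih =>
      intro t ht
      rw [pow_succ, ← mul_assoc]
      exact hD _ (ih t ht)
  have hzp : z ^ p = 1 := by rw [← hz]; exact pow_orderOf_eq_one z
  have hiff : ∀ t, (Equiv.mulRight z) t ∈ D ↔ t ∈ D := by
    intro t
    constructor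
    · intro h
      have h1 := hpow (p - 1) _ h
      rwa [Equiv.coe_mulRight, mul_assoc, ← pow_succ', Nat.sub_add_cancel hp.pos, hzp,
        mul_one] at h1
    · exact hD t
  by_contra hnd
  rw [← Fintype.card_coe] at hnd
  have hσ : ((Equiv.mulRight z).subtypePerm hiff) ^ p ^ 1 = 1 := by
    rw [pow_one, Equiv.Perm.subtypePerm_pow]
    ext ⟨t, ht⟩
    simp only [Equiv.Perm.subtypePerm_apply, Equiv.Perm.coe_one, id_eq]
    have : (Equiv.mulRight z ^ p) t = t * z ^ p := by
      have hgen : ∀ j : ℕ, (Equiv.mulRight z ^ j) t = t * z ^ j := by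
        intro j
        induction j with
        | zero => simp
        | succ j ih =>
          rw [pow_succ', Equiv.Perm.mul_apply, ih, Equiv.coe_mulRight, pow_succ]
          exact mul_assoc _ _ _
      exact hgen p
    rw [this, hzp, mul_one]
  obtain ⟨⟨a, ha⟩, hfix⟩ := Equiv.Perm.exists_fixed_point_of_prime (n := 1) hnd hσ
  have h1 : a * z = a := by
    have := congrArg Subtype.val hfix
    simpa using this
  have h2 : z = 1 := by
    have := mul_left_cancel (a := a) (b := z) (c := 1) (by rw [h1, mul_one])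
    exact this
  rw [h2, orderOf_one] at hz
  exact hp.one_lt.ne hz

/-- in a finite cyclic group, the solutions of `a ^ p = 1` are the powers of any element of
order `p` -/
theorem pow_image_eq_torsion {A : Type*} [Group A] [Fintype A] [DecidableEq A] [IsCyclic A]
    {p : ℕ} (hp : p.Prime) (z : A) (hz : orderOf z = p) :
    (Finset.range p).image (fun j => z ^ j) =
      (Finset.univ : Finset A).filter (fun a => a ^ p = 1) := by
  have hzp : z ^ p = 1 := by rw [← hz]; exact pow_orderOf_eq_one z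
  apply Finset.eq_of_subset_of_card_le
  · intro x hx
    obtain ⟨j, -, rfl⟩ := Finset.mem_image.mp hx
    rw [Finset.mem_filter]
    refine ⟨Finset.mem_univ _, ?_⟩
    rw [← pow_mul, mul_comm, pow_mul, hzp, one_pow]
  · rw [Finset.card_image_of_injOn, Finset.card_range]
    · exact IsCyclic.card_pow_eq_one_le hp.pos
    · intro i hi j hj hij
      rw [Finset.coe_range, Set.mem_Iio] at hi hj
      rw [← hz] at hi hj
      exact pow_injOn_Iio_orderOf hi hj hij

/-- in a finite cyclic group, an element of order `p` is a power of every element of order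
`p ^ (e + 1)` -/
theorem exists_pow_eq_of_order_p {A : Type*} [Group A] [Fintype A] [DecidableEq A] [IsCyclic A]
    {p : ℕ} (hp : p.Prime) (z x : A) (hz : orderOf z = p) {e : ℕ}
    (hx : orderOf x = p ^ (e + 1)) : ∃ i : ℕ, z = x ^ i := by
  have hy : orderOf (x ^ (p ^ e)) = p := by
    rw [orderOf_pow_of_dvd (pow_pos hp.pos e).ne' (by rw [hx]; exact pow_dvd_pow p (Nat.le_succ e)),
      hx, pow_succ, Nat.mul_div_cancel_left _ (pow_pos hp.pos e)]
  have hzp : z ^ p = 1 := by rw [← hz]; exact pow_orderOf_eq_one z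
  have hmem : z ∈ (Finset.univ : Finset A).filter (fun a => a ^ p = 1) := by
    rw [Finset.mem_filter]
    exact ⟨Finset.mem_univ _, hzp⟩
  rw [← pow_image_eq_torsion hp _ hy] at hmem
  obtain ⟨j, -, hj⟩ := Finset.mem_image.mp hmem
  exact ⟨p ^ e * j, by rw [pow_mul]; exact hj.symm⟩

section PP

variable {G Ω : Type*} [Group G] [MulAction G Ω] {C : Subgroup G} {ω₀ : Ω}

theorem kinv_sigma_mem (h : RegAb C ω₀) {S : Set C} (hS : KInv C ω₀ S) {k : G}
    (hk : k • ω₀ = ω₀) {t : C} (ht : t ∈ S) : h.sigma k t ∈ S := by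
  obtain ⟨x', hx', he⟩ := hS k hk t ht
  have : h.sigma k t = x' := h.inj (by rw [← h.sigma_spec, he])
  rw [this]
  exact hx'

theorem card_fact_le [Fintype C] [DecidableEq C] (h : RegAb C ω₀) (S : Finset C)
    (hS : KInv C ω₀ (S : Set C)) {k : G} (hk : k • ω₀ = ω₀) (y : C) :
    (S.filter (fun t => t⁻¹ * y ∈ S)).card ≤
      (S.filter (fun t => t⁻¹ * (h.sigma k y) ∈ S)).card := by
  apply Finset.card_le_card_of_injOn (fun t => h.sigma k t)
  · intro t ht
    rw [Finset.mem_coe, Finset.mem_filter] at ht ⊢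
    refine ⟨?_, ?_⟩
    · have := kinv_sigma_mem h hS hk (Finset.mem_coe.mpr ht.1)
      exact Finset.mem_coe.mp this
    · have := (rel_inv_iff h hS k (h.sigma_spec k t) (h.sigma_spec k y)).mp
        (Finset.mem_coe.mpr ht.2)
      exact Finset.mem_coe.mp this
  · intro a _ b _ hab
    exact (h.sigma k).injective hab

theorem card_fact_eq [Fintype C] [DecidableEq C] (h : RegAb C ω₀) (S : Finset C)
    (hS : KInv C ω₀ (S : Set C)) {k : G} (hk : k • ω₀ = ω₀) (y : C) :
    (S.filter (fun t => t⁻¹ * y ∈ S)).card =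
      (S.filter (fun t => t⁻¹ * (h.sigma k y) ∈ S)).card := by
  apply le_antisymm (card_fact_le h S hS hk y)
  have hk' : k⁻¹ • ω₀ = ω₀ := by rw [inv_smul_eq_iff, hk]
  have h1 := card_fact_le h S hS hk' (h.sigma k y)
  have e : h.sigma k⁻¹ (h.sigma k y) = y := (h.sigma k).symm_apply_apply y
  rwa [e] at h1

/-- Burnside–Schur: a primitive group containing a regular cyclic subgroup of composite order is
doubly transitive. -/
theorem schur_composite [Finite C] (h : RegAb C ω₀) (hprim : IsPreprimitive G Ω)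
    (hcyc : IsCyclic C) {p : ℕ} (hp : p.Prime) (hpC : p ∣ Nat.card C) (hnp : Nat.card C ≠ p) :
    IsMultiplyPretransitive G Ω 2 := by
  classical
  have := Fintype.ofFinite C
  have hFp : Fact p.Prime := ⟨hp⟩
  rw [Nat.card_eq_fintype_card] at hpC hnp
  have htr : IsPretransitive G Ω := hprim.toIsPretransitive
  -- orbits of the stabiliser, pulled back to `C`
  let SS : Ω → Finset C := fun α =>
    Finset.univ.filter (fun x : C => ∃ k : G, k • ω₀ = ω₀ ∧ k • α = (x : G) • ω₀)
  have hSSmem : ∀ α (x : C), x ∈ SS α ↔ ∃ k : G, k • ω₀ = ω₀ ∧ k • α = (x : G) • ω₀ := by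
    intro α x
    simp only [SS, Finset.mem_filter, Finset.mem_univ, true_and]
  have hSSK : ∀ α, KInv C ω₀ (SS α : Set C) := by
    intro α k hk x hx
    rw [Finset.mem_coe, hSSmem] at hx
    obtain ⟨k', hk', hkx⟩ := hx
    refine ⟨h.sigma k x, ?_, h.sigma_spec k x⟩
    rw [Finset.mem_coe, hSSmem]
    refine ⟨k * k', ?_, ?_⟩
    · rw [mul_smul, hk', hk]
    · rw [mul_smul, hkx, h.sigma_spec]
  have hSSself : ∀ x : C, x ∈ SS ((x : G) • ω₀) := by
    intro x
    rw [hSSmem]
    exact ⟨1, one_smul _ _, one_smul _ _⟩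
  have hSSne : ∀ α, (SS α).Nonempty := by
    intro α
    refine ⟨h.eps α, ?_⟩
    rw [hSSmem]
    exact ⟨1, one_smul _ _, by rw [one_smul, h.eps_spec]⟩
  have hSS1 : ∀ α, α ≠ ω₀ → (1 : C) ∉ SS α := by
    intro α hα h1
    rw [hSSmem] at h1
    obtain ⟨k, hk, hkα⟩ := h1
    apply hα
    simp only [OneMemClass.coe_one, one_smul] at hkα
    rw [← hk] at hkα
    exact smul_left_cancel k hkα
  have hSScommon : ∀ α β (y : C), y ∈ SS α → y ∈ SS β → ∃ k : G, k • ω₀ = ω₀ ∧ k • α = β := by
    intro α β y hyα hyβ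
    rw [hSSmem] at hyα hyβ
    obtain ⟨k₁, hk₁, hk₁α⟩ := hyα
    obtain ⟨k₂, hk₂, hk₂β⟩ := hyβ
    refine ⟨k₂⁻¹ * k₁, ?_, ?_⟩
    · rw [mul_smul, hk₁, inv_smul_eq_iff, hk₂]
    · rw [mul_smul, hk₁α, ← hk₂β, smul_smul, inv_mul_cancel, one_smul]
  have hmove : ∀ x : C, x ≠ 1 → (x : G) • ω₀ ≠ ω₀ := fun x hx hfix => hx (h.free x hfix)
  -- an element of order `p`
  obtain ⟨z₀, hz₀⟩ := exists_prime_orderOf_dvd_card p hpC
  have hz₀p : z₀ ^ p = 1 := by rw [← hz₀]; exact pow_orderOf_eq_one z₀
  have hz₀1 : z₀ ≠ 1 := by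
    intro h1
    rw [h1, orderOf_one] at hz₀
    exact hp.one_lt.ne hz₀
  have hz₀inv : z₀⁻¹ ^ p = 1 := by rw [inv_pow, hz₀p, inv_one]
  set T := SS ((z₀ : G) • ω₀) with hTdef
  have hTK : KInv C ω₀ (T : Set C) := hSSK _
  have hT1 : (1 : C) ∉ T := hSS1 _ (hmove z₀ hz₀1)
  have hz₀T : z₀ ∈ T := hSSself z₀
  have hstarT := star h hprim hcyc hp hpC T hTK
  have hcardP : ((Finset.univ : Finset C).filter (fun a => a ^ p = 1)).card ≤ p :=
    IsCyclic.card_pow_eq_one_le hp.pos
  -- Step A
  have stepA : ∀ a ∈ T, a ^ p = 1 → ∀ b ∈ T, b ^ p = 1 → a * b = 1 ∨ a * b ∈ T := by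
    intro a ha hap b hb hbp
    by_contra hcon
    push Not at hcon
    obtain ⟨hw1, hwT⟩ := hcon
    set w := a * b with hwdef
    have hwp : w ^ p = 1 := by
      rw [hwdef, Commute.mul_pow (h.comm a b), hap, hbp, one_mul]
    set T' := SS ((w : G) • ω₀) with hT'def
    have hT'K : KInv C ω₀ (T' : Set C) := hSSK _
    have hwT' : w ∈ T' := hSSself w
    have hdisj : ∀ y ∈ T', y ∉ T := by
      intro y hyT' hyT
      obtain ⟨k, hk, hkz⟩ := hSScommon _ _ y hyT hyT'
      apply hwT
      rw [hTdef, hSSmem]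
      exact ⟨k, hk, hkz⟩
    -- an element of `T'` outside the `p`-torsion
    obtain ⟨y, hyT', hyp⟩ : ∃ y ∈ T', y ^ p ≠ 1 := by
      by_contra hall
      push Not at hall
      let Q : Subgroup C :=
        { carrier := {x | x ^ p = 1}
          one_mem' := one_pow _
          mul_mem' := by
            intro x y hx hy
            show (x * y) ^ p = 1
            rw [Commute.mul_pow (h.comm x y), hx, hy, one_mul]
          inv_mem' := by
            intro x hx
            show x⁻¹ ^ p = 1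
            rw [inv_pow, hx, inv_one] }
      have hcl : Subgroup.closure (T' : Set C) ≠ ⊤ := by
        intro htop
        have hle : Subgroup.closure (T' : Set C) ≤ Q := by
          rw [Subgroup.closure_le]
          intro x hx
          exact hall x (Finset.mem_coe.mp hx)
        rw [htop] at hle
        have hall' : ∀ x : C, x ^ p = 1 := fun x => hle (Subgroup.mem_top x)
        have : (Finset.univ : Finset C).filter (fun a => a ^ p = 1) = Finset.univ := by
          ext x
          simp [hall' x]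
        rw [this, Finset.card_univ] at hcardP
        exact hnp (le_antisymm hcardP (Nat.le_of_dvd Fintype.card_pos hpC))
      exact hw1 (kinv_subset_one h hprim hT'K hcl w (Finset.mem_coe.mpr hwT'))
    have hyT : y ∉ T := hdisj y hyT'
    -- `w` and `y` lie in the same orbit
    obtain ⟨k, hk, hky⟩ : ∃ k : G, k • ω₀ = ω₀ ∧ h.sigma k y = w := by
      rw [hT'def, hSSmem] at hyT'
      obtain ⟨k, hk, hkw⟩ := hyT'
      refine ⟨k⁻¹, by rw [inv_smul_eq_iff, hk], ?_⟩
      apply h.inj
      rw [← h.sigma_spec, ← hkw, smul_smul, inv_mul_cancel, one_smul]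
    have hcardeq := card_fact_eq h T hTK hk y
    rw [hky] at hcardeq
    -- the count at `y`
    have hDy : p ∣ (T.filter (fun t => t⁻¹ * y ∈ T)).card := by
      apply card_dvd_of_mul_invariant hp _ z₀ hz₀
      intro t ht
      rw [Finset.mem_filter] at ht ⊢
      obtain ⟨htT, hty⟩ := ht
      have htp : t ^ p ≠ 1 := by
        intro htp
        have h1 : (t⁻¹ * y) ^ p ≠ 1 := by
          rw [Commute.mul_pow (h.comm _ _), inv_pow, htp, inv_one, one_mul]
          exact hyp
        have h2 := hstarT _ hty h1 t htp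
        rw [h.comm t⁻¹ y, inv_mul_cancel_right] at h2
        exact hyT h2
      have htyp : (t⁻¹ * y) ^ p ≠ 1 := by
        intro hc
        have h2 := hstarT t htT htp _ hc
        rw [mul_inv_cancel_left] at h2
        exact hyT h2
      refine ⟨hstarT t htT htp z₀ hz₀p, ?_⟩
      have h3 := hstarT _ hty htyp z₀⁻¹ hz₀inv
      have e : (t * z₀)⁻¹ * y = t⁻¹ * y * z₀⁻¹ := by
        rw [mul_inv_rev, h.comm z₀⁻¹ t⁻¹, mul_assoc, h.comm z₀⁻¹ y, ← mul_assoc]
      rw [e]
      exact h3
    -- the count at `w`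
    have hsplit := Finset.card_filter_add_card_filter_not
      (s := T.filter (fun t => t⁻¹ * w ∈ T)) (fun t => t ^ p = 1)
    have hDout : p ∣ ((T.filter (fun t => t⁻¹ * w ∈ T)).filter (fun t => ¬ t ^ p = 1)).card := by
      apply card_dvd_of_mul_invariant hp _ z₀ hz₀
      intro t ht
      rw [Finset.mem_filter, Finset.mem_filter] at ht ⊢
      obtain ⟨⟨htT, htw⟩, htp⟩ := ht
      have htwp : (t⁻¹ * w) ^ p ≠ 1 := by
        rw [Commute.mul_pow (h.comm _ _), hwp, mul_one, inv_pow]
        intro hc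
        exact htp (inv_eq_one.mp hc)
      refine ⟨⟨hstarT t htT htp z₀ hz₀p, ?_⟩, ?_⟩
      · have h3 := hstarT _ htw htwp z₀⁻¹ hz₀inv
        have e : (t * z₀)⁻¹ * w = t⁻¹ * w * z₀⁻¹ := by
          rw [mul_inv_rev, h.comm z₀⁻¹ t⁻¹, mul_assoc, h.comm z₀⁻¹ w, ← mul_assoc]
        rw [e]
        exact h3
      · rw [Commute.mul_pow (h.comm _ _), hz₀p, mul_one]
        exact htp
    have hDin : p ∣ ((T.filter (fun t => t⁻¹ * w ∈ T)).filter (fun t => t ^ p = 1)).card := by
      have h1 : p ∣ (T.filter (fun t => t⁻¹ * w ∈ T)).card := hcardeq ▸ hDy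
      rw [← hsplit] at h1
      exact (Nat.dvd_add_left hDout).mp h1
    have hain : a ∈ (T.filter (fun t => t⁻¹ * w ∈ T)).filter (fun t => t ^ p = 1) := by
      rw [Finset.mem_filter, Finset.mem_filter]
      refine ⟨⟨ha, ?_⟩, hap⟩
      rw [hwdef, inv_mul_cancel_left]
      exact hb
    have hpos : 0 < ((T.filter (fun t => t⁻¹ * w ∈ T)).filter (fun t => t ^ p = 1)).card :=
      Finset.card_pos.mpr ⟨a, hain⟩
    have hge : p ≤ ((T.filter (fun t => t⁻¹ * w ∈ T)).filter (fun t => t ^ p = 1)).card :=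
      Nat.le_of_dvd hpos hDin
    have hsub : (T.filter (fun t => t⁻¹ * w ∈ T)).filter (fun t => t ^ p = 1) ⊆
        ((Finset.univ : Finset C).filter (fun a => a ^ p = 1)).erase 1 := by
      intro t ht
      rw [Finset.mem_filter, Finset.mem_filter] at ht
      rw [Finset.mem_erase, Finset.mem_filter]
      refine ⟨?_, Finset.mem_univ _, ht.2⟩
      rintro rfl
      exact hT1 ht.1.1
    have hle := Finset.card_le_card hsub
    rw [Finset.card_erase_of_mem (by simp)] at hle
    have hp1 := hp.one_lt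
    omega
  -- Step B
  have stepB : ∀ j : ℕ, z₀ ^ j = 1 ∨ z₀ ^ j ∈ T := by
    intro j
    induction j with
    | zero => left; exact pow_zero _
    | succ j ih =>
      rw [pow_succ]
      rcases ih with h1 | h1
      · right
        rw [h1, one_mul]
        exact hz₀T
      · have hjp : (z₀ ^ j) ^ p = 1 := by rw [← pow_mul, mul_comm, pow_mul, hz₀p, one_pow]
        exact stepA _ h1 hjp z₀ hz₀T hz₀p
  -- Step C
  have stepC : ∀ z : C, z ^ p = 1 → z ≠ 1 → z ∈ T := by
    intro z hzp hz1
    have himg : (Finset.range p).image (fun j => z₀ ^ j) =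
        (Finset.univ : Finset C).filter (fun a => a ^ p = 1) := by
      apply Finset.eq_of_subset_of_card_le
      · intro x hx
        obtain ⟨j, -, rfl⟩ := Finset.mem_image.mp hx
        rw [Finset.mem_filter]
        refine ⟨Finset.mem_univ _, ?_⟩
        rw [← pow_mul, mul_comm, pow_mul, hz₀p, one_pow]
      · rw [Finset.card_image_of_injOn, Finset.card_range]
        · exact hcardP
        · intro i hi j hj hij
          rw [Finset.coe_range, Set.mem_Iio] at hi hj
          rw [← hz₀] at hi hj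
          exact pow_injOn_Iio_orderOf hi hj hij
    have hzmem : z ∈ (Finset.range p).image (fun j => z₀ ^ j) := by
      rw [himg, Finset.mem_filter]
      exact ⟨Finset.mem_univ _, hzp⟩
    obtain ⟨j, -, rfl⟩ := Finset.mem_image.mp hzmem
    rcases stepB j with h1 | h1
    · exact absurd h1 hz1
    · exact h1
  -- Step D
  have stepD : ∀ β : Ω, β ≠ ω₀ → ∃ k : G, k • ω₀ = ω₀ ∧ k • ((z₀ : G) • ω₀) = β := by
    intro β hβ
    obtain ⟨z, hzS, hzp⟩ := meets h hprim hcyc hp hpC (SS β) (hSSK β) (hSSne β) (hSS1 β hβ)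
    have hz1 : z ≠ 1 := fun h1 => hSS1 β hβ (h1 ▸ hzS)
    exact hSScommon _ _ z (stepC z hzp hz1) hzS
  have hstab : ∀ α β : Ω, α ≠ ω₀ → β ≠ ω₀ → ∃ g : G, g • ω₀ = ω₀ ∧ g • α = β := by
    intro α β hα hβ
    obtain ⟨k₁, hk₁, hk₁α⟩ := stepD α hα
    obtain ⟨k₂, hk₂, hk₂β⟩ := stepD β hβ
    refine ⟨k₂ * k₁⁻¹, ?_, ?_⟩
    · rw [mul_smul, inv_smul_eq_iff.mpr hk₁.symm, hk₂]
    · rw [mul_smul, ← hk₁α, inv_smul_smul, hk₂β]
  rw [is_two_pretransitive_iff]
  intro a b c d hab hcd
  obtain ⟨k₁, hk₁⟩ := htr.exists_smul_eq a ω₀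
  obtain ⟨k₂, hk₂⟩ := htr.exists_smul_eq c ω₀
  have hb : k₁ • b ≠ ω₀ := by
    intro hb
    rw [← hk₁] at hb
    exact hab (smul_left_cancel k₁ hb).symm
  have hd : k₂ • d ≠ ω₀ := by
    intro hd
    rw [← hk₂] at hd
    exact hcd (smul_left_cancel k₂ hd).symm
  obtain ⟨g, hg, hgb⟩ := hstab _ _ hb hd
  refine ⟨k₂⁻¹ * g * k₁, ?_, ?_⟩
  · rw [mul_smul, mul_smul, hk₁, hg, inv_smul_eq_iff, hk₂]
  · rw [mul_smul, mul_smul, hgb, smul_smul, inv_mul_cancel, one_smul]

end PP

end Cfsg.Agent.Lib.Helper64
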