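import Mathlib

set_option autoImplicit false

namespace Cfsg.Agent.Lib.Helper64

open MulAction

section SquareCount

variable {G X : Type*} [Group G] [MulAction G X]

theorem card_fixedBy_eq_sum [Fintype X] [DecidableEq X] (g : G) :
    Nat.card (fixedBy X g) = ∑ x : X, if g • x = x then 1 else 0 := by
  classical
  rw [Nat.card_eq_fintype_card, Fintype.card_subtype, Finset.card_filter]
  rfl

/-- the swap count is at most the pointwise-stabilizer count -/
theorem card_swap_le [Fintype G] [DecidableEq X] (x y : X) :
    (Finset.univ.filter (fun g : G => g • x = y ∧ g • y = x)).card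
      ≤ (Finset.univ.filter (fun g : G => g • x = x ∧ g • y = y)).card := by
  classical
  rcases (Finset.univ.filter (fun g : G => g • x = y ∧ g • y = x)).eq_empty_or_nonempty with h | h
  · rw [h]; simp
  · obtain ⟨g₀, hg₀⟩ := h
    rw [Finset.mem_filter] at hg₀
    obtain ⟨-, h1, h2⟩ := hg₀
    apply Finset.card_le_card_of_injOn (fun g => g₀⁻¹ * g)
    · intro g hg
      rw [Finset.mem_coe, Finset.mem_filter] at hg
      obtain ⟨-, h3, h4⟩ := hg
      rw [Finset.mem_coe, Finset.mem_filter]
      refine ⟨Finset.mem_univ _, ?_, ?_⟩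
      · rw [mul_smul, h3, inv_smul_eq_iff, h1]
      · rw [mul_smul, h4, inv_smul_eq_iff, h2]
    · intro a _ b _ hab
      exact mul_left_cancel hab

/-- `∑ fix(g²) ≤ ∑ fix(g)²`: the number of self-paired orbitals is at most the rank. -/
theorem sum_fix_sq_le [Fintype G] [Finite X] :
    (∑ g : G, Nat.card (fixedBy X (g * g))) ≤ ∑ g : G, Nat.card (fixedBy X g) ^ 2 := by
  classical
  have := Fintype.ofFinite X
  have hL : (∑ g : G, Nat.card (fixedBy X (g * g)))
      = ∑ x : X, ∑ y : X, (Finset.univ.filter (fun g : G => g • x = y ∧ g • y = x)).card := by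
    simp_rw [card_fixedBy_eq_sum, Finset.card_filter]
    rw [Finset.sum_comm]
    refine Finset.sum_congr rfl fun x _ => ?_
    rw [Finset.sum_comm]
    refine Finset.sum_congr rfl fun g _ => ?_
    rw [mul_smul]
    have : ∀ y : X, (if g • x = y ∧ g • y = x then 1 else 0)
        = if g • x = y then (if g • g • x = x then 1 else 0) else 0 := by
      intro y
      by_cases h : g • x = y
      · subst h; simp
      · simp [h]
    simp_rw [this]
    rw [Finset.sum_ite_eq]
    simp
  have hR : (∑ g : G, Nat.card (fixedBy X g) ^ 2)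
      = ∑ x : X, ∑ y : X, (Finset.univ.filter (fun g : G => g • x = x ∧ g • y = y)).card := by
    simp_rw [card_fixedBy_eq_sum, Finset.card_filter, sq, Finset.sum_mul_sum]
    rw [Finset.sum_comm]
    refine Finset.sum_congr rfl fun x _ => ?_
    rw [Finset.sum_comm]
    refine Finset.sum_congr rfl fun y _ => ?_
    refine Finset.sum_congr rfl fun g _ => ?_
    by_cases h1 : g • x = x <;> by_cases h2 : g • y = y <;> simp [h1, h2]
  rw [hL, hR]
  exact Finset.sum_le_sum fun x _ => Finset.sum_le_sum fun y _ => card_swap_le x y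

end SquareCount

end Cfsg.Agent.Lib.Helper64
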