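import Cfsg.Prelude.Def_ParabolicCharacters
import Cfsg.Agent.Lib.Helper64.StBMain
import Cfsg.Agent.Lib.Helper49.StBD2
import Cfsg.Agent.Lib.Helper82.DefectZero
import Cfsg.Agent.Lib.Helper01.Coprime

/-!
# The Steinberg character of a Chevalley group: from the (B,N)-pair to the four statements

Everything is proved from a bundle `ChevHyp D F` of structural facts about the Chevalley group
(the results of S1042, S1043, S1037, S1038, S1040, S1053, S1027, S1036 and membership of the `n_i`),
so that this file does not import the heavy table files.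
-/

set_option autoImplicit false

namespace Cfsg.Agent.Lib.Helper64.StB

open Cfsg

theorem fpc_subgroupOf_congr {G : Type*} [Group G] {B B' K K' : Subgroup G} (hB : B = B')
    (hK : K = K') (b : ↥B') :
    Cfsg.fixedPointCharacter (K'.subgroupOf B') b =
      Cfsg.fixedPointCharacter (K.subgroupOf B) ⟨b.1, by rw [hB]; exact b.2⟩ := by
  subst hB hK
  rfl

theorem fpc_one {G : Type*} [Group G] (K : Subgroup G) :
    Cfsg.fixedPointCharacter K 1 = (K.index : ℂ) := by
  unfold Cfsg.fixedPointCharacter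
  rw [MulAction.fixedBy_one_eq_univ, Subgroup.index]
  congr 1
  exact Nat.card_congr (Equiv.Set.univ _)

section chev

variable (F : Type*) [Field F] [Fintype F] (D : Cfsg.Lie.ChevalleyDatum)

/-- the structural facts about the Chevalley group used below -/
structure ChevHyp : Prop where
  hle : D.borelSubgroup F ≤ D.group F
  hNle : D.monomialSubgroup F ≤ D.group F
  hP : ∃ P : Cfsg.BNPair ↥(D.group F),
      P.B = (D.borelSubgroup F).subgroupOf (D.group F) ∧
      P.N = (D.monomialSubgroup F).subgroupOf (D.group F) ∧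
      P.S = {n : ↥(D.group F) | ∃ i < D.rank,
        ((n : GL D.Idx F) : Matrix D.Idx D.Idx F) = D.nMat F (D.simple i) 1}
  hex : ∀ i < D.rank, ∃ n : ↥(D.group F),
      ((n : GL D.Idx F) : Matrix D.Idx D.Idx F) = D.nMat F (D.simple i) 1
  h1053 : ∃ n ∈ D.monomialSubgroup F,
      (D.posUnipotent F).map (MulAut.conj n).toMonoidHom = D.negUnipotent F
  h1037 : D.borelSubgroup F ⊓ (D.negUnipotent F ⊔ D.diagonalSubgroup F) = D.diagonalSubgroup F
  h1038 : ((D.diagonalSubgroup F).subgroupOf (D.monomialSubgroup F)).Normal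
  h1040 : D.borelSubgroup F ⊓ D.monomialSubgroup F = D.diagonalSubgroup F
  h1027 : Nat.card (D.posUnipotent F) = Fintype.card F ^ (D.nroots / 2)
  h1036 : D.diagonalSubgroup F ≤ Subgroup.normalizer (D.posUnipotent F : Set (GL D.Idx F)) ∧
      D.posUnipotent F ⊓ D.diagonalSubgroup F = ⊥

variable {F D}

theorem ChevHyp.steinberg_eq (h : ChevHyp F D) :
    ∃ P : Cfsg.BNPair ↥(D.group F),
      P.B = (D.borelSubgroup F).subgroupOf (D.group F) ∧
      P.N = (D.monomialSubgroup F).subgroupOf (D.group F) ∧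
      D.steinbergCharacter F = stChar P := by
  obtain ⟨P, hB, hN, hS⟩ := h.hP
  exact ⟨P, hB, hN,
    Cfsg.Agent.Lib.Helper49.StB.steinbergCharacter_eq_stChar D h.hle P hB hS h.hex⟩

/-- S2311. -/
theorem ChevHyp.steinberg_irr (h : ChevHyp F D) :
    Cfsg.IsIrrCharacter ↥(D.group F) (D.steinbergCharacter F) := by
  obtain ⟨P, -, -, hSt⟩ := h.steinberg_eq
  rw [hSt]
  exact stChar_isIrr P

/-- S2313. -/
theorem ChevHyp.steinberg_apply_borel (h : ChevHyp F D)
    (b : ↥((D.borelSubgroup F).subgroupOf (D.group F))) :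
    D.steinbergCharacter F ((((D.borelSubgroup F).subgroupOf (D.group F)).subtype) b) =
      Cfsg.fixedPointCharacter (((D.diagonalSubgroup F).subgroupOf (D.group F)).subgroupOf
        ((D.borelSubgroup F).subgroupOf (D.group F))) b := by
  obtain ⟨P, hB, hN, hSt⟩ := h.steinberg_eq
  obtain ⟨n, hnN, hnU⟩ := h.h1053
  have hHN : D.diagonalSubgroup F ≤ D.monomialSubgroup F := le_sup_left
  have hn₁ : (⟨n, h.hNle hnN⟩ : ↥(D.group F)) ∈ P.N := by
    rw [hN, Subgroup.mem_subgroupOf]
    exact hnN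
  have hmap : (D.borelSubgroup F).map (MulAut.conj n).toMonoidHom ≤
      D.negUnipotent F ⊔ D.diagonalSubgroup F := by
    unfold Cfsg.Lie.ChevalleyDatum.borelSubgroup
    rw [Subgroup.map_sup, hnU]
    apply sup_le_sup_left
    rintro _ ⟨t, ht, rfl⟩
    have h1 := h.h1038.conj_mem ⟨t, hHN ht⟩ (by rw [Subgroup.mem_subgroupOf]; exact ht)
      ⟨n, hnN⟩
    rw [Subgroup.mem_subgroupOf] at h1
    simpa using h1
  have hT : ∀ b ∈ P.B, (⟨n, h.hNle hnN⟩ : ↥(D.group F))⁻¹ * b * ⟨n, h.hNle hnN⟩ ∈ P.B →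
      b ∈ P.N := by
    intro b hb hc
    rw [hB, Subgroup.mem_subgroupOf] at hb hc
    rw [hN, Subgroup.mem_subgroupOf]
    have hc' : n⁻¹ * (b : GL D.Idx F) * n ∈ D.borelSubgroup F := by simpa using hc
    have hbV : (b : GL D.Idx F) ∈ D.negUnipotent F ⊔ D.diagonalSubgroup F := by
      have e : (b : GL D.Idx F) = n * (n⁻¹ * (b : GL D.Idx F) * n) * n⁻¹ := by group
      rw [e]
      exact hmap ⟨_, hc', by simp [MulAut.conj_apply]⟩
    have hbH : (b : GL D.Idx F) ∈ D.diagonalSubgroup F := by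
      rw [← h.h1037]
      exact ⟨hb, hbV⟩
    exact hHN hbH
  have key := stChar_apply_of_mem_B P hn₁ hT
  have hBN : P.B ⊓ P.N = (D.diagonalSubgroup F).subgroupOf (D.group F) := by
    rw [hB, hN]
    ext x
    simp only [Subgroup.mem_inf, Subgroup.mem_subgroupOf]
    rw [← h.h1040, Subgroup.mem_inf]
  rw [hSt, fpc_subgroupOf_congr hB hBN b]
  exact key ⟨b.1, by rw [hB]; exact b.2⟩

/-- the index of `H` in `B` -/
theorem ChevHyp.index_diag (h : ChevHyp F D) :
    (((D.diagonalSubgroup F).subgroupOf (D.group F)).subgroupOf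
        ((D.borelSubgroup F).subgroupOf (D.group F))).index = Fintype.card F ^ (D.nroots / 2) := by
  have hHB : D.diagonalSubgroup F ≤ D.borelSubgroup F := le_sup_right
  have h1 := Cfsg.Agent.Lib.Helper01.card_sup_mul_card_inf_of_le_normalizer
    (D.posUnipotent F) (D.diagonalSubgroup F) h.h1036.1
  rw [h.h1036.2, Subgroup.card_bot, mul_one, sup_comm] at h1
  change (((D.diagonalSubgroup F).subgroupOf (D.group F)).relIndex
    ((D.borelSubgroup F).subgroupOf (D.group F))) = _
  rw [Subgroup.relIndex_subgroupOf h.hle]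
  have h2 := Subgroup.relIndex_mul_relIndex (⊥ : Subgroup (GL D.Idx F)) (D.diagonalSubgroup F)
    (D.borelSubgroup F) bot_le hHB
  rw [Subgroup.relIndex_bot_left, Subgroup.relIndex_bot_left] at h2
  have hpos : 0 < Nat.card (D.diagonalSubgroup F) := Nat.card_pos
  have hBdef : D.borelSubgroup F = D.posUnipotent F ⊔ D.diagonalSubgroup F := rfl
  rw [hBdef] at h2 ⊢
  rw [h1, mul_comm (Nat.card (D.posUnipotent F))] at h2
  rw [Nat.eq_of_mul_eq_mul_left hpos h2, h.h1027]

/-- S2327. -/
theorem ChevHyp.steinberg_one (h : ChevHyp F D) :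
    D.steinbergCharacter F 1 = (Fintype.card F : ℂ) ^ (D.nroots / 2) := by
  have h1 := h.steinberg_apply_borel 1
  rw [map_one, fpc_one, h.index_diag] at h1
  rw [h1]
  push_cast
  rfl

/-- S2328. -/
theorem ChevHyp.steinberg_vanish (h : ChevHyp F D) (p : ℕ) [Fact p.Prime]
    (hSyl : ∃ P : Sylow p ↥(D.group F),
      (P : Subgroup ↥(D.group F)) = (D.posUnipotent F).subgroupOf (D.group F))
    (g : ↥(D.group F)) (hg : p ∣ orderOf g) :
    D.steinbergCharacter F g = 0 := by
  classical
  have hp : p.Prime := Fact.out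
  have : Fintype ↥(D.group F) := Fintype.ofFinite _
  obtain ⟨S, hS⟩ := hSyl
  have hUle : D.posUnipotent F ≤ D.group F := le_trans le_sup_left h.hle
  have hcardS : Nat.card S = Fintype.card F ^ (D.nroots / 2) := by
    have : Nat.card S = Nat.card ((S : Subgroup ↥(D.group F))) := rfl
    rw [this, hS, Cfsg.Agent.Lib.Helper01.card_subgroupOf_of_le hUle, h.h1027]
  have hmult := S.card_eq_multiplicity
  set χ : IrrCharacter ↥(D.group F) := ⟨D.steinbergCharacter F, h.steinberg_irr⟩ with hχ
  have hdeg : charDegree (χ : ↥(D.group F) → ℂ) = Fintype.card F ^ (D.nroots / 2) := by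
    unfold charDegree
    rw [hχ]
    change ⌊(D.steinbergCharacter F 1).re⌋₊ = _
    rw [h.steinberg_one]
    have : ((Fintype.card F : ℂ) ^ (D.nroots / 2)) = ((Fintype.card F ^ (D.nroots / 2) : ℕ) : ℂ) := by
      push_cast; rfl
    rw [this, Complex.natCast_re, Nat.floor_natCast]
  have hnd : ¬ p ∣ Nat.card ↥(D.group F) / charDegree (χ : ↥(D.group F) → ℂ) := by
    rw [hdeg, ← hcardS, hmult]
    exact Nat.not_dvd_ordCompl hp Nat.card_pos.ne'
  obtain ⟨M, hMp⟩ := Cfsg.Agent.Lib.Helper82.exists_isPModular p hp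
  have hblock := Cfsg.Agent.Lib.Helper82.blockOf_eq_singleton_of_not_dvd hMp χ hnd
  exact Cfsg.Agent.Lib.Helper82.eq_zero_of_blockOf_eq_singleton hMp χ hblock g hg

end chev

end Cfsg.Agent.Lib.Helper64.StB
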