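import Cfsg.Agent.S1042
import Cfsg.Agent.S1043
import Cfsg.Agent.S1037
import Cfsg.Agent.S1038
import Cfsg.Agent.S1040
import Cfsg.Agent.S1053
import Cfsg.Agent.S1027
import Cfsg.Agent.S1036
import Cfsg.Agent.Lib.Helper24.FactsAll
import Cfsg.Agent.Lib.Helper24.HNAll
import Cfsg.Agent.Lib.Helper24.Mono
import Cfsg.Agent.Lib.Helper24.NConj
import Cfsg.Agent.Lib.Helper64.StBChev

/-!
# The structural facts `ChevHyp F D` for the seven Chevalley data

Collected from the landed statements S1042, S1043, S1037, S1038, S1040, S1053, S1027, S1036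
(helper24 and others) and helper24's `Facts` library.
-/

set_option autoImplicit false

namespace Cfsg.Agent.Lib.Helper64.StB

open Cfsg

theorem chevHyp_all {F : Type*} [Field F] [Fintype F] (D : Cfsg.Lie.ChevalleyDatum)
    (hD : D ∈ [Cfsg.Lie.chevG2, Cfsg.Lie.chevB2, Cfsg.Lie.chevD4, Cfsg.Lie.chevF4,
      Cfsg.Lie.chevE6, Cfsg.Lie.chevE7, Cfsg.Lie.chevE8]) : ChevHyp F D := by
  obtain ⟨hle, hNle, -⟩ := Cfsg.Agent.S1043.result (F := F) D hD
  have hF := Cfsg.Agent.Lib.Helper24.facts_all D hD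
  obtain ⟨tab, orb, -, hH, -⟩ := Cfsg.Agent.Lib.Helper24.hnfacts_all D hD
  refine ⟨hle, hNle, Cfsg.Agent.S1042.result D hD, ?_, Cfsg.Agent.S1053.result D hD,
    (Cfsg.Agent.S1037.result D hD).2, Cfsg.Agent.S1038.result D hD,
    (Cfsg.Agent.S1040.result D hD).2, Cfsg.Agent.S1027.result D hD,
    Cfsg.Agent.S1036.result D hD⟩
  intro i hi
  have hs := Cfsg.Agent.Lib.Helper24.Facts.simple_lt hH i hi
  exact ⟨⟨hF.nS i, hNle (hF.nS_mem_monomial i hs)⟩, hF.nS_val i⟩

end Cfsg.Agent.Lib.Helper64.StB
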