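import Mathlib
import Cfsg.Prelude.Def_LieExceptional
import Cfsg.Agent.Lib.Helper08.BNPair

/-!
# K-StO-A5 (keystone 254725, architect helper48): a (B,N)-pair restricts to a normal subgroup `H`
with `H T = G`, `T = B ⊓ N`
-/

set_option autoImplicit false

namespace Cfsg.Agent.Lib.Helper64.StO

open Cfsg Cfsg.Agent.Lib.Helper08

section

variable {G : Type*} [Group G] (P : Cfsg.BNPair G) (H : Subgroup G) [H.Normal]

theorem exists_mul_mem (hHT : H ⊔ (P.B ⊓ P.N) = ⊤) (g : G) : ∃ t ∈ P.B ⊓ P.N, g * t ∈ H := by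
  have hg : g ∈ (↑(H ⊔ (P.B ⊓ P.N)) : Set G) := by
    rw [hHT]; exact Set.mem_univ g
  rw [Subgroup.normal_mul] at hg
  obtain ⟨h, hh, t, ht, rfl⟩ := Set.mem_mul.mp hg
  refine ⟨t⁻¹, inv_mem ht, ?_⟩
  rw [mul_inv_cancel_right]
  exact hh

theorem exists_mul_mem' (hHT : H ⊔ (P.B ⊓ P.N) = ⊤) (g : G) : ∃ t ∈ P.B ⊓ P.N, t * g ∈ H := by
  obtain ⟨t, ht, h⟩ := exists_mul_mem P H hHT g⁻¹
  refine ⟨t⁻¹, inv_mem ht, ?_⟩
  have := H.inv_mem h
  rwa [mul_inv_rev, inv_inv] at this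

theorem conj_mem_T {n t : G} (hn : n ∈ P.N) (ht : t ∈ P.B ⊓ P.N) : n * t * n⁻¹ ∈ P.B ⊓ P.N :=
  ⟨P.conj_mem n hn t ht, P.N.mul_mem (P.N.mul_mem hn ht.2) (P.N.inv_mem hn)⟩

theorem conj_mem_T' {n t : G} (hn : n ∈ P.N) (ht : t ∈ P.B ⊓ P.N) : n⁻¹ * t * n ∈ P.B ⊓ P.N := by
  have := conj_mem_T P (P.N.inv_mem hn) ht
  rwa [inv_inv] at this

/-- a choice of `t ∈ T` with `g t ∈ H` -/
noncomputable def tau (hHT : H ⊔ (P.B ⊓ P.N) = ⊤) (g : G) : G :=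
  Classical.choose (exists_mul_mem P H hHT g)

theorem tau_mem (hHT : H ⊔ (P.B ⊓ P.N) = ⊤) (g : G) : tau P H hHT g ∈ P.B ⊓ P.N :=
  (Classical.choose_spec (exists_mul_mem P H hHT g)).1

theorem mul_tau_mem (hHT : H ⊔ (P.B ⊓ P.N) = ⊤) (g : G) : g * tau P H hHT g ∈ H :=
  (Classical.choose_spec (exists_mul_mem P H hHT g)).2

/-- the distinguished generators of the restricted pair -/
def subS (hHT : H ⊔ (P.B ⊓ P.N) = ⊤) : Set ↥H :=
  {x | ∃ s ∈ P.S, (x : G) = s * tau P H hHT s}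

theorem subS_subset (hHT : H ⊔ (P.B ⊓ P.N) = ⊤) :
    subS P H hHT ⊆ ((P.N.subgroupOf H : Subgroup ↥H) : Set ↥H) := by
  rintro x ⟨s, hs, hx⟩
  show x ∈ P.N.subgroupOf H
  rw [Subgroup.mem_subgroupOf, hx]
  exact P.N.mul_mem (P.subset hs) (tau_mem P H hHT s).2

theorem map_closure_le (hHT : H ⊔ (P.B ⊓ P.N) = ⊤) :
    (Subgroup.closure (subS P H hHT)).map H.subtype ≤ P.N := by
  rw [Subgroup.map_le_iff_le_comap, Subgroup.closure_le]
  intro x hx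
  exact Subgroup.mem_subgroupOf.mp (subS_subset P H hHT hx)

theorem key (hHT : H ⊔ (P.B ⊓ P.N) = ⊤) : ∀ n ∈ P.N,
    ∃ c ∈ (Subgroup.closure (subS P H hHT)).map H.subtype, ∃ t ∈ P.B ⊓ P.N, n = c * t := by
  have hCN := map_closure_le P H hHT
  intro n hn
  have hn' : n ∈ Subgroup.closure (P.S ∪ ((P.B ⊓ P.N : Subgroup G) : Set G)) := by
    rw [Subgroup.closure_union, Subgroup.closure_eq, P.closure_sup]; exact hn
  induction hn' using Subgroup.closure_induction with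
  | mem g hg =>
    rcases hg with hs | ht
    · refine ⟨g * tau P H hHT g, ⟨⟨g * tau P H hHT g, mul_tau_mem P H hHT g⟩,
        Subgroup.subset_closure ⟨g, hs, rfl⟩, rfl⟩, (tau P H hHT g)⁻¹,
        inv_mem (tau_mem P H hHT g), ?_⟩
      rw [mul_inv_cancel_right]
    · exact ⟨1, one_mem _, g, ht, (one_mul g).symm⟩
  | one => exact ⟨1, one_mem _, 1, one_mem _, (mul_one 1).symm⟩
  | mul a b ha' hb' ha hb =>
    have haN : a ∈ P.N := by
      rw [← P.closure_sup, ← Subgroup.closure_eq (P.B ⊓ P.N), ← Subgroup.closure_union]; exact ha'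
    have hbN : b ∈ P.N := by
      rw [← P.closure_sup, ← Subgroup.closure_eq (P.B ⊓ P.N), ← Subgroup.closure_union]; exact hb'
    obtain ⟨c1, hc1, t1, ht1, h1⟩ := ha haN
    obtain ⟨c2, hc2, t2, ht2, h2⟩ := hb hbN
    refine ⟨c1 * c2, mul_mem hc1 hc2, (c2⁻¹ * t1 * c2) * t2,
      mul_mem (conj_mem_T' P (hCN hc2) ht1) ht2, ?_⟩
    rw [h1, h2]; group
  | inv a ha' ha =>
    have haN : a ∈ P.N := by
      rw [← P.closure_sup, ← Subgroup.closure_eq (P.B ⊓ P.N), ← Subgroup.closure_union]; exact ha'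
    obtain ⟨c, hc, t, ht, h1⟩ := ha haN
    refine ⟨c⁻¹, inv_mem hc, c * t⁻¹ * c⁻¹, conj_mem_T P (hCN hc) (inv_mem ht), ?_⟩
    rw [h1]; group

/-- the restricted (B,N)-pair -/
noncomputable def subPair (hHT : H ⊔ (P.B ⊓ P.N) = ⊤) : Cfsg.BNPair ↥H where
  B := P.B.subgroupOf H
  N := P.N.subgroupOf H
  S := subS P H hHT
  sup_eq_top := by
    rw [eq_top_iff]
    intro x _
    obtain ⟨n, hn, b1, hb1, b2, hb2, hx⟩ := bruhat_exists P (x : G)
    obtain ⟨t1, ht1, h1⟩ := exists_mul_mem P H hHT b1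
    obtain ⟨t2, ht2, h2⟩ := exists_mul_mem' P H hHT b2
    have hνN : t1⁻¹ * n * t2⁻¹ ∈ P.N :=
      P.N.mul_mem (P.N.mul_mem (P.N.inv_mem ht1.2) hn) (P.N.inv_mem ht2.2)
    have hνeq : t1⁻¹ * n * t2⁻¹ = (b1 * t1)⁻¹ * (x : G) * (t2 * b2)⁻¹ := by rw [hx]; group
    have hνH : t1⁻¹ * n * t2⁻¹ ∈ H := by
      rw [hνeq]; exact H.mul_mem (H.mul_mem (H.inv_mem h1) x.2) (H.inv_mem h2)
    have hmem : (⟨b1 * t1, h1⟩ : ↥H) * ⟨t1⁻¹ * n * t2⁻¹, hνH⟩ * ⟨t2 * b2, h2⟩ ∈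
        P.B.subgroupOf H ⊔ P.N.subgroupOf H := by
      refine Subgroup.mul_mem _ (Subgroup.mul_mem _ (Subgroup.mem_sup_left ?_)
        (Subgroup.mem_sup_right ?_)) (Subgroup.mem_sup_left ?_)
      · exact Subgroup.mem_subgroupOf.mpr (P.B.mul_mem hb1 ht1.1)
      · exact Subgroup.mem_subgroupOf.mpr hνN
      · exact Subgroup.mem_subgroupOf.mpr (P.B.mul_mem ht2.1 hb2)
    have hxe : (⟨b1 * t1, h1⟩ : ↥H) * ⟨t1⁻¹ * n * t2⁻¹, hνH⟩ * ⟨t2 * b2, h2⟩ = x := by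
      apply Subtype.ext
      show b1 * t1 * (t1⁻¹ * n * t2⁻¹) * (t2 * b2) = (x : G)
      rw [hx]; group
    rwa [hxe] at hmem
  conj_mem := by
    intro n hn t ht
    rw [Subgroup.mem_subgroupOf] at hn
    rw [Subgroup.mem_inf, Subgroup.mem_subgroupOf, Subgroup.mem_subgroupOf] at ht
    rw [Subgroup.mem_subgroupOf]
    exact P.conj_mem _ hn _ ⟨ht.1, ht.2⟩
  subset := subS_subset P H hHT
  sq_mem := by
    rintro x ⟨s, hs, hx⟩
    rw [Subgroup.mem_subgroupOf]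
    show (x : G) * (x : G) ∈ P.B
    rw [hx]
    have e : s * tau P H hHT s * (s * tau P H hHT s)
        = (s * s) * (s⁻¹ * tau P H hHT s * s) * tau P H hHT s := by group
    rw [e]
    exact P.B.mul_mem (P.B.mul_mem (P.sq_mem s hs)
      (conj_mem_T' P (P.subset hs) (tau_mem P H hHT s)).1) (tau_mem P H hHT s).1
  inj := by
    rintro x ⟨s, hs, hx⟩ x' ⟨s', hs', hx'⟩ h
    rw [Subgroup.mem_subgroupOf] at h
    have h' : (x : G)⁻¹ * (x' : G) ∈ P.B := h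
    rw [hx, hx'] at h'
    have h2 : s⁻¹ * s' ∈ P.B := by
      have e : s⁻¹ * s' = tau P H hHT s * ((s * tau P H hHT s)⁻¹ * (s' * tau P H hHT s'))
          * (tau P H hHT s')⁻¹ := by group
      rw [e]
      exact P.B.mul_mem (P.B.mul_mem (tau_mem P H hHT s).1 h')
        (P.B.inv_mem (tau_mem P H hHT s').1)
    have hss := P.inj s hs s' hs' h2
    subst hss
    exact Subtype.ext (hx.trans hx'.symm)
  closure_sup := by
    apply le_antisymm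
    · apply sup_le
      · rw [Subgroup.closure_le]; exact subS_subset P H hHT
      · exact inf_le_right
    · intro x hx
      rw [Subgroup.mem_subgroupOf] at hx
      obtain ⟨c, hc, t, ht, hxe⟩ := key P H hHT (x : G) hx
      obtain ⟨y, hy, rfl⟩ := hc
      have htH : t ∈ H := by
        have e : t = (y : G)⁻¹ * (x : G) := by
          rw [hxe]; simp
        rw [e]; exact H.mul_mem (H.inv_mem y.2) x.2
      have hxy : x = y * ⟨t, htH⟩ := Subtype.ext hxe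
      rw [hxy]
      exact Subgroup.mul_mem _ (Subgroup.mem_sup_left hy)
        (Subgroup.mem_sup_right ⟨Subgroup.mem_subgroupOf.mpr ht.1, Subgroup.mem_subgroupOf.mpr ht.2⟩)
  mul_mem_union := by
    rintro x ⟨s, hs, hx⟩ n hn b hb
    rw [Subgroup.mem_subgroupOf] at hn hb
    obtain ⟨τ, hτ, hxτ⟩ : ∃ τ ∈ P.B ⊓ P.N, (x : G) = s * τ := ⟨_, tau_mem P H hHT s, hx⟩
    have hxN : (x : G) ∈ P.N := by rw [hxτ]; exact P.N.mul_mem (P.subset hs) hτ.2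
    have h0 := P.mul_mem_union s hs (n : G) hn (τ * b) (P.B.mul_mem hτ.1 hb)
    rcases h0 with h0 | h0
    · left
      rw [DoubleCoset.mem_doubleCoset] at h0 ⊢
      obtain ⟨b1, hb1, b2, hb2, he⟩ := h0
      obtain ⟨t1, ht1, h1⟩ := exists_mul_mem P H hHT b1
      have e1 : (x : G) * b * n = (b1 * t1) * ((x : G) * n) *
          (((x : G) * n)⁻¹ * t1⁻¹ * ((x : G) * n) * ((n : G)⁻¹ * τ * n)⁻¹ * b2) := by
        calc (x : G) * b * n = s * (τ * b) * n := by rw [hxτ]; group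
          _ = b1 * (s * n) * b2 := he
          _ = _ := by rw [hxτ]; group
      have hβB : ((x : G) * n)⁻¹ * t1⁻¹ * ((x : G) * n) * ((n : G)⁻¹ * τ * n)⁻¹ * b2 ∈ P.B :=
        P.B.mul_mem (P.B.mul_mem (conj_mem_T' P (P.N.mul_mem hxN hn) (inv_mem ht1)).1
          (P.B.inv_mem (conj_mem_T' P hn hτ).1)) hb2
      have hβH : ((x : G) * n)⁻¹ * t1⁻¹ * ((x : G) * n) * ((n : G)⁻¹ * τ * n)⁻¹ * b2 ∈ H := by
        have e2 : ((x : G) * n)⁻¹ * t1⁻¹ * ((x : G) * n) * ((n : G)⁻¹ * τ * n)⁻¹ * b2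
            = ((b1 * t1) * ((x : G) * n))⁻¹ * ((x : G) * b * n) := by
          rw [e1]; group
        rw [e2]
        exact H.mul_mem (H.inv_mem (H.mul_mem h1 (H.mul_mem x.2 n.2)))
          (H.mul_mem (H.mul_mem x.2 b.2) n.2)
      exact ⟨⟨b1 * t1, h1⟩, Subgroup.mem_subgroupOf.mpr (P.B.mul_mem hb1 ht1.1), ⟨_, hβH⟩,
        Subgroup.mem_subgroupOf.mpr hβB, Subtype.ext e1⟩
    · right
      rw [DoubleCoset.mem_doubleCoset] at h0 ⊢
      obtain ⟨b1, hb1, b2, hb2, he⟩ := h0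
      obtain ⟨t1, ht1, h1⟩ := exists_mul_mem P H hHT b1
      have e1 : (x : G) * b * n = (b1 * t1) * (n : G) * ((n : G)⁻¹ * t1⁻¹ * n * b2) := by
        calc (x : G) * b * n = s * (τ * b) * n := by rw [hxτ]; group
          _ = b1 * (n : G) * b2 := he
          _ = _ := by group
      have hβB : (n : G)⁻¹ * t1⁻¹ * n * b2 ∈ P.B :=
        P.B.mul_mem (conj_mem_T' P hn (inv_mem ht1)).1 hb2
      have hβH : (n : G)⁻¹ * t1⁻¹ * n * b2 ∈ H := by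
        have e2 : (n : G)⁻¹ * t1⁻¹ * n * b2 = ((b1 * t1) * (n : G))⁻¹ * ((x : G) * b * n) := by
          rw [e1]; group
        rw [e2]
        exact H.mul_mem (H.inv_mem (H.mul_mem h1 n.2)) (H.mul_mem (H.mul_mem x.2 b.2) n.2)
      exact ⟨⟨b1 * t1, h1⟩, Subgroup.mem_subgroupOf.mpr (P.B.mul_mem hb1 ht1.1), ⟨_, hβH⟩,
        Subgroup.mem_subgroupOf.mpr hβB, Subtype.ext e1⟩
  conj_ne := by
    rintro x ⟨s, hs, hx⟩ heq
    apply P.conj_ne s hs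
    obtain ⟨τ, hτ, hxτ⟩ : ∃ τ ∈ P.B ⊓ P.N, (x : G) = s * τ := ⟨_, tau_mem P H hHT s, hx⟩
    have hxN : (x : G) ∈ P.N := by rw [hxτ]; exact P.N.mul_mem (P.subset hs) hτ.2
    have hsx : s = (x : G) * τ⁻¹ := by rw [hxτ]; group
    have hkey : ∀ β ∈ P.B, β ∈ H → (x : G) * β * x ∈ P.B := by
      intro β hβ hβH
      have h1 : x * ⟨β, hβH⟩ * x ∈ (fun b : ↥H => x * b * x) ''
          ((P.B.subgroupOf H : Subgroup ↥H) : Set ↥H) :=
        ⟨⟨β, hβH⟩, Subgroup.mem_subgroupOf.mpr hβ, rfl⟩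
      rw [heq] at h1
      exact Subgroup.mem_subgroupOf.mp h1
    have hfwd : ∀ b ∈ P.B, s * b * s ∈ P.B := by
      intro b hb
      obtain ⟨t0, ht0, h0⟩ := exists_mul_mem P H hHT (τ⁻¹ * b)
      have e : s * b * s = ((x : G) * (τ⁻¹ * b * t0) * x) * ((x : G)⁻¹ * t0⁻¹ * x) * τ⁻¹ := by
        rw [hsx]; group
      rw [e]
      exact P.B.mul_mem (P.B.mul_mem
        (hkey _ (P.B.mul_mem (P.B.mul_mem (P.B.inv_mem hτ.1) hb) ht0.1) h0)
        (conj_mem_T' P hxN (inv_mem ht0)).1) (P.B.inv_mem hτ.1)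
    ext y
    constructor
    · rintro ⟨b, hb, rfl⟩
      exact hfwd b hb
    · intro hy
      refine ⟨s⁻¹ * y * s⁻¹, ?_, ?_⟩
      · have e : s⁻¹ * y * s⁻¹ = (s * s)⁻¹ * (s * y * s) * (s * s)⁻¹ := by group
        show s⁻¹ * y * s⁻¹ ∈ P.B
        rw [e]
        exact P.B.mul_mem (P.B.mul_mem (P.B.inv_mem (P.sq_mem s hs)) (hfwd y hy))
          (P.B.inv_mem (P.sq_mem s hs))
      · show s * (s⁻¹ * y * s⁻¹) * s = y
        group

end

theorem exists_bnPair_subgroupOf {G : Type*} [Group G] [Finite G] (P : Cfsg.BNPair G)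
    (H : Subgroup G) [H.Normal] (hHT : H ⊔ (P.B ⊓ P.N) = ⊤) :
    ∃ P' : Cfsg.BNPair ↥H, P'.B = P.B.subgroupOf H ∧ P'.N = P.N.subgroupOf H :=
  ⟨subPair P H hHT, rfl, rfl⟩

end Cfsg.Agent.Lib.Helper64.StO
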