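import Cfsg.Agent.Lib.Helper37.FieldAutMain
import Cfsg.Agent.Lib.Helper24.FactsAll

set_option autoImplicit false

/-! K-SF-5 (keystone 221405, architect helper37): conjugation by a `σ`-fixed element of `H` maps
`x_r(t)` with `σ t = t` to `x_r(t')` with `σ t' = t'`. -/

namespace Cfsg.Agent.Lib.Helper64.Subfield

open Cfsg.Lie Matrix
open Cfsg.Agent.Lib.Helper24
open Cfsg.Agent.Lib.Helper37.FieldAut

theorem diag_conj_fixed {F : Type*} [Field F] (D : ChevalleyDatum)
    (hD : D ∈ [chevG2, chevB2, chevD4, chevF4, chevE6, chevE7, chevE8]) (σ : F ≃+* F)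
    (h : GL D.Idx F) (hh : h ∈ D.diagonalSubgroup F) (hσ : glMap D (σ : F →+* F) h = h)
    (r : ℕ) (t : F) (ht : σ t = t) (x : GL D.Idx F) (hx : (x : Matrix D.Idx D.Idx F) = D.x F r t) :
    ∃ t' : F, σ t' = t' ∧ ((h * x * h⁻¹ : GL D.Idx F) : Matrix D.Idx D.Idx F) = D.x F r t' := by
  have hF : Facts D := facts_all D hD
  by_cases hr : r < D.nroots
  · obtain ⟨cc, hcc, hdiag⟩ := hF.diagonal_torus h hh
    have hxe : x = hF.xGL r t := hF.eq_xGL x r t hx
    have hconj : h * hF.xGL r t * h⁻¹ =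
        hF.xGL r (torusEntry D (List.range D.rank) cc (D.rank + r) * t) := by
      rw [mul_inv_eq_iff_eq_mul]
      apply Units.ext
      rw [Units.val_mul, Units.val_mul, hdiag, Facts.xGL_val, Facts.xGL_val]
      unfold ChevalleyDatum.x
      rw [dif_pos hr, dif_pos hr]
      exact hF.torus_mul_xMat cc hcc ⟨r, hr⟩ t
    have hcσ : σ (torusEntry D (List.range D.rank) cc (D.rank + r)) =
        torusEntry D (List.range D.rank) cc (D.rank + r) := by
      have h1 := congrArg (fun g : GL D.Idx F =>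
        (g : Matrix D.Idx D.Idx F) (Sum.inr ⟨r, hr⟩) (Sum.inr ⟨r, hr⟩)) hσ
      simp only [glMap_val, Matrix.map_apply, hdiag, Matrix.diagonal_apply_eq] at h1
      exact h1
    refine ⟨torusEntry D (List.range D.rank) cc (D.rank + r) * t, by rw [map_mul, hcσ, ht], ?_⟩
    rw [hxe, hconj, Facts.xGL_val]
  · refine ⟨0, map_zero σ, ?_⟩
    have hx1 : x = 1 := by
      apply Units.ext
      rw [hx]
      unfold ChevalleyDatum.x
      rw [dif_neg hr]
      rfl
    rw [hx1, x_zero]
    simp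

end Cfsg.Agent.Lib.Helper64.Subfield
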