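import Mathlib

/-!
# K-TT68-T1 (keystone 555501), architect helper94

A group generated by three involutions `a b c` with `(ab)^3 = (bc)^3 = (ca)^3 = (a·cbc)^3 = 1` is finite of
order dividing `54`.
-/

set_option autoImplicit false
set_option linter.unusedSimpArgs false

namespace Cfsg.Agent.Lib.Helper64.TT68

open Subgroup

/-- a group generated by a set inside a cyclic subgroup `⟨u⟩` with `u ^ n = 1` has order dividing `n` -/
theorem card_dvd_of_closure_le_zpowers {G : Type*} [Group G] (S : Set G) (hS : closure S = ⊤) (u : G)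
    (hu : ∀ s ∈ S, s ∈ zpowers u) {n : ℕ} (hun : u ^ n = 1) : Nat.card G ∣ n := by
  have htop : zpowers u = ⊤ := by
    apply top_unique
    rw [← hS, closure_le]
    exact hu
  have h1 : Nat.card G = Nat.card (⊤ : Subgroup G) := Subgroup.card_top.symm
  rw [h1, ← htop, Nat.card_zpowers]
  exact orderOf_dvd_of_pow_eq_one hun

/-- the order of an extension -/
theorem card_dvd_of_normal {G : Type*} [Group G] (N : Subgroup G) [N.Normal] {m n : ℕ} (hm : 0 < m)
    (hn : 0 < n) (hN : Nat.card N ∣ m) (hQ : Nat.card (G ⧸ N) ∣ n) :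
    Finite G ∧ Nat.card G ∣ n * m := by
  have h := Subgroup.card_eq_card_quotient_mul_card_subgroup N
  have hN0 : Nat.card N ≠ 0 := by
    intro h0
    rw [h0, zero_dvd_iff] at hN
    omega
  have hQ0 : Nat.card (G ⧸ N) ≠ 0 := by
    intro h0
    rw [h0, zero_dvd_iff] at hQ
    omega
  refine ⟨?_, ?_⟩
  · apply Nat.finite_of_card_ne_zero
    rw [h]
    exact mul_ne_zero hQ0 hN0
  · rw [h]
    exact Nat.mul_dvd_mul hQ hN

/-- normality can be checked on generators of the group and of the subgroup -/
theorem normal_closure_of_gens {G : Type*} [Group G] (S : Set G) (hS : closure S = ⊤) (T : Set G)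
    (h : ∀ s ∈ S, ∀ t ∈ T, s * t * s⁻¹ ∈ closure T ∧ s⁻¹ * t * s ∈ closure T) :
    (closure T).Normal := by
  have key : ∀ g : G, (∀ n ∈ closure T, g * n * g⁻¹ ∈ closure T) ∧
      (∀ n ∈ closure T, g⁻¹ * n * g ∈ closure T) := by
    intro g
    have hg : g ∈ closure S := by rw [hS]; trivial
    induction hg using Subgroup.closure_induction with
    | mem s hs =>
      constructor
      · intro n hn
        induction hn using Subgroup.closure_induction with
        | mem t ht => exact (h s hs t ht).1
        | one => simp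
        | mul x y _ _ hx hy =>
          have e : s * (x * y) * s⁻¹ = (s * x * s⁻¹) * (s * y * s⁻¹) := by group
          rw [e]; exact mul_mem hx hy
        | inv x _ hx =>
          have e : s * x⁻¹ * s⁻¹ = (s * x * s⁻¹)⁻¹ := by group
          rw [e]; exact inv_mem hx
      · intro n hn
        induction hn using Subgroup.closure_induction with
        | mem t ht => exact (h s hs t ht).2
        | one => simp
        | mul x y _ _ hx hy =>
          have e : s⁻¹ * (x * y) * s = (s⁻¹ * x * s) * (s⁻¹ * y * s) := by group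
          rw [e]; exact mul_mem hx hy
        | inv x _ hx =>
          have e : s⁻¹ * x⁻¹ * s = (s⁻¹ * x * s)⁻¹ := by group
          rw [e]; exact inv_mem hx
    | one => simp
    | mul x y _ _ hx hy =>
      constructor
      · intro n hn
        have e : x * y * n * (x * y)⁻¹ = x * (y * n * y⁻¹) * x⁻¹ := by group
        rw [e]; exact hx.1 _ (hy.1 n hn)
      · intro n hn
        have e : (x * y)⁻¹ * n * (x * y) = y⁻¹ * (x⁻¹ * n * x) * y := by group
        rw [e]; exact hy.2 _ (hx.2 n hn)
    | inv x _ hx =>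
      constructor
      · intro n hn
        have := hx.2 n hn
        simpa using this
      · intro n hn
        have := hx.1 n hn
        simpa using this
  exact ⟨fun n hn g => (key g).1 n hn⟩


/-- a group generated by two involutions whose product has order dividing 3 has order dividing 6 -/
theorem card_dvd_six {G : Type*} [Group G] (x y : G) (hgen : closure ({x, y} : Set G) = ⊤)
    (hx : x * x = 1) (hy : y * y = 1) (hxy : (x * y) ^ 3 = 1) : Finite G ∧ Nat.card G ∣ 6 := by
  have hxi : x⁻¹ = x := inv_eq_of_mul_eq_one_right hx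
  have hyi : y⁻¹ = y := inv_eq_of_mul_eq_one_right hy
  have hN : (closure ({x * y} : Set G)).Normal := by
    apply normal_closure_of_gens _ hgen
    intro s hs t ht
    rw [Set.mem_singleton_iff] at ht
    subst ht
    have hinv : (x * y)⁻¹ ∈ closure ({x * y} : Set G) := inv_mem (subset_closure rfl)
    have e1 : x * (x * y) * x = (x * y)⁻¹ := by
      rw [mul_inv_rev, hxi, hyi, ← mul_assoc, hx, one_mul]
    have e2 : y * (x * y) * y = (x * y)⁻¹ := by
      rw [mul_inv_rev, hxi, hyi, mul_assoc, mul_assoc, hy, mul_one]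
    rcases hs with rfl | hs
    · rw [hxi, e1]; exact ⟨hinv, hinv⟩
    · rw [Set.mem_singleton_iff] at hs
      subst hs
      rw [hyi, e2]; exact ⟨hinv, hinv⟩
  have hz : closure ({x * y} : Set G) = zpowers (x * y) := (zpowers_eq_closure (x * y)).symm
  have hNc : Nat.card (closure ({x * y} : Set G)) ∣ 3 := by
    rw [hz, Nat.card_zpowers]
    exact orderOf_dvd_of_pow_eq_one hxy
  have hQ : Nat.card (G ⧸ closure ({x * y} : Set G)) ∣ 2 := by
    apply card_dvd_of_closure_le_zpowers
      ((QuotientGroup.mk' (closure ({x * y} : Set G))) '' ({x, y} : Set G)) ?_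
      ((x : G) : G ⧸ closure ({x * y} : Set G)) ?_ ?_
    · rw [← MonoidHom.map_closure, hgen, ← MonoidHom.range_eq_map,
        MonoidHom.range_eq_top.2 (QuotientGroup.mk'_surjective _)]
    · rintro _ ⟨s, hs, rfl⟩
      rcases hs with rfl | hs
      · exact mem_zpowers _
      · rw [Set.mem_singleton_iff] at hs
        subst hs
        have : (QuotientGroup.mk' (closure ({x * s} : Set G))) s =
            ((x : G) : G ⧸ closure ({x * s} : Set G)) := by
          rw [QuotientGroup.mk'_apply, eq_comm, QuotientGroup.eq]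
          rw [hxi]
          exact subset_closure rfl
        rw [this]
        exact mem_zpowers _
    · rw [pow_two, ← QuotientGroup.mk_mul, hx]
      rfl
  have := card_dvd_of_normal (closure ({x * y} : Set G)) (by norm_num : 0 < 3)
    (by norm_num : 0 < 2) hNc hQ
  simpa using this

/-- a group generated by two commuting elements of order dividing 3 has order dividing 9 -/
theorem card_dvd_nine {G : Type*} [Group G] (x y : G) (hgen : closure ({x, y} : Set G) = ⊤)
    (hcomm : x * y = y * x) (hx : x ^ 3 = 1) (hy : y ^ 3 = 1) : Finite G ∧ Nat.card G ∣ 9 := by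
  have hN : (closure ({x} : Set G)).Normal := by
    apply normal_closure_of_gens _ hgen
    intro s hs t ht
    rw [Set.mem_singleton_iff] at ht
    subst ht
    have hmem : t ∈ closure ({t} : Set G) := subset_closure rfl
    rcases hs with rfl | hs
    · have e1 : s * s * s⁻¹ = s := by group
      have e2 : s⁻¹ * s * s = s := by group
      rw [e1, e2]; exact ⟨hmem, hmem⟩
    · rw [Set.mem_singleton_iff] at hs
      subst hs
      have e1 : s * t * s⁻¹ = t := by rw [← hcomm]; group
      have e2 : s⁻¹ * t * s = t := by rw [mul_assoc, hcomm]; group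
      rw [e1, e2]; exact ⟨hmem, hmem⟩
  have hz : closure ({x} : Set G) = zpowers x := (zpowers_eq_closure x).symm
  have hNc : Nat.card (closure ({x} : Set G)) ∣ 3 := by
    rw [hz, Nat.card_zpowers]
    exact orderOf_dvd_of_pow_eq_one hx
  have hQ : Nat.card (G ⧸ closure ({x} : Set G)) ∣ 3 := by
    apply card_dvd_of_closure_le_zpowers
      ((QuotientGroup.mk' (closure ({x} : Set G))) '' ({x, y} : Set G)) ?_
      ((y : G) : G ⧸ closure ({x} : Set G)) ?_ ?_
    · rw [← MonoidHom.map_closure, hgen, ← MonoidHom.range_eq_map,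
        MonoidHom.range_eq_top.2 (QuotientGroup.mk'_surjective _)]
    · rintro _ ⟨s, hs, rfl⟩
      rcases hs with rfl | hs
      · have : (QuotientGroup.mk' (closure ({s} : Set G))) s = 1 := by
          rw [QuotientGroup.mk'_apply, QuotientGroup.eq_one_iff]
          exact subset_closure rfl
        rw [this]
        exact one_mem _
      · rw [Set.mem_singleton_iff] at hs
        subst hs
        exact mem_zpowers _
    · rw [← QuotientGroup.mk_pow, hy]
      rfl
  have := card_dvd_of_normal (closure ({x} : Set G)) (by norm_num : 0 < 3)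
    (by norm_num : 0 < 3) hNc hQ
  simpa using this


/-- braid relation from `(x y)^3 = 1` for involutions -/
theorem braid_of_pow_three {G : Type*} [Group G] (x y : G) (hx : x * x = 1) (hy : y * y = 1)
    (hxy : (x * y) ^ 3 = 1) : x * (y * x) = y * (x * y) := by
  have hxi : x⁻¹ = x := inv_eq_of_mul_eq_one_right hx
  have hyi : y⁻¹ = y := inv_eq_of_mul_eq_one_right hy
  have h6 : (x * (y * x)) * (y * (x * y)) = 1 := by
    simpa [pow_succ, mul_assoc] using hxy
  have h3 : (y * (x * y))⁻¹ = y * (x * y) := by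
    simp [mul_inv_rev, hxi, hyi, mul_assoc]
  rw [← h3]
  exact eq_inv_of_mul_eq_one_left h6

/-- **K-TT68-T1** (555501). -/
theorem tri_card_dvd {K : Type*} [Group K] (a b c : K)
    (ha : a * a = 1) (hb : b * b = 1) (hc : c * c = 1)
    (hab : (a * b) ^ 3 = 1) (hbc : (b * c) ^ 3 = 1) (hca : (c * a) ^ 3 = 1)
    (ht : (a * (c * b * c)) ^ 3 = 1)
    (hgen : Subgroup.closure ({a, b, c} : Set K) = ⊤) :
    Finite K ∧ Nat.card K ∣ 54 := by
  have hai : a⁻¹ = a := inv_eq_of_mul_eq_one_right ha
  have hbi : b⁻¹ = b := inv_eq_of_mul_eq_one_right hb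
  have hci : c⁻¹ = c := inv_eq_of_mul_eq_one_right hc
  have aa : ∀ X : K, a * (a * X) = X := fun X => by rw [← mul_assoc, ha, one_mul]
  have bb : ∀ X : K, b * (b * X) = X := fun X => by rw [← mul_assoc, hb, one_mul]
  have cc : ∀ X : K, c * (c * X) = X := fun X => by rw [← mul_assoc, hc, one_mul]
  -- braid relations, short and extended
  have ab0 : a * (b * a) = b * (a * b) := braid_of_pow_three a b ha hb hab
  have bc0 : b * (c * b) = c * (b * c) := braid_of_pow_three b c hb hc hbc
  have ca0 : c * (a * c) = a * (c * a) := braid_of_pow_three c a hc ha hca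
  have ab1 : ∀ X : K, a * (b * (a * X)) = b * (a * (b * X)) := fun X => by
    rw [← mul_assoc, ← mul_assoc, mul_assoc a b a, ab0]; simp only [mul_assoc]
  have bc1 : ∀ X : K, b * (c * (b * X)) = c * (b * (c * X)) := fun X => by
    rw [← mul_assoc, ← mul_assoc, mul_assoc b c b, bc0]; simp only [mul_assoc]
  have ca1 : ∀ X : K, c * (a * (c * X)) = a * (c * (a * X)) := fun X => by
    rw [← mul_assoc, ← mul_assoc, mul_assoc c a c, ca0]; simp only [mul_assoc]
  -- the two translations
  set t1 : K := a * (c * (b * c)) with ht1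
  set t2 : K := b * (a * (c * a)) with ht2
  have ht13 : t1 ^ 3 = 1 := by
    have : a * (c * b * c) = t1 := by rw [ht1]; simp only [mul_assoc]
    rw [← this]; exact ht
  -- word identities
  have e12 : t1 * t2 = a * (b * (a * c)) := by
    rw [ht1, ht2]
    simp only [mul_assoc, ← bc1, ← bc0, bb, hb, ca1, ca0, aa, ha, mul_one]
  have e21 : t2 * t1 = a * (b * (a * c)) := by
    rw [ht1, ht2]
    simp only [mul_assoc, aa, cc, ← ab1, ← ab0]
  have e2c : t2 * (c * t1) = c := by
    rw [ht1, ht2]
    simp only [mul_assoc, ca1, ca0, aa, bb, cc, ha, hb, hc, mul_one]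
  have ea1 : (a * t1 * a) * t1 = 1 := by
    rw [ht1]
    simp only [mul_assoc, aa, bb, cc, ha, hb, hc, mul_one]
  have ea2 : a * t2 * a = a * (b * (a * c)) := by
    rw [ht2]
    simp only [mul_assoc, aa, ha, mul_one]
  have eb1 : b * t1 * b = a * (b * (a * c)) := by
    rw [ht1]
    simp only [mul_assoc, bc1, bc0, cc, ← ab1, ← ab0]
  have eb2 : (b * t2 * b) * t2 = 1 := by
    rw [ht2]
    simp only [mul_assoc, aa, bb, cc, ha, hb, hc, mul_one]
  have ec1 : (c * t1 * c) * t2 = 1 := by
    rw [ht1, ht2]
    simp only [mul_assoc, aa, bb, cc, ca1, ca0, ha, hb, hc, mul_one]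
  have ec2 : (c * t2 * c) * t1 = 1 := by
    rw [ht1, ht2]
    simp only [mul_assoc, ca1, ca0, aa, bb, cc, ha, hb, hc, mul_one]
  have ecc : c = (a * (b * a)) * (t1 * t2) := by
    rw [e12]
    simp only [mul_assoc, aa, bb]
  have hcomm : t1 * t2 = t2 * t1 := by rw [e12, e21]
  -- consequences in terms of inverses
  have fa1 : a * t1 * a = t1⁻¹ := eq_inv_of_mul_eq_one_left ea1
  have fa2 : a * t2 * a = t1 * t2 := by rw [ea2, e12]
  have fb1 : b * t1 * b = t1 * t2 := by rw [eb1, e12]
  have fb2 : b * t2 * b = t2⁻¹ := eq_inv_of_mul_eq_one_left eb2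
  have fc1 : c * t1 * c = t2⁻¹ := eq_inv_of_mul_eq_one_left ec1
  have fc2 : c * t2 * c = t1⁻¹ := eq_inv_of_mul_eq_one_left ec2
  have ht23 : t2 ^ 3 = 1 := by
    have h1 : t2 = c * t1⁻¹ * c⁻¹ := by
      have h2 := congrArg (·⁻¹) fc1
      simp only [mul_inv_rev, inv_inv, hci] at h2
      rw [hci, ← h2, mul_assoc]
    rw [h1, conj_pow, inv_pow, ht13, inv_one, mul_one, mul_inv_cancel]
  -- the normal subgroup `T`
  have m1 : t1 ∈ closure ({t1, t2} : Set K) := subset_closure (by simp)
  have m2 : t2 ∈ closure ({t1, t2} : Set K) := subset_closure (by simp)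
  have hT : (closure ({t1, t2} : Set K)).Normal := by
    apply normal_closure_of_gens _ hgen
    intro s hs t htt
    have hs' : s = a ∨ s = b ∨ s = c := by simpa using hs
    have ht' : t = t1 ∨ t = t2 := by simpa using htt
    rcases hs' with rfl | rfl | rfl <;> rcases ht' with rfl | rfl
    · rw [hai, fa1]; exact ⟨inv_mem m1, inv_mem m1⟩
    · rw [hai, fa2]; exact ⟨mul_mem m1 m2, mul_mem m1 m2⟩
    · rw [hbi, fb1]; exact ⟨mul_mem m1 m2, mul_mem m1 m2⟩
    · rw [hbi, fb2]; exact ⟨inv_mem m2, inv_mem m2⟩
    · rw [hci, fc1]; exact ⟨inv_mem m2, inv_mem m2⟩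
    · rw [hci, fc2]; exact ⟨inv_mem m1, inv_mem m1⟩
  -- `|T|` divides 9
  have hT9 : Nat.card (closure ({t1, t2} : Set K)) ∣ 9 := by
    have hg : closure ({⟨t1, m1⟩, ⟨t2, m2⟩} : Set (closure ({t1, t2} : Set K))) = ⊤ := by
      have h0 := Subgroup.closure_closure_coe_preimage (k := ({t1, t2} : Set K))
      have hset : ((↑) : closure ({t1, t2} : Set K) → K) ⁻¹' ({t1, t2} : Set K) =
          ({⟨t1, m1⟩, ⟨t2, m2⟩} : Set (closure ({t1, t2} : Set K))) := by
        ext ⟨x, hx⟩
        simp [Subtype.ext_iff]
      rw [← hset]; exact h0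
    exact (card_dvd_nine (⟨t1, m1⟩ : closure ({t1, t2} : Set K)) ⟨t2, m2⟩ hg
      (Subtype.ext hcomm) (Subtype.ext (by simpa using ht13))
      (Subtype.ext (by simpa using ht23))).2
  -- `|K/T|` divides 6
  have hQ6 : Nat.card (K ⧸ closure ({t1, t2} : Set K)) ∣ 6 := by
    have hcbar : ((c : K) : K ⧸ closure ({t1, t2} : Set K)) =
        ((a * (b * a) : K) : K ⧸ closure ({t1, t2} : Set K)) := by
      rw [eq_comm, QuotientGroup.eq]
      have : (a * (b * a))⁻¹ * c = t1 * t2 := by
        rw [inv_mul_eq_iff_eq_mul]; exact ecc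
      rw [this]; exact mul_mem m1 m2
    have hg : closure ({((a : K) : K ⧸ closure ({t1, t2} : Set K)),
        ((b : K) : K ⧸ closure ({t1, t2} : Set K))} : Set (K ⧸ closure ({t1, t2} : Set K))) = ⊤ := by
      apply top_unique
      have h0 : (closure ({a, b, c} : Set K)).map (QuotientGroup.mk' (closure ({t1, t2} : Set K))) = ⊤ := by
        rw [hgen, ← MonoidHom.range_eq_map,
          MonoidHom.range_eq_top.2 (QuotientGroup.mk'_surjective _)]
      rw [← h0, MonoidHom.map_closure, closure_le]
      rintro _ ⟨s, hs, rfl⟩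
      have hs' : s = a ∨ s = b ∨ s = c := by simpa using hs
      have ma : ((a : K) : K ⧸ closure ({t1, t2} : Set K)) ∈ closure
          ({((a : K) : K ⧸ closure ({t1, t2} : Set K)),
            ((b : K) : K ⧸ closure ({t1, t2} : Set K))} : Set (K ⧸ closure ({t1, t2} : Set K))) :=
        subset_closure (by simp)
      have mb : ((b : K) : K ⧸ closure ({t1, t2} : Set K)) ∈ closure
          ({((a : K) : K ⧸ closure ({t1, t2} : Set K)),
            ((b : K) : K ⧸ closure ({t1, t2} : Set K))} : Set (K ⧸ closure ({t1, t2} : Set K))) :=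
        subset_closure (by simp)
      rcases hs' with rfl | rfl | rfl
      · exact ma
      · exact mb
      · change ((s : K) : K ⧸ closure ({t1, t2} : Set K)) ∈ _
        rw [hcbar, QuotientGroup.mk_mul, QuotientGroup.mk_mul]
        exact mul_mem ma (mul_mem mb ma)
    exact (card_dvd_six _ _ hg (by rw [← QuotientGroup.mk_mul, ha]; rfl)
      (by rw [← QuotientGroup.mk_mul, hb]; rfl)
      (by rw [← QuotientGroup.mk_mul, ← QuotientGroup.mk_pow, hab]; rfl)).2
  have := card_dvd_of_normal (closure ({t1, t2} : Set K)) (by norm_num : 0 < 9)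
    (by norm_num : 0 < 6) hT9 hQ6
  simpa using this

end Cfsg.Agent.Lib.Helper64.TT68
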