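import Mathlib
import Cfsg.Agent.Lib.Helper64.PrimDer

/-!
Three conjugacy classes of derangements in a primitive group with non-abelian minimal normal
subgroup that is not almost simple.
-/

namespace Cfsg.Agent.Lib.Helper64

open MulAction

section WSet

variable {G : Type*} [Group G]

/-- the conjugates of `T` not centralised by `x` -/
def wset (T : Subgroup G) (x : G) : Set (Subgroup G) :=
  {U | (∃ h : G, U = cj h T) ∧ x ∉ Subgroup.centralizer (U : Set G)}

theorem cj_injective (k : G) : Function.Injective (cj k : Subgroup G → Subgroup G) := by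
  intro A B h
  have := congrArg (cj k⁻¹) h
  rwa [cj_inv_cj, cj_inv_cj] at this

theorem wset_conj (T : Subgroup G) (x k : G) :
    wset T (k * x * k⁻¹) = (cj k) '' wset T x := by
  ext U
  constructor
  · rintro ⟨⟨h, rfl⟩, hU⟩
    refine ⟨cj k⁻¹ (cj h T), ⟨⟨k⁻¹ * h, by rw [cj_mul]⟩, ?_⟩, cj_cj_inv k _⟩
    rw [← cj_centralizer, mem_cj]
    simpa using hU
  · rintro ⟨V, ⟨⟨h, rfl⟩, hV⟩, rfl⟩
    refine ⟨⟨k * h, by rw [cj_mul]⟩, ?_⟩
    rw [← cj_centralizer, mem_cj]
    have : k⁻¹ * (k * x * k⁻¹) * k = x := by group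
    rwa [this]

theorem ncard_wset_conj (T : Subgroup G) (x k : G) :
    (wset T (k * x * k⁻¹)).ncard = (wset T x).ncard := by
  rw [wset_conj, Set.ncard_image_of_injective _ (cj_injective k)]

theorem ncard_wset_of_isConj (T : Subgroup G) {x y : G} (h : IsConj x y) :
    (wset T x).ncard = (wset T y).ncard := by
  rw [isConj_iff] at h
  obtain ⟨k, rfl⟩ := h
  exact (ncard_wset_conj T x k).symm

theorem inf_centralizer_cj {T : Subgroup G} (hc : T ⊓ Subgroup.centralizer (T : Set G) = ⊥)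
    (a : G) : cj a T ⊓ Subgroup.centralizer (cj a T : Set G) = ⊥ := by
  rw [eq_bot_iff]
  intro x hx
  have h1 : a⁻¹ * x * a ∈ T := mem_cj.mp hx.1
  have h2 : a⁻¹ * x * a ∈ Subgroup.centralizer (T : Set G) := by
    have := hx.2
    rw [← cj_centralizer] at this
    exact mem_cj.mp this
  have : a⁻¹ * x * a ∈ T ⊓ Subgroup.centralizer (T : Set G) := ⟨h1, h2⟩
  rw [hc, Subgroup.mem_bot] at this
  rw [Subgroup.mem_bot]
  have e : x = a * (a⁻¹ * x * a) * a⁻¹ := by group
  rw [e, this]; group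

theorem wset_mul {N T : Subgroup G} (hN : N.Normal) (hT : IsMinInv N T)
    (hc : T ⊓ Subgroup.centralizer (T : Set G) = ⊥) {T₁ T₂ : Subgroup G}
    (h1 : ∃ a, T₁ = cj a T) (h2 : ∃ b, T₂ = cj b T) (hne : T₁ ≠ T₂) {y y' : G}
    (hy : y ∈ T₁) (hy' : y' ∈ T₂) :
    wset T (y * y') = {U | (U = T₁ ∧ y ≠ 1) ∨ (U = T₂ ∧ y' ≠ 1)} := by
  obtain ⟨a, rfl⟩ := h1
  obtain ⟨b, rfl⟩ := h2
  have hT₁ := hT.cj hN a
  have hT₂ := hT.cj hN b
  have hc₁ := inf_centralizer_cj hc a
  have hc₂ := inf_centralizer_cj hc b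
  have h12 : cj b T ≤ Subgroup.centralizer (cj a T : Set G) := hT₁.le_centralizer_of_ne hT₂ hne
  have h21 : cj a T ≤ Subgroup.centralizer (cj b T : Set G) :=
    hT₂.le_centralizer_of_ne hT₁ (Ne.symm hne)
  ext U
  constructor
  · rintro ⟨⟨h, rfl⟩, hU⟩
    by_cases hU1 : cj h T = cj a T
    · left
      refine ⟨hU1, ?_⟩
      rintro rfl
      apply hU
      rw [one_mul, hU1]
      exact h12 hy'
    · by_cases hU2 : cj h T = cj b T
      · right
        refine ⟨hU2, ?_⟩
        rintro rfl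
        apply hU
        rw [mul_one, hU2]
        exact h21 hy
      · exfalso
        apply hU
        have hTh := hT.cj hN h
        exact Subgroup.mul_mem _ (hTh.le_centralizer_of_ne hT₁ hU1 hy)
          (hTh.le_centralizer_of_ne hT₂ hU2 hy')
  · rintro (⟨rfl, hy1⟩ | ⟨rfl, hy1⟩)
    · refine ⟨⟨a, rfl⟩, fun hmem => ?_⟩
      have : y ∈ Subgroup.centralizer (cj a T : Set G) := by
        have := Subgroup.mul_mem _ hmem (Subgroup.inv_mem _ (h12 hy'))
        simpa using this
      have : y ∈ cj a T ⊓ Subgroup.centralizer (cj a T : Set G) := ⟨hy, this⟩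
      rw [hc₁, Subgroup.mem_bot] at this
      exact hy1 this
    · refine ⟨⟨b, rfl⟩, fun hmem => ?_⟩
      have : y' ∈ Subgroup.centralizer (cj b T : Set G) := by
        have := Subgroup.mul_mem _ (Subgroup.inv_mem _ (h21 hy)) hmem
        simpa using this
      have : y' ∈ cj b T ⊓ Subgroup.centralizer (cj b T : Set G) := ⟨hy', this⟩
      rw [hc₂, Subgroup.mem_bot] at this
      exact hy1 this

theorem ncard_or_set {α : Type*} {A B : α} (hAB : A ≠ B) (P Q : Prop) [Decidable P] [Decidable Q] :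
    ({U | (U = A ∧ P) ∨ (U = B ∧ Q)} : Set α).ncard =
      (if P then 1 else 0) + (if Q then 1 else 0) := by
  by_cases hP : P <;> by_cases hQ : Q
  · have : ({U | (U = A ∧ P) ∨ (U = B ∧ Q)} : Set α) = {A, B} := by
      ext U; simp [hP, hQ]
    rw [this, Set.ncard_pair hAB]; simp [hP, hQ]
  · have : ({U | (U = A ∧ P) ∨ (U = B ∧ Q)} : Set α) = {A} := by
      ext U; simp [hP, hQ]
    rw [this, Set.ncard_singleton]; simp [hP, hQ]
  · have : ({U | (U = A ∧ P) ∨ (U = B ∧ Q)} : Set α) = {B} := by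
      ext U; simp [hP, hQ]
    rw [this, Set.ncard_singleton]; simp [hP, hQ]
  · have : ({U | (U = A ∧ P) ∨ (U = B ∧ Q)} : Set α) = ∅ := by
      ext U; simp [hP, hQ]
    rw [this, Set.ncard_empty]; simp [hP, hQ]

theorem ncard_wset_mul {N T : Subgroup G} (hN : N.Normal) (hT : IsMinInv N T)
    (hc : T ⊓ Subgroup.centralizer (T : Set G) = ⊥) {T₁ T₂ : Subgroup G}
    (h1 : ∃ a, T₁ = cj a T) (h2 : ∃ b, T₂ = cj b T) (hne : T₁ ≠ T₂) {y y' : G}
    (hy : y ∈ T₁) (hy' : y' ∈ T₂) [Decidable (y ≠ 1)] [Decidable (y' ≠ 1)] :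
    (wset T (y * y')).ncard = (if y ≠ 1 then 1 else 0) + (if y' ≠ 1 then 1 else 0) := by
  rw [wset_mul hN hT hc h1 h2 hne hy hy', ncard_or_set hne]

end WSet

section Three

variable {G Ω : Type*} [Group G] [MulAction G Ω]

theorem orderOf_eq_of_isConj {x y : G} (h : IsConj x y) : orderOf x = orderOf y := by
  rw [isConj_iff] at h
  obtain ⟨k, rfl⟩ := h
  have := (MulAut.conj k).orderOf_eq x
  rw [MulAut.conj_apply] at this
  exact this.symm

theorem exists_three_derangements [Finite G] [FaithfulSMul G Ω]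
    (hprim : IsPreprimitive G Ω)
    (N : Subgroup G) (hN : N.Normal) (hN1 : N ≠ ⊥)
    (hmin : ∀ M : Subgroup G, M.Normal → M ≤ N → M = ⊥ ∨ M = N)
    (hNc : ¬ ∀ x ∈ N, ∀ y ∈ N, x * y = y * x)
    (hnas : ¬ ∃ T : Subgroup G, T.Normal ∧ IsSimpleGroup T ∧ ¬ IsMulCommutative T ∧
      Subgroup.centralizer (T : Set G) = ⊥) :
    ∃ x₀ x₁ x₂ : G, (∀ ω : Ω, x₀ • ω ≠ ω) ∧ (∀ ω : Ω, x₁ • ω ≠ ω) ∧ (∀ ω : Ω, x₂ • ω ≠ ω) ∧
      ¬ IsConj x₀ x₁ ∧ ¬ IsConj x₀ x₂ ∧ ¬ IsConj x₁ x₂ := by
  classical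
  rcases prim_minNormal_cases hprim N hN hN1 hmin hNc hnas with
    ⟨T, t, t', s, p, q, hp, hq, hpq, ht, ht', hto, hto', hso, hts, hsr⟩ |
    ⟨T, g, t, a, b, p, q, hT, hc, hg, htT, ht1, hp, hq, hpq, haT, hbT, hao, hbo, hder⟩
  · obtain ⟨h1, h2, h3, h4⟩ := caseI_derangements T hp hq hpq ht ht' hto hto' hso hts hsr
    refine ⟨t, t', t * s, h1, h2, h3, ?_, ?_, ?_⟩
    · intro h
      have := orderOf_eq_of_isConj h
      rw [hto, hto'] at this
      exact hpq this
    · intro h
      have := orderOf_eq_of_isConj h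
      rw [hto, h4] at this
      have : p * 1 = p * q := by rw [mul_one]; exact this
      have := Nat.eq_of_mul_eq_mul_left hp.pos this
      exact hq.one_lt.ne this
    · intro h
      have := orderOf_eq_of_isConj h
      rw [hto', h4] at this
      have : 1 * q = p * q := by rw [one_mul]; exact this
      have := Nat.eq_of_mul_eq_mul_right hq.pos this
      exact hp.one_lt.ne this
  · have hT' := hT.cj hN g
    have hne : T ≠ cj g T := Ne.symm hg
    have hcent : cj g T ≤ Subgroup.centralizer (T : Set G) := hT.le_centralizer_of_ne hT' hne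
    have hK : ∀ e ∈ T, g * e * g⁻¹ ∈ N ⊓ Subgroup.centralizer (T : Set G) := fun e he =>
      Subgroup.mem_inf.mpr ⟨cj_le_of_normal hN hT.le g (conj_mem_cj he), hcent (conj_mem_cj he)⟩
    have h1T : ∃ a, T = cj a T := ⟨1, (cj_one T).symm⟩
    have h2T : ∃ b, cj g T = cj b T := ⟨g, rfl⟩
    set s := g * a * g⁻¹ with hs
    set s' := g * b * g⁻¹ with hs'
    have hsT : s ∈ cj g T := conj_mem_cj haT
    have hsT' : s' ∈ cj g T := conj_mem_cj hbT
    have hso : orderOf s = p := by
      have := (MulAut.conj g).orderOf_eq a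
      rw [MulAut.conj_apply] at this
      rw [hs, this, hao]
    have hso' : orderOf s' = q := by
      have := (MulAut.conj g).orderOf_eq b
      rw [MulAut.conj_apply] at this
      rw [hs', this, hbo]
    have hs1 : s ≠ 1 := by
      intro h; rw [h, orderOf_one] at hso; exact hp.one_lt.ne hso
    have hs1' : s' ≠ 1 := by
      intro h; rw [h, orderOf_one] at hso'; exact hq.one_lt.ne hso'
    have hcs : Commute t s := (Subgroup.mem_centralizer_iff.mp (hK a haT).2) t htT
    have hcs' : Commute t s' := (Subgroup.mem_centralizer_iff.mp (hK b hbT).2) t htT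
    -- the invariants
    have w0 : (wset T (t * 1)).ncard = 1 := by
      rw [ncard_wset_mul hN hT hc h1T h2T hne htT (Subgroup.one_mem _)]
      simp [ht1]
    have w1 : (wset T (t * s)).ncard = 2 := by
      rw [ncard_wset_mul hN hT hc h1T h2T hne htT hsT]
      simp [ht1, hs1]
    have w2 : (wset T (t * s')).ncard = 2 := by
      rw [ncard_wset_mul hN hT hc h1T h2T hne htT hsT']
      simp [ht1, hs1']
    refine ⟨t * 1, t * s, t * s', hder 1 (Subgroup.one_mem _), hder s (hK a haT),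
      hder s' (hK b hbT), ?_, ?_, ?_⟩
    · intro h
      have := ncard_wset_of_isConj T h
      omega
    · intro h
      have := ncard_wset_of_isConj T h
      omega
    · intro h
      rw [isConj_iff] at h
      obtain ⟨k, hk⟩ := h
      have hpow : k * (t * s) ^ p * k⁻¹ = (t * s') ^ p := by
        rw [← conj_pow, hk]
      have e1 : (t * s) ^ p = t ^ p * 1 := by
        rw [hcs.mul_pow, ← hso, pow_orderOf_eq_one]
      have e2 : (t * s') ^ p = t ^ p * s' ^ p := hcs'.mul_pow p
      have hsp : s' ^ p ≠ 1 := by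
        intro h
        have := orderOf_dvd_of_pow_eq_one h
        rw [hso'] at this
        exact hpq ((Nat.prime_dvd_prime_iff_eq hq hp).mp this).symm
      have := ncard_wset_conj T ((t * s) ^ p) k
      rw [hpow, e1, e2,
        ncard_wset_mul hN hT hc h1T h2T hne (T.pow_mem htT p) (Subgroup.one_mem _),
        ncard_wset_mul hN hT hc h1T h2T hne (T.pow_mem htT p) (Subgroup.pow_mem _ hsT' p)] at this
      simp [hsp] at this

end Three

end Cfsg.Agent.Lib.Helper64
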